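import Mathlib
import Cfsg.Agent.Part.ItoF
import Cfsg.Agent.Lyons.Tools
import Cfsg.Agent.FGS.SolvRad
import Cfsg.Agent.Grp.Fitting
import Cfsg.Agent.S4039
import Cfsg.Agent.S4040

/-! Nonsolvable minimal non-CA groups: the basic local facts. -/

set_option autoImplicit false
set_option linter.unusedSectionVars false

namespace Cfsg.Agent.MinS.CA

open Subgroup Cfsg Cfsg.Agent.PLocal Cfsg.Agent.PLocal.Amb Cfsg.Agent.Part.Ito

variable {G : Type*} [Group G]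

/-- commutative subgroup -/
def Ab (H : Subgroup G) : Prop := ∀ a ∈ H, ∀ b ∈ H, Commute a b

theorem Ab.mono {H K : Subgroup G} (h : Ab K) (hle : H ≤ K) : Ab H :=
  fun a ha b hb => h a (hle ha) b (hle hb)

theorem ab_iff {H : Subgroup G} : Ab H ↔ IsMulCommutative H :=
  ⟨fun h => ⟨⟨fun a b => Subtype.ext (h a a.2 b b.2).eq⟩⟩,
    fun h a ha b hb => congrArg Subtype.val (h.1.1 ⟨a, ha⟩ ⟨b, hb⟩)⟩

theorem Ab.solv {H : Subgroup G} (h : Ab H) : Group.IsSolvable H :=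
  Group.isSolvable_of_comm fun a b => Subtype.ext (h a a.2 b b.2).eq

theorem Ab.le_c1 {H : Subgroup G} (h : Ab H) {x : G} (hx : x ∈ H) : H ≤ ℭ[x] :=
  fun a ha => mem_c1.2 (h a ha x hx)

theorem Ab.cj {H : Subgroup G} (h : Ab H) (g : G) : Ab cj(g, H) := fun a ha b hb => by
  have := (h _ (mem_cj.1 ha) _ (mem_cj.1 hb)).map (MulAut.conj g)
  simpa [mul_assoc] using this

theorem Ab.map {H : Subgroup G} (h : Ab H) {Q : Type*} [Group Q] (f : G →* Q) : Ab (H.map f) := by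
  rintro _ ⟨a, ha, rfl⟩ _ ⟨b, hb, rfl⟩
  exact (h a ha b hb).map f

theorem mem_cent_iff {H : Subgroup G} {x : G} : x ∈ 𝐂[H] ↔ ∀ a ∈ H, Commute a x :=
  mem_centralizer_iff

theorem cent_le_c1 {H : Subgroup G} {x : G} (hx : x ∈ H) : 𝐂[H] ≤ ℭ[x] :=
  fun _ hg => mem_c1.2 (mem_cent_iff.1 hg x hx).symm

theorem mem_cent_of_le {H : Subgroup G} {x : G} (h : H ≤ ℭ[x]) : x ∈ 𝐂[H] :=
  mem_cent_iff.2 fun _ ha => mem_c1.1 (h ha)

theorem normal_of_norm_top {H : Subgroup G} (h : 𝐍[H] = ⊤) : H.Normal := normalizer_eq_top_iff.1 h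

/-- noncentral element with a noncommutative centralizer -/
def Bad (x : G) : Prop := x ∉ center G ∧ ¬ Ab ℭ[x]

theorem Bad.conj {x : G} (h : Bad x) (g : G) : Bad (g * x * g⁻¹) := by
  refine ⟨not_mem_center_conj h.1 g, fun h2 => h.2 ?_⟩
  have := h2.cj g⁻¹
  rwa [centralizer_singleton_conj, cj_inv_cj] at this

theorem Bad.of_le {x y : G} (h : Bad x) (hy : y ∉ center G) (hle : ℭ[x] ≤ ℭ[y]) : Bad y :=
  ⟨hy, fun h2 => h.2 (h2.mono hle)⟩

theorem c1_ne_top {x : G} (h : x ∉ center G) : ℭ[x] ≠ ⊤ := fun e => h (c1_eq_top_iff.1 e)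

/-- nonsolvable, not CA, all proper subgroups CA -/
structure MC (G : Type*) [Group G] : Prop where
  ns : ¬ Group.IsSolvable G
  U : ∀ {H K : Subgroup G} {x : G}, H ≠ ⊤ → x ∈ H → K ≤ H → K ≤ ℭ[x] → ¬ Ab K → H ≤ ℭ[x]
  ex : ∃ x : G, Bad x

variable [Finite G]

theorem solv_odd {H : Subgroup G} (h : Odd (Nat.card H)) : Group.IsSolvable H := S0205.result h

theorem solv_pgrp {p : ℕ} [Fact p.Prime] {H : Subgroup G} (h : IsPGroup p H) :
    Group.IsSolvable H := by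
  have := h.isNilpotent
  infer_instance

theorem solv_top {H : Subgroup G} (h : Group.IsSolvable H) (e : H = ⊤) : Group.IsSolvable G := by
  subst e
  exact Group.isSolvable_of_surjective (f := (⊤ : Subgroup G).subtype) fun x => ⟨⟨x, mem_top x⟩, rfl⟩

theorem solv_sup {A B : Subgroup G} (hA : Group.IsSolvable A) (hB : Group.IsSolvable B)
    (h : A ≤ 𝐍[B]) : Group.IsSolvable (A ⊔ B : Subgroup G) := by
  have hn : (B.subgroupOf (A ⊔ B)).Normal := normal_subgroupOf' (sup_le h le_normalizer)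
  have h1 : Group.IsSolvable (A.subgroupOf (A ⊔ B)) :=
    Group.isSolvable_of_surjective (f := (subgroupOfEquivOfLe (le_sup_left : A ≤ A ⊔ B)).symm.toMonoidHom)
      (subgroupOfEquivOfLe (le_sup_left : A ≤ A ⊔ B)).symm.surjective
  have h2 : Group.IsSolvable (B.subgroupOf (A ⊔ B)) :=
    Group.isSolvable_of_surjective (f := (subgroupOfEquivOfLe (le_sup_right : B ≤ A ⊔ B)).symm.toMonoidHom)
      (subgroupOfEquivOfLe (le_sup_right : B ≤ A ⊔ B)).symm.surjective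
  refine solv_top (FGS.isSolvable_sup_of_normal h1 h2) ?_
  rw [← subgroupOf_sup le_sup_left le_sup_right, subgroupOf_self]

theorem solv_inf_norm {T L : Subgroup G} (h : IsSyl 2 T L) :
    Group.IsSolvable (L ⊓ 𝐍[T] : Subgroup G) := by
  have hle : T ≤ L ⊓ 𝐍[T] := le_inf h.le le_normalizer
  have h0 := (h.mono hle inf_le_left).not_dvd_relIndex
  have hn : (T.subgroupOf (L ⊓ 𝐍[T])).Normal := normal_subgroupOf' inf_le_right
  have h1 : Group.IsSolvable (↥(L ⊓ 𝐍[T]) ⧸ T.subgroupOf (L ⊓ 𝐍[T])) :=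
    S0205.result (Nat.odd_iff.2 (Nat.two_dvd_ne_zero.1 h0))
  have h2 : Group.IsSolvable (T.subgroupOf (L ⊓ 𝐍[T])) :=
    solv_pgrp (Amb.isPGroup_subgroupOf h.pgrp _)
  exact Group.isSolvable_of_ker_le_range (T.subgroupOf (L ⊓ 𝐍[T])).subtype
    (QuotientGroup.mk' (T.subgroupOf (L ⊓ 𝐍[T]))) (by simp)

theorem solv_of_burn {T L : Subgroup G} (h : IsSyl 2 T L) (hc : L ⊓ 𝐍[T] ≤ 𝐂[T]) :
    Group.IsSolvable L := by
  have e : L = T ⊔ Lyons.oc L := le_antisymm (fun g hg => by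
    obtain ⟨o, ho, t, ht, rfl⟩ := Lyons.burn h hc hg
    exact mul_mem (mem_sup_right ho) (mem_sup_left ht)) (sup_le h.le (Lyons.oc_le L))
  rw [e]
  exact solv_sup (solv_pgrp h.pgrp) (solv_odd (Lyons.odd_oc L)) (h.le.trans (Lyons.le_norm_oc L))

theorem not_ab_inf_norm {T L : Subgroup G} (h : IsSyl 2 T L) (hL : ¬ Group.IsSolvable L) :
    ¬ Ab (L ⊓ 𝐍[T]) := fun hab =>
  hL (solv_of_burn h fun g hg => mem_cent_iff.2 fun a ha =>
    hab a (mem_inf.2 ⟨h.le ha, le_normalizer ha⟩) g hg)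

namespace MC

variable (h : MC G)
include h

theorem coatom {x : G} (hx : Bad x) : IsCoatom ℭ[x] :=
  ⟨c1_ne_top hx.1, fun H hH => by
    by_contra hne
    exact hH.not_ge (h.U hne (hH.le (self_mem_c1 x)) hH.le le_rfl hx.2)⟩

theorem exists_solv {x : G} (hx : Bad x) :
    ∃ K : Subgroup G, x ∈ K ∧ K ≤ ℭ[x] ∧ ¬ Ab K ∧ Group.IsSolvable K := by
  by_cases hs : Group.IsSolvable ℭ[x]
  · exact ⟨_, self_mem_c1 x, le_rfl, hx.2, hs⟩
  obtain ⟨T, hT⟩ := exists_isSyl 2 ℭ[x]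
  exact ⟨ℭ[x] ⊓ 𝐍[T], mem_inf.2 ⟨self_mem_c1 x,
    centralizer_le_normalizer' T (mem_cent_of_le hT.le)⟩, inf_le_left, not_ab_inf_norm hT hs,
    solv_inf_norm hT⟩

theorem not_normal {x : G} (hx : Bad x) : ¬ (ℭ[x]).Normal := fun hn => by
  by_cases hs : Group.IsSolvable ℭ[x]
  · obtain ⟨g, hg⟩ : ∃ g, g ∉ ℭ[x] := by
      by_contra hc
      exact c1_ne_top hx.1 (eq_top_iff.2 fun g _ => by_contra fun hg => hc ⟨g, hg⟩)
    have e : zpowers g ⊔ ℭ[x] = ⊤ := (h.coatom hx).2 _ (lt_of_le_of_ne le_sup_right fun e =>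
      hg (e ▸ mem_sup_left (mem_zpowers g)))
    exact h.ns (solv_top (FGS.isSolvable_sup_of_normal inferInstance hs) e)
  obtain ⟨T, hT⟩ := exists_isSyl 2 ℭ[x]
  have h1 := hT.frattini_sup (L := ⊤) le_top (normalizer_eq_top_iff.2 hn).ge
  have h2 : 𝐍[T] ≠ ⊤ := fun e => hs (by
    have := solv_inf_norm hT
    rwa [e, inf_top_eq] at this)
  have h3 := h.U h2 (centralizer_le_normalizer' T (mem_cent_of_le hT.le)) inf_le_right inf_le_left
    (not_ab_inf_norm hT hs)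
  exact c1_ne_top hx.1 (by rw [← h1, top_inf_eq, sup_eq_left.2 h3])

theorem norm_c1 {x : G} (hx : Bad x) : 𝐍[ℭ[x]] = ℭ[x] := by
  rcases (le_normalizer : ℭ[x] ≤ 𝐍[ℭ[x]]).eq_or_lt with e | e
  · exact e.symm
  · exact absurd (normal_of_norm_top ((h.coatom hx).2 _ e)) (h.not_normal hx)

theorem mem_of_c1_eq {x g : G} (hx : Bad x) (e : ℭ[g * x * g⁻¹] = ℭ[x]) : g ∈ ℭ[x] :=
  h.norm_c1 hx ▸ norm_c1_of_eq e

theorem c1_eq {x y : G} (hx : x ∉ center G) (hy : y ∉ center G) (hc : Commute x y)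
    (hn : ¬ Ab (ℭ[x] ⊓ ℭ[y])) : ℭ[x] = ℭ[y] :=
  le_antisymm (h.U (c1_ne_top hx) (mem_c1.2 hc.symm) inf_le_left inf_le_right hn)
    (h.U (c1_ne_top hy) (mem_c1.2 hc) inf_le_right inf_le_left hn)

theorem ab_inf {x g : G} (hx : Bad x) (hg : g ∉ ℭ[x]) (hc : Commute x (g * x * g⁻¹)) :
    Ab (ℭ[x] ⊓ ℭ[g * x * g⁻¹]) := by
  by_contra hn
  exact hg (h.mem_of_c1_eq hx (h.c1_eq hx.1 (hx.conj g).1 hc hn).symm)

theorem le_c1_of_solv {N : Subgroup G} [N.Normal] (hN : Group.IsSolvable N) {x : G} (hx : Bad x) :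
    N ≤ ℭ[x] := by
  obtain ⟨K, h1, h2, h3, h4⟩ := h.exists_solv hx
  have : K ⊔ N ≠ ⊤ := fun e => h.ns (solv_top (FGS.isSolvable_sup_of_normal h4 hN) e)
  exact le_sup_right.trans (h.U this (mem_sup_left h1) le_sup_left h2 h3)

theorem exists_noncomm : ∃ x y : G, Bad x ∧ Bad y ∧ ¬ Commute x y := by
  by_contra hc
  have hc' : ∀ x y : G, Bad x → Bad y → Commute x y := fun x y hx hy =>
    by_contra fun hn => hc ⟨x, y, hx, hy, hn⟩
  obtain ⟨x, hx⟩ := h.ex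
  set R := solvableRadical G with hR
  have hRs := FGS.isSolvable_solvableRadical G
  have hxR : ∀ g, g * x * g⁻¹ ∈ R := fun g => by
    refine (inferInstance : R.Normal).conj_mem _ (FGS.mem_solvableRadical_iff.2 (Ab.solv ?_)) g
    have hb : ∀ y ∈ Group.conjugatesOfSet ({x} : Set G), Bad y := fun y hy => by
      obtain ⟨a, ha, c, hc⟩ := Group.mem_conjugatesOfSet_iff.1 hy
      obtain rfl := Set.mem_singleton_iff.1 ha
      have : y = c * a * (c : G)⁻¹ := by rw [hc.eq]; group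
      exact this ▸ hx.conj c
    rw [ab_iff]
    exact isMulCommutative_closure (k := Group.conjugatesOfSet ({x} : Set G))
      fun a ha b hb' => (hc' a b (hb a ha) (hb b hb')).eq
  have key : ∀ g, g ∉ ℭ[x] → ℭ[x] ⊓ ℭ[g * x * g⁻¹] ≤ R ∧ Ab (ℭ[x] ⊓ ℭ[g * x * g⁻¹]) := by
    intro g hg
    have hab := h.ab_inf hx hg (hc' _ _ hx (hx.conj g))
    refine ⟨fun y hy => ?_, hab⟩
    have hRD : R ≤ ℭ[x] ⊓ ℭ[g * x * g⁻¹] :=
      le_inf (h.le_c1_of_solv hRs hx) (h.le_c1_of_solv hRs (hx.conj g))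
    have h1 : (ℭ[x]).normalCore ≤ ℭ[x] ⊓ ℭ[g * x * g⁻¹] := by
      refine le_inf (normalCore_le _) ?_
      rw [centralizer_singleton_conj, ← cj_of_normal g (ℭ[x]).normalCore]
      exact cj_mono g (normalCore_le _)
    refine FGS.le_solvableRadical inferInstance (hab.mono h1).solv ?_
    intro b
    have := (hab y hy _ (hRD (hxR b⁻¹))).map (MulAut.conj b)
    rw [mem_c1]
    simpa [mul_assoc] using this
  have hRM := h.le_c1_of_solv hRs hx
  have hF : IsFrobeniusComplement ((ℭ[x]).map (QuotientGroup.mk' R)) := by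
    refine Solv.Frob.isFrobeniusComplement_iff.2 ⟨fun e => ?_, fun e => ?_, ?_⟩
    · obtain ⟨g, hg⟩ : ∃ g, g ∉ ℭ[x] := by
        by_contra hc
        exact c1_ne_top hx.1 (eq_top_iff.2 fun g _ => by_contra fun hg => hc ⟨g, hg⟩)
      rw [Subgroup.map_eq_bot_iff, QuotientGroup.ker_mk'] at e
      exact hx.2 ((key g hg).2.mono (le_inf le_rfl (e.trans (h.le_c1_of_solv hRs (hx.conj g)))))
    · have := congrArg (comap (QuotientGroup.mk' R)) e
      rw [comap_map_eq, QuotientGroup.ker_mk', sup_eq_left.2 hRM, comap_top] at this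
      exact c1_ne_top hx.1 this
    · intro g y hy hy1 hgy
      obtain ⟨g, rfl⟩ := QuotientGroup.mk'_surjective R g
      obtain ⟨y, hy, rfl⟩ := hy
      refine mem_map_of_mem _ (by_contra fun hg => hy1 ?_)
      have h1 : g * y * g⁻¹ ∈ ℭ[x] := by
        have : g * y * g⁻¹ ∈ ((ℭ[x]).map (QuotientGroup.mk' R)).comap (QuotientGroup.mk' R) := by
          rw [mem_comap, map_mul, map_mul, map_inv]; exact hgy
        rwa [comap_map_eq, QuotientGroup.ker_mk', sup_eq_left.2 hRM] at this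
      have h2 : y ∈ ℭ[g⁻¹ * x * g⁻¹⁻¹] := by
        rw [centralizer_singleton_conj, mem_cj]; simpa using h1
      exact (QuotientGroup.eq_one_iff y).2
        ((key g⁻¹ fun e => hg (by simpa using inv_mem e)).1 (mem_inf.2 ⟨hy, h2⟩))
  have h1 := Solv.Frob.isComplement'_fitting hF
  have h2 : fittingSubgroup (G ⧸ R) = ⊥ := eq_bot_iff.2 (by
    rw [← FGS.solvableRadical_quotient G]
    exact FGS.le_solvableRadical inferInstance inferInstance)
  rw [h2] at h1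
  exact hF.2.1 (isComplement'_bot_left.1 h1)

theorem le_center {N : Subgroup G} [hn : N.Normal] (hN : Group.IsSolvable N) : N ≤ center G := by
  intro y hy
  by_contra hz
  obtain ⟨a, b, ha, hb, hab⟩ := h.exists_noncomm
  have key : ∀ y ∈ N, a ∈ ℭ[y] ∧ b ∈ ℭ[y] := fun y hy =>
    ⟨mem_c1.2 (mem_c1.1 (h.le_c1_of_solv hN ha hy)).symm,
      mem_c1.2 (mem_c1.1 (h.le_c1_of_solv hN hb hy)).symm⟩
  have hB : Bad y := ⟨hz, fun h2 => hab (h2 a (key y hy).1 b (key y hy).2)⟩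
  refine c1_ne_top hz (eq_top_iff.2 fun g _ => by_contra fun hg => hab ?_)
  have hgy := hn.conj_mem y hy g
  exact h.ab_inf hB hg (mem_c1.1 (h.le_c1_of_solv hN hB hgy)).symm
    a (mem_inf.2 ⟨(key y hy).1, (key _ hgy).1⟩) b (mem_inf.2 ⟨(key y hy).2, (key _ hgy).2⟩)

theorem norm_ne_top {T : Subgroup G} (hT : Group.IsSolvable T) (hz : ¬ T ≤ center G) :
    𝐍[T] ≠ ⊤ := fun e => by
  have := normal_of_norm_top e
  exact hz (h.le_center hT)

theorem norm_le {T K : Subgroup G} {x : G} (hT : Group.IsSolvable T) (hz : ¬ T ≤ center G)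
    (hx : T ≤ ℭ[x]) (h1 : K ≤ 𝐍[T]) (h2 : K ≤ ℭ[x]) (h3 : ¬ Ab K) : 𝐍[T] ≤ ℭ[x] :=
  h.U (h.norm_ne_top hT hz) (centralizer_le_normalizer' T (mem_cent_of_le hx)) h1 h2 h3

theorem eq_top_of_sup {N : Subgroup G} (e : N ⊔ center G = ⊤) : N = ⊤ := by
  by_contra hne
  obtain ⟨x, hx⟩ := h.ex
  have dec : ∀ g : G, ∃ n ∈ N, ∃ z ∈ center G, g = n * z := fun g =>
    (mem_sup_of_le_normalizer_right (le_norm_center N)).1 (e ▸ mem_top g)
  obtain ⟨n, hn, z, hz, rfl⟩ := dec x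
  have e1 : ℭ[n * z] = ℭ[n] := by rw [(comm_of_center hz n).eq, c1_center_mul hz]
  have hna : ¬ Ab (N ⊓ ℭ[n]) := fun hab => hx.2 fun a ha b hb => by
    obtain ⟨a, ha', u, hu, rfl⟩ := dec a
    obtain ⟨b, hb', v, hv, rfl⟩ := dec b
    rw [e1] at ha hb
    have ha2 : a ∈ ℭ[n] := by simpa using mul_mem ha (inv_mem (center_le_c1 n hu))
    have hb2 : b ∈ ℭ[n] := by simpa using mul_mem hb (inv_mem (center_le_c1 n hv))
    exact ((hab a (mem_inf.2 ⟨ha', ha2⟩) b (mem_inf.2 ⟨hb', hb2⟩)).mul_right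
      (comm_of_center hv a)).mul_left (comm_of_center hu _).symm
  have := h.U hne hn inf_le_left inf_le_right hna
  exact c1_ne_top hx.1 (by rw [e1, eq_top_iff, ← e]; exact sup_le this (center_le_c1 n))

/-- two centralizers with noncommutative Sylow subgroups -/
theorem two {p : ℕ} [Fact p.Prime] {x y : G} {T S S' : Subgroup G}
    (hab : Ab (ℭ[x] ⊓ ℭ[y])) (hT : IsSyl p T (ℭ[x] ⊓ ℭ[y])) (hz : ¬ T ≤ center G)
    (hC : 𝐂[T] ≤ ℭ[x] ⊓ ℭ[y]) (hS : IsSyl p S ℭ[x]) (hS' : IsSyl p S' ℭ[y]) (n : ¬ Ab S)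
    (n' : ¬ Ab S') : False := by
  have key : ∀ {x : G} {S : Subgroup G}, IsSyl p S ℭ[x] → ¬ Ab S → T ≤ ℭ[x] →
      ∃ K, K ≤ 𝐍[T] ∧ ¬ Ab K ∧ 𝐍[T] ≤ ℭ[x] := by
    intro x S hS n hx
    obtain ⟨g, -, hg⟩ := hS.exists_le_cj hT.pgrp hx
    obtain ⟨S₁, hS₁, hle⟩ := exists_isSyl_ge hT.pgrp hx
    have n₁ : ¬ Ab S₁ := fun e => by
      obtain ⟨g, -, rfl⟩ := hS.exists_cj_eq hS₁
      exact n (e.cj g)
    have hlt := lt_inf_normalizer hS₁.pgrp (lt_of_le_of_ne hle fun e =>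
      n₁ (e ▸ hab.mono hT.le))
    have n₂ : ¬ Ab (S₁ ⊓ 𝐍[T]) := fun e => hlt.not_ge (hT.max _ (hS₁.pgrp.to_le inf_le_left) hlt.le
      (le_trans (fun a ha => mem_cent_iff.2 fun b hb => e b (hlt.le hb) a ha) hC))
    exact ⟨_, inf_le_right, n₂, h.norm_le (solv_pgrp hT.pgrp) hz hx inf_le_right
      (inf_le_left.trans hS₁.le) n₂⟩
  obtain ⟨K, h1, h2, h3⟩ := key hS n (hT.le.trans inf_le_left)
  obtain ⟨-, -, -, h4⟩ := key hS' n' (hT.le.trans inf_le_right)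
  exact h2 (hab.mono (h1.trans (le_inf h3 h4)))

end MC

end Cfsg.Agent.MinS.CA
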