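import Mathlib
import Cfsg.Agent.MinS.Known
import Cfsg.Agent.Class.PSL2MaxList
import Cfsg.Agent.Chev.SzSolub
import Cfsg.Agent.Perm.PrimeDegree
import Cfsg.Agent.Solv.NilpAmb
import Cfsg.Agent.Cust.PiHom
import Cfsg.Agent.Transfer.Frobenius

/-!
Elements of odd prime order whose solvable overgroups all lie in one proper subgroup, in
`PSL₂(q)`, `Sz(q)` and in groups of prime degree; failure of `Cent` in these groups.
-/

set_option autoImplicit false
set_option linter.unusedSectionVars false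

namespace Cfsg.Agent.MinS

open Subgroup Cfsg MulAction Cfsg.Agent.PLocal Cfsg.Agent.PLocal.Amb Cfsg.Agent.Class.Dickson
open scoped MatrixGroups LinearAlgebra.Projectivization

variable {G : Type*} [Group G]

/-- An element of odd prime order all of whose solvable overgroups lie in one proper subgroup. -/
def USol (G : Type*) [Group G] : Prop :=
  ∃ (x : G) (M : Subgroup G), (orderOf x).Prime ∧ orderOf x ≠ 2 ∧ M ≠ ⊤ ∧
    ∀ H : Subgroup G, Group.IsSolvable H → x ∈ H → H ≤ M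

theorem USol.equiv {H : Type*} [Group H] (h : USol G) (e : G ≃* H) : USol H := by
  obtain ⟨x, M, h1, h2, h3, h4⟩ := h
  refine ⟨e x, M.comap e.symm.toMonoidHom, by rwa [MulEquiv.orderOf_eq], by rwa [MulEquiv.orderOf_eq],
    fun h => h3 ?_, fun K hK hx => ?_⟩
  · rw [eq_top_iff]
    intro g _
    have : e g ∈ M.comap e.symm.toMonoidHom := h ▸ mem_top _
    simpa using this
  · rw [← map_le_iff_le_comap]
    refine h4 _ (solv_of_equiv (K.equivMapOfInjective _ e.symm.injective) hK) ⟨e x, hx, by simp⟩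

theorem usol_of_norm [IsSimpleGroup G] (hna : ¬ IsMulCommutative G) {x : G} (h1 : (orderOf x).Prime)
    (h2 : orderOf x ≠ 2) (h : ∀ H : Subgroup G, Group.IsSolvable H → x ∈ H → H ≤ 𝐍[zpowers x]) :
    USol G := by
  refine ⟨x, _, h1, h2, fun ht => ?_, h⟩
  rcases (normalizer_eq_top_iff.1 ht).eq_bot_or_eq_top with h3 | h3
  · rw [zpowers_eq_bot, ← orderOf_eq_one_iff] at h3
    exact h1.ne_one h3
  · refine hna ⟨⟨fun a b => ?_⟩⟩
    obtain ⟨i, rfl⟩ := mem_zpowers_iff.1 (h3 ▸ mem_top a : a ∈ zpowers x)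
    obtain ⟨j, rfl⟩ := mem_zpowers_iff.1 (h3 ▸ mem_top b : b ∈ zpowers x)
    exact (Commute.zpow_zpow_self x i j).eq

theorem le_norm_of_conj {H : Subgroup G} {x : G} (h : ∀ g ∈ H, g * x * g⁻¹ ∈ zpowers x) :
    H ≤ 𝐍[zpowers x] := by
  rw [le_normalizer_iff_cj]
  intro g hg
  rw [cj_le_iff_forall]
  rintro _ ⟨k, rfl⟩
  rw [← conj_zpow]
  exact zpow_mem (h g hg) k

theorem le_norm_of_cyc_dih {H : Subgroup G} {x : G} (hx : x ∈ H) (h2 : orderOf x ≠ 2)
    (h : IsCyclic H ∨ ∃ n, Nonempty (H ≃* DihedralGroup n)) : H ≤ 𝐍[zpowers x] := by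
  refine le_norm_of_conj fun g hg => ?_
  rcases h with h | ⟨n, ⟨e⟩⟩
  · have h1 := congrArg Subtype.val (IsCyclic.isMulCommutative.is_comm.comm (⟨g, hg⟩ : H) ⟨x, hx⟩)
    rw [show g * x = x * g from h1, mul_inv_cancel_right]
    exact mem_zpowers x
  · have key : e (⟨g, hg⟩ * ⟨x, hx⟩ * (⟨g, hg⟩ : H)⁻¹) = e ⟨x, hx⟩ ∨
        e (⟨g, hg⟩ * ⟨x, hx⟩ * (⟨g, hg⟩ : H)⁻¹) = e (⟨x, hx⟩ : H)⁻¹ := by
      rw [map_mul, map_mul, map_inv, map_inv]
      have h3 : orderOf (e ⟨x, hx⟩) ≠ 2 := by rwa [MulEquiv.orderOf_eq, Subgroup.orderOf_mk]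
      generalize e ⟨x, hx⟩ = a at h3 ⊢
      generalize e ⟨g, hg⟩ = b
      rcases a with i | i
      · rcases b with j | j
        · left; simp
        · right; simp
      · exact absurd (DihedralGroup.orderOf_sr i) h3
    rcases key with k | k
    · have := congrArg Subtype.val (e.injective k)
      simp only [coe_mul, coe_inv] at this
      rw [this]; exact mem_zpowers x
    · have := congrArg Subtype.val (e.injective k)
      simp only [coe_mul, coe_inv] at this
      rw [this]; exact inv_mem (mem_zpowers x)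

/-! ### Prime degree -/

section Prime
variable {Ω : Type*} [MulAction G Ω] [FaithfulSMul G Ω] [Finite G] {p : ℕ} [hp : Fact p.Prime]

omit [Finite G] in
theorem exists_pow_smul (hΩ : Nat.card Ω = p) {x : G} (hx : orderOf x = p) (a b : Ω) :
    ∃ k : ℤ, x ^ k • a = b := by
  have : Finite Ω := Nat.finite_of_card_ne_zero (hΩ ▸ hp.out.ne_zero)
  obtain ⟨c, hc⟩ : ∃ c : Ω, x • c ≠ c := by
    by_contra! h
    have : x = 1 := FaithfulSMul.eq_of_smul_eq_smul (α := Ω) (by simpa using h)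
    rw [this, orderOf_one] at hx
    exact hp.out.ne_one hx.symm
  have h1 : Nat.card (orbit (zpowers x) c) ∣ p := by
    rw [← hx, ← Nat.card_zpowers, Nat.card_coe_set_eq, ← index_stabilizer]
    exact index_dvd_card _
  have h2 : orbit (zpowers x) c = Set.univ := by
    rcases (Nat.dvd_prime hp.out).1 h1 with h | h
    · have := (Nat.card_eq_one_iff_unique.1 h).1
      exact absurd (congrArg Subtype.val (Subsingleton.elim
        (⟨x • c, ⟨⟨x, mem_zpowers x⟩, rfl⟩⟩ : orbit (zpowers x) c) ⟨c, mem_orbit_self c⟩)) hc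
    · exact Set.eq_of_subset_of_ncard_le (Set.subset_univ _)
        (by rw [Set.ncard_univ, hΩ, ← h, Nat.card_coe_set_eq])
  obtain ⟨⟨_, i, rfl⟩, hi⟩ : a ∈ orbit (zpowers x) c := h2 ▸ Set.mem_univ _
  obtain ⟨⟨_, j, rfl⟩, hj⟩ : b ∈ orbit (zpowers x) c := h2 ▸ Set.mem_univ _
  refine ⟨j - i, ?_⟩
  change x ^ i • c = a at hi
  change x ^ j • c = b at hj
  rw [← hi, ← hj, ← mul_smul, ← zpow_add, sub_add_cancel]

theorem eq_bot_of_prime_degree (hΩ : Nat.card Ω = p) {x : G} (hx : orderOf x = p) {s : ℕ}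
    (hs : s.Prime) (hsp : s ≠ p) {Q : Subgroup G} (hQ : IsPGroup s Q) (hn : x ∈ 𝐍[Q]) : Q = ⊥ := by
  have : Finite Ω := Nat.finite_of_card_ne_zero (hΩ ▸ hp.out.ne_zero)
  have := Fact.mk hs
  obtain ⟨a, ha⟩ := hQ.nonempty_fixed_point_of_prime_not_dvd_card Ω
    (by rw [hΩ, Nat.prime_dvd_prime_iff_eq hs hp.out]; exact hsp)
  rw [eq_bot_iff]
  intro g hg
  refine FaithfulSMul.eq_of_smul_eq_smul (α := Ω) fun b => ?_
  obtain ⟨k, rfl⟩ := exists_pow_smul hΩ hx a b
  have h1 : (x ^ k)⁻¹ * g * x ^ k ∈ Q := inv_conj_mem_of_mem_normalizer (zpow_mem hn k) hg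
  have h2 : ((x ^ k)⁻¹ * g * x ^ k) • a = a := ha ⟨_, h1⟩
  rw [mul_smul, mul_smul, inv_smul_eq_iff] at h2
  rw [h2, one_smul]

theorem le_norm_of_prime_degree [IsPretransitive G Ω] (hΩ : Nat.card Ω = p) {x : G}
    (hx : orderOf x = p) {H : Subgroup G} (hH : Group.IsSolvable H) (hxH : x ∈ H) :
    H ≤ 𝐍[zpowers x] := by
  have hx1 : zpowers x ≠ ⊥ := by
    rw [Ne, zpowers_eq_bot, ← orderOf_eq_one_iff, hx]; exact hp.out.ne_one
  obtain ⟨s, hs, hQ⟩ := Solv.NA.exists_pCoreOf_ne_bot hH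
    (fun h => hx1 (le_bot_iff.1 (h ▸ zpowers_le.2 hxH)))
  have hN := le_normalizer_pCoreOf s H
  by_cases hsp : s = p
  · subst hsp
    have hZ : IsPGroup s (zpowers x) := isPGroup_zpowers ⟨1, by rw [pow_one, ← hx, pow_orderOf_eq_one]⟩
    obtain ⟨P, hP⟩ := (isPGroup_sup hZ (isPGroup_pCoreOf s H) (zpowers_le.2 (hN hxH))).exists_le_sylow
    have hc := Perm.card_sylow_of_prime_degree hΩ P
    have h1 : zpowers x = P := eq_of_le_of_card_ge (le_sup_left.trans hP) (by
      rw [hc, Nat.card_zpowers, hx])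
    have h2 : pCoreOf s H = P := by
      have := card_dvd_of_le (le_sup_right.trans hP)
      rw [hc] at this
      rcases (Nat.dvd_prime hs).1 this with h | h
      · exact absurd (card_eq_one.1 h) hQ
      · exact eq_of_le_of_card_ge (le_sup_right.trans hP) (by rw [hc, h])
    rwa [h1, ← h2]
  · exact absurd (eq_bot_of_prime_degree hΩ hx hs hsp (isPGroup_pCoreOf s H) (hN hxH)) hQ

theorem usol_of_prime_degree [IsPretransitive G Ω] [IsSimpleGroup G] (hna : ¬ IsMulCommutative G)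
    (hΩ : Nat.card Ω = p) (h2 : p ≠ 2) : USol G := by
  have : Nonempty Ω := (Nat.card_pos_iff.1 (hΩ ▸ hp.out.pos)).1
  obtain ⟨x, hx⟩ := exists_prime_orderOf_dvd_card' (G := G) p
    (hΩ ▸ Perm.card_dvd_of_isPretransitive G Ω)
  exact usol_of_norm hna (hx ▸ hp.out) (hx ▸ h2) fun H hH hxH => le_norm_of_prime_degree hΩ hx hH hxH

theorem cent_of_prime_degree (hΩ : Nat.card Ω = p) {s : ℕ} (hs : s.Prime) (hsp : s ≠ p) :
    Cust.Cent p s G := by
  intro Q hQ x hx ⟨k, hk⟩
  by_cases h1 : x = 1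
  · rw [h1]; exact one_mem _
  obtain ⟨y, hy, hyo⟩ : ∃ y ∈ zpowers x, orderOf y = p := by
    obtain ⟨j, hj⟩ := (Nat.dvd_prime_pow hp.out).1 (orderOf_dvd_of_pow_eq_one hk)
    obtain ⟨y, hy⟩ := exists_prime_orderOf_dvd_card' (G := zpowers x) p (by
      rw [Nat.card_zpowers, hj.2]
      refine dvd_pow_self p ?_
      rintro rfl
      exact h1 (orderOf_eq_one_iff.1 hj.2))
    exact ⟨y, y.2, by rwa [Subgroup.orderOf_coe]⟩
  rw [eq_bot_of_prime_degree hΩ hyo hs hsp hQ (zpowers_le.2 hx hy), mem_centralizer_iff]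
  intro g hg
  rw [SetLike.mem_coe, mem_bot] at hg
  rw [hg, one_mul, mul_one]

end Prime

theorem card_P2_three : Nat.card (ℙ (ZMod 3) (Fin 3 → ZMod 3)) = 13 := by
  have := Fact.mk Nat.prime_three
  rw [Projectivization.card_of_finrank (ZMod 3) (Fin 3 → ZMod 3) (n := 3) (by simp)]
  simp [Finset.sum_range_succ]

theorem card_L33 : Nat.card PSL(3, ZMod 3) = 5616 := by
  have := Fact.mk Nat.prime_three
  have h := Class.card_units_mul_card_SL (ι := Fin 3) (R := ZMod 3)
  have h2 := Class.gcd_mul_card_PSL (ι := Fin 3) (F := ZMod 3)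
  rw [Matrix.card_GL_field, Nat.card_units, Nat.card_eq_fintype_card (α := ZMod 3), ZMod.card] at h
  rw [Nat.card_zmod, Fintype.card_fin] at h2
  simp only [Fin.prod_univ_three] at h
  norm_num at h h2 ⊢
  omega

/-! ### Suzuki groups -/

theorem usol_Sz {F : Type*} [Field F] {m : ℕ} [Chev.SzField F m] : USol (Sz F m) := by
  have h8 := Chev.Suz.eight_le_q (F := F)
  obtain ⟨r, hr, hd⟩ := Nat.exists_prime_and_dvd (n := (2 ^ (2 * m + 1)) ^ 2 + 1) (by
    have : 0 < (2 ^ (2 * m + 1)) ^ 2 := by positivity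
    omega)
  have := Fact.mk hr
  obtain ⟨x, hx⟩ := exists_prime_orderOf_dvd_card' (G := Sz F m) r (by
    rw [Chev.Suz.card_Sz F]; exact (hd.mul_left _).mul_right _)
  have h1 : x ≠ 1 := by rintro rfl; rw [orderOf_one] at hx; exact hr.one_lt.ne hx
  have hf := Chev.Suz.fpf_of_orderOf_dvd h1 (hx ▸ hd)
  refine ⟨x, 𝐍[Chev.Suz.tor x], hx ▸ hr, ?_, fun h => ?_, fun H hH hxH y hy => ?_⟩
  · rw [hx]
    rintro rfl
    have : 2 ∣ (2 ^ (2 * m + 1)) ^ 2 := Dvd.dvd.pow (dvd_pow_self 2 (by omega)) (by omega)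
    omega
  · have h2 := hf.isTorus.isSolvable_normalizer
    rw [h] at h2
    exact Chev.Suz.not_isSolvable F (solv_of_equiv topEquiv h2)
  · have : y ∈ Chev.Suz.solub x := solv_of_le ((closure_le H).2 (by
      rintro _ (rfl | rfl) <;> assumption)) hH
    rwa [hf.solub_eq] at this

/-! ### `PSL₂(q)` -/

section PSL
variable {F : Type*} [Field F] [Fintype F]

theorem not_solv_PSL2 {K : Type*} [Field K] (hK : 4 ≤ Nat.card K) : ¬ Group.IsSolvable PSL(2, K) := by
  intro h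
  have : Finite K := Nat.finite_of_card_ne_zero (by omega)
  have : Group.IsSolvable (center SL(2, K)) :=
    Group.isSolvable_of_comm fun a b => Subtype.ext (a.2.comm b.1)
  exact not_solv_SL2 hK (Group.isSolvable_of_ker_le_range (center SL(2, K)).subtype
    KSG.M2.pr (by rw [KSG.M2.pr_ker, range_subtype]))

theorem card_PGL_dvd {K : Type*} [Field K] [Finite K] (hK : ¬ 4 ≤ Nat.card K) :
    Nat.card PGL(2, K) ∣ 24 := by
  have : 1 < Nat.card K := Finite.one_lt_card
  rw [card_PGL2]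
  obtain h | h : Nat.card K = 2 ∨ Nat.card K = 3 := by omega
  all_goals rw [h]; norm_num

theorem solv_cases (H : Subgroup PSL(2, F)) (hH : Group.IsSolvable H) :
    (∃ y : P1 F, H ≤ stabilizer PSL(2, F) y) ∨
    ((IsCyclic H ∨ ∃ n, Nonempty (H ≃* DihedralGroup n)) ∧
      (Nat.card H ∣ 2 * (Fintype.card F + 1) ∨ Nat.card H ∣ 2 * (Fintype.card F - 1))) ∨
    Nat.card H ∣ 24 := by
  have h1 : 1 < Fintype.card F := Fintype.one_lt_card
  rcases dickson_PSL2 H with h | ⟨n, hn, h⟩ | ⟨⟨e⟩⟩ | ⟨⟨e⟩⟩ | ⟨⟨e⟩⟩ | ⟨L, b, h | ⟨-, h⟩⟩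
  · exact Or.inl h
  · have hn' : n ∣ Fintype.card F + 1 ∨ n ∣ Fintype.card F - 1 := by
      refine hn.imp (fun h => h.trans (Nat.div_dvd_of_dvd ?_))
        fun h => h.trans (Nat.div_dvd_of_dvd (Nat.gcd_dvd_right _ _))
      rw [show Fintype.card F + 1 = 2 + (Fintype.card F - 1) by omega]
      exact dvd_add (Nat.gcd_dvd_left _ _) (Nat.gcd_dvd_right _ _)
    refine Or.inr (Or.inl ?_)
    rcases h with ⟨h, hc⟩ | ⟨⟨e⟩⟩
    · exact ⟨Or.inl h, hc ▸ hn'.imp (·.mul_left 2) (·.mul_left 2)⟩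
    · refine ⟨Or.inr ⟨n, ⟨e⟩⟩, ?_⟩
      rw [Nat.card_congr e.toEquiv, DihedralGroup.nat_card]
      exact hn'.imp (Nat.mul_dvd_mul_left 2) (Nat.mul_dvd_mul_left 2)
  · exact Or.inr (Or.inr (by rw [Nat.card_congr e.toEquiv, card_alt4]; norm_num))
  · exact Or.inr (Or.inr (by rw [Nat.card_congr e.toEquiv, card_sym4]))
  · have := solv_of_equiv e hH
    exact absurd (IsSimpleGroup.comm_iff_isSolvable.2 this) (by decide)
  · obtain ⟨e⟩ := nonempty_equiv_of_map_eq_pgl h
    refine Or.inr (Or.inr ?_)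
    rw [Nat.card_congr e.toEquiv]
    refine card_PGL_dvd fun h4 => not_solv_PSL2 h4 ?_
    have := solv_of_equiv e hH
    exact Group.isSolvable_of_isSolvable_injective (pslTo_injective (K := L))
  · obtain ⟨e⟩ := nonempty_equiv_of_map_eq_psl h
    refine Or.inr (Or.inr ?_)
    rw [Nat.card_congr e.toEquiv]
    exact (card_dvd_of_injective _ pslTo_injective).trans
      (card_PGL_dvd fun h4 => not_solv_PSL2 h4 (solv_of_equiv e hH))

theorem solv_cases_even (h2 : (2 : F) = 0) (H : Subgroup PSL(2, F)) (hH : Group.IsSolvable H) :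
    (∃ y : P1 F, H ≤ stabilizer PSL(2, F) y) ∨ (IsCyclic H ∨ ∃ n, Nonempty (H ≃* DihedralGroup n)) ∨
    Nat.card H ∣ 6 := by
  rcases dickson_PSL2_even h2 H with h | ⟨n, -, h⟩ | ⟨L, b, h1, h3⟩
  · exact Or.inl h
  · exact Or.inr (Or.inl (h.imp_right fun h => ⟨n, h⟩))
  · refine Or.inr (Or.inr ?_)
    have e1 := H.equivMapOfInjective _ (pslTo_injective (K := F))
    have h4 : ¬ 4 ≤ Nat.card L := fun h4 => not_solv_PSL2 h4 (solv_of_equiv
      (((pslOfEquiv L.subtype).trans (equivMapOfInjective _ _ (MulAut.conj b).injective)).symm)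
      (solv_of_le h3 (solv_of_equiv e1 hH)))
    have h5 : 1 < Nat.card L := Finite.one_lt_card
    have h6 : Nat.card L ≠ 3 := fun h => by
      have := Fintype.ofFinite L
      have h7 := congrArg L.subtype (FiniteField.cast_card_eq_zero L)
      rw [← Nat.card_eq_fintype_card, h, map_natCast, map_zero] at h7
      exact one_ne_zero (α := F) (by push_cast at h7; linear_combination h7 - h2)
    have h7 := card_dvd_of_le h1
    rw [← Nat.card_congr e1.toEquiv, ← Nat.card_congr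
      ((pglOfEquiv L.subtype).trans (equivMapOfInjective _ _ (MulAut.conj b).injective)).toEquiv,
      card_PGL2, show Nat.card L = 2 by omega] at h7
    exact h7

theorem dvd_card_PSL2 {r : ℕ} (hr : r.Prime) (h2 : r ≠ 2)
    (hd : r ∣ Nat.card F * (Nat.card F ^ 2 - 1)) : r ∣ Nat.card PSL(2, F) := by
  rw [← gcd_mul_card_PSL2] at hd
  refine ((Nat.Prime.dvd_mul hr).1 hd).resolve_left fun h => h2 ?_
  exact (Nat.prime_dvd_prime_iff_eq hr Nat.prime_two).1 (h.trans (Nat.gcd_dvd_left _ _))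

theorem usol_PSL2_of_add_one (h4 : 4 ≤ Fintype.card F) {r : ℕ} (hr : r.Prime) (h2 : r ≠ 2)
    (hd : r ∣ Fintype.card F + 1) (h3 : r = 3 → (2 : F) = 0) : USol PSL(2, F) := by
  have := Fact.mk hr
  rw [← Nat.card_eq_fintype_card] at h4 hd
  have := Matrix.ProjectiveSpecialLinearGroup.rank_two_simple h4
  obtain ⟨x, hx⟩ := exists_prime_orderOf_dvd_card' r (dvd_card_PSL2 (F := F) hr h2 (by
    rw [KSG.M2.card_sq_sub_one]; exact (hd.mul_right _).mul_left _))
  refine usol_of_norm (fun h => not_solv_PSL2 h4 (Group.isSolvable_of_comm h.is_comm.comm))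
    (hx ▸ hr) (hx ▸ h2) fun H hH hxH => ?_
  have hrH : r ∣ Nat.card H := hx ▸ Subgroup.orderOf_dvd_natCard H hxH
  have hst : ¬ ∃ y : P1 F, H ≤ stabilizer PSL(2, F) y := by
    rintro ⟨y, hy⟩
    have h5 := (hrH.trans (card_dvd_of_le hy)).mul_left (Nat.gcd 2 (Nat.card F - 1))
    rw [gcd_mul_card_stabilizer] at h5
    rcases (Nat.Prime.dvd_mul hr).1 h5 with h | h
    · exact hr.ne_one (Nat.dvd_one.1 ((Nat.dvd_add_right h).1 hd))
    · rw [show Nat.card F + 1 = (Nat.card F - 1) + 2 by omega] at hd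
      exact h2 ((Nat.prime_dvd_prime_iff_eq hr Nat.prime_two).1 ((Nat.dvd_add_right h).1 hd))
  by_cases hr3 : r = 3
  · subst hr3
    rcases solv_cases_even (h3 rfl) H hH with h | h | h
    · exact absurd h hst
    · exact le_norm_of_cyc_dih hxH (hx ▸ h2) h
    · refine le_norm_of_cyc_dih hxH (hx ▸ h2) ?_
      have h6 := Nat.le_of_dvd (by norm_num) h
      obtain h7 | h7 : Nat.card H = 3 ∨ Nat.card H = 6 := by
        generalize Nat.card H = c at *
        interval_cases c <;> omega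
      · exact Or.inl (isCyclic_of_prime_card h7)
      · exact (cyclic_or_dihedral_of_card_six h7).imp_right fun h => ⟨3, h⟩
  · rcases solv_cases H hH with h | h | h
    · exact absurd h hst
    · exact le_norm_of_cyc_dih hxH (hx ▸ h2) h.1
    · have h5 := hrH.trans h
      have h6 := Nat.le_of_dvd (by norm_num) h5
      interval_cases r <;> first | omega | exact absurd hr (by norm_num)

theorem usol_PSL2_of_char (p : ℕ) [hp : Fact p.Prime] [CharP F p] (h5 : 5 ≤ p) : USol PSL(2, F) := by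
  have h1 : 1 < Nat.card F := Finite.one_lt_card
  obtain ⟨x, hx, hx1⟩ : ∃ x ∈ (unip (inf F)).comap (pslTo F), x ≠ 1 := by
    refine (bot_or_exists_ne_one _).resolve_left fun h => ?_
    have := card_unip_comap (inf F)
    rw [h, card_bot] at this
    omega
  have hx2 : pslTo F x ≠ 1 := fun h => hx1 (pslTo_injective (by rw [h, map_one]))
  have hxo : orderOf x = p := orderOf_eq_prime (pslTo_injective (by
    rw [map_pow, pow_eq_one_of_mem_unip p hx, map_one])) hx1
  have hq : p ∣ Fintype.card F := (prime_dvd_char_iff_dvd_card p).1 (by rw [ringChar.eq F p])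
  refine ⟨x, stabilizer PSL(2, F) (inf F), hxo ▸ hp.out, by omega, fun h => ?_, fun H hH hxH => ?_⟩
  · have := index_stabilizer_PSL (inf F)
    rw [h, index_top] at this
    omega
  have hrH : p ∣ Nat.card H := hxo ▸ Subgroup.orderOf_dvd_natCard H hxH
  rw [Nat.card_eq_fintype_card] at h1
  rcases solv_cases H hH with ⟨y, hy⟩ | ⟨-, h | h⟩ | h
  · have h2 := ((mem_unip.1 hx).resolve_left hx2).2 y (by rw [pslTo_smul]; exact hy hxH)
    rwa [← h2]
  · rcases (Nat.Prime.dvd_mul hp.out).1 (hrH.trans h) with h | h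
    · have := Nat.le_of_dvd (by norm_num) h; omega
    · have := Nat.le_of_dvd (by norm_num) ((Nat.dvd_add_right hq).1 h); omega
  · rcases (Nat.Prime.dvd_mul hp.out).1 (hrH.trans h) with h | h
    · have := Nat.le_of_dvd (by norm_num) h; omega
    · rw [show Fintype.card F = (Fintype.card F - 1) + 1 by omega] at hq
      have := Nat.le_of_dvd (by norm_num) ((Nat.dvd_add_right h).1 hq); omega
  · have h5 := hrH.trans h
    have h6 := Nat.le_of_dvd (by norm_num) h5
    have := hp.out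
    interval_cases p <;> first | omega | exact absurd this (by norm_num)

theorem usol_PSL2 (h4 : 4 ≤ Fintype.card F) : USol PSL(2, F) := by
  obtain ⟨p, hc, n, hp, hn⟩ := FiniteField.card' F
  have := Fact.mk hp
  by_cases h5 : 5 ≤ p
  · exact usol_PSL2_of_char p h5
  have hq : p ∣ Fintype.card F := hn ▸ dvd_pow_self p n.ne_zero
  obtain rfl | rfl : p = 2 ∨ p = 3 := by
    have := hp.two_le
    interval_cases p <;> first | omega | exact absurd hp (by norm_num)
  · obtain ⟨r, hr, hd⟩ := Nat.exists_prime_and_dvd (n := Fintype.card F + 1) (by omega)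
    exact usol_PSL2_of_add_one h4 hr (by rintro rfl; omega) hd
      fun _ => by exact_mod_cast CharP.cast_eq_zero F 2
  · have h8 : Fintype.card F % 8 = 1 ∨ Fintype.card F % 8 = 3 := by
      rw [hn]
      generalize (n : ℕ) = k
      induction k with
      | zero => simp
      | succ k ih => rw [pow_succ]; omega
    obtain ⟨r, hr, hd, h2⟩ : ∃ r : ℕ, r.Prime ∧ r ∣ Fintype.card F + 1 ∧ r ≠ 2 := by
      by_contra! h
      have h6 := Nat.eq_prime_pow_of_unique_prime_dvd (n := Fintype.card F + 1) (p := 2) (by omega)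
        fun {d} => h d
      generalize (Fintype.card F + 1).primeFactorsList.length = k at h6
      rcases k with _ | _ | _ | k
      · omega
      · omega
      · omega
      · rw [pow_succ, pow_succ, pow_succ] at h6; omega
    exact usol_PSL2_of_add_one h4 hr h2 hd (by rintro rfl; omega)

theorem PSL2_not_cent_two {r : ℕ} (hr : r.Prime) (h2 : r ≠ 2) (p : ℕ) [Fact p.Prime] [CharP F p]
    (hrp : r ≠ p) (hd : r ∣ Nat.card PSL(2, F)) : ¬ Cust.Cent 2 r PSL(2, F) := by
  have := Fact.mk hr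
  obtain ⟨y, hy⟩ := exists_prime_orderOf_dvd_card' r hd
  obtain ⟨g, rfl⟩ := KSG.M2.pr_surjective y
  have ht : (g : Matrix (Fin 2) (Fin 2) F).trace ^ 2 ≠ 4 := fun h => by
    have h1 := orderOf_dvd_of_pow_eq_one (KSG.M2.pr_pow_char_eq_one p h)
    rw [hy] at h1
    exact hrp ((Nat.prime_dvd_prime_iff_eq hr Fact.out).1 h1)
  obtain ⟨w, hw⟩ := isConj_iff.1 (KSG.M2.SL_isConj_of_trace' (g := g) (h := g⁻¹) (by
    rw [Matrix.SpecialLinearGroup.SL2_inv_expl, Matrix.trace_fin_two, Matrix.trace_fin_two, add_comm]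
    rfl) ht)
  exact Cust.not_cent_of_inverts hr h2 hy (x := KSG.M2.pr w)
    (by rw [← map_inv, ← map_mul, ← map_mul, hw, map_inv])

end PSL

/-- Frobenius' normal `p`-complement theorem for a simple group, in terms of `Cent`. -/
theorem exists_not_cent [Finite G] [IsSimpleGroup G] (hna : ¬ IsMulCommutative G) {r : ℕ}
    (hr : r.Prime) (hd : r ∣ Nat.card G) :
    ∃ s : ℕ, s.Prime ∧ s ≠ r ∧ s ∣ Nat.card G ∧ ¬ Cust.Cent s r G := by
  have := Fact.mk hr
  have h1 : ¬ HasNormalPComplement r G := by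
    intro h
    obtain ⟨N, hN, hc, k, hk⟩ := Transfer.hasNormalPComplement_iff_exists_normal.1 h
    rcases hN.eq_bot_or_eq_top with rfl | rfl
    · rw [index_bot] at hk
      have := (IsPGroup.of_card hk).isNilpotent
      exact hna ⟨⟨IsSimpleGroup.comm_iff_isSolvable.2 inferInstance⟩⟩
    · rw [card_top] at hc
      exact hr.ne_one (Nat.eq_one_of_dvd_coprimes hc hd dvd_rfl)
  obtain ⟨B, s, g, hB, hs, hsr, ⟨k, hk⟩, hN, hC⟩ :=
    Transfer.exists_qElement_of_not_hasNormalPComplement h1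
  refine ⟨s, hs, hsr, ?_, fun h => hC (h B hB g hN ⟨k, by rw [← hk, pow_orderOf_eq_one]⟩)⟩
  refine (dvd_pow_self s ?_).trans (hk ▸ orderOf_dvd_natCard g)
  rintro rfl
  rw [pow_zero, orderOf_eq_one_iff] at hk
  exact hC (hk ▸ one_mem _)

/-- For every odd prime divisor `r` some `r`-subgroup has an automorphism of order two, or of an odd
prime order `s` where some `s`-subgroup has an automorphism of order two. -/
def NoC (G : Type*) [Group G] : Prop :=
  ∀ r : ℕ, r.Prime → r ≠ 2 → r ∣ Nat.card G →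
    ¬ Cust.Cent 2 r G ∨ ∃ s : ℕ, s.Prime ∧ s ≠ 2 ∧ ¬ Cust.Cent s r G ∧ ¬ Cust.Cent 2 s G

theorem NoC.equiv [Finite G] {H : Type*} [Group H] (h : NoC H) (e : G ≃* H) : NoC G := by
  intro r hr h2 hd
  rcases h r hr h2 (Nat.card_congr e.toEquiv ▸ hd) with h | ⟨s, hs, h3, h4, h5⟩
  · exact Or.inl fun hc => h (hc.sec Nat.prime_two hr (CF.sec_of_equiv e))
  · exact Or.inr ⟨s, hs, h3, fun hc => h4 (hc.sec hs hr (CF.sec_of_equiv e)),
      fun hc => h5 (hc.sec Nat.prime_two hs (CF.sec_of_equiv e))⟩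

theorem noC_of_one [Finite G] [IsSimpleGroup G] (hna : ¬ IsMulCommutative G) (p : ℕ)
    (h : ∀ r : ℕ, r.Prime → r ≠ 2 → r ≠ p → r ∣ Nat.card G → ¬ Cust.Cent 2 r G) : NoC G := by
  intro r hr h2 hd
  by_cases hrp : r = p
  · subst hrp
    obtain ⟨s, hs, hsr, hsd, hc⟩ := exists_not_cent hna hr hd
    by_cases hs2 : s = 2
    · exact Or.inl (hs2 ▸ hc)
    · exact Or.inr ⟨s, hs, hs2, hc, h s hs hs2 hsr hsd⟩
  · exact Or.inl (h r hr h2 hrp hd)

theorem noC_PSL2 {F : Type*} [Field F] [Fintype F] (h4 : 4 ≤ Fintype.card F) : NoC PSL(2, F) := by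
  obtain ⟨p, hc, n, hp, -⟩ := FiniteField.card' F
  have := Fact.mk hp
  rw [← Nat.card_eq_fintype_card] at h4
  have := Matrix.ProjectiveSpecialLinearGroup.rank_two_simple h4
  exact noC_of_one (fun h => not_solv_PSL2 h4 (Group.isSolvable_of_comm h.is_comm.comm)) p
    fun r hr h2 hrp hd => PSL2_not_cent_two hr h2 p hrp hd

theorem noC_Sz {F : Type*} [Field F] {m : ℕ} [Chev.SzField F m] : NoC (Sz F m) := by
  intro r hr h2 hd
  have := Fact.mk hr
  obtain ⟨y, hy⟩ := exists_prime_orderOf_dvd_card' r hd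
  obtain ⟨s, -, -, hs⟩ := Cust.Sz_inverted (y := y) (hy ▸ hr.odd_of_ne_two h2)
  exact Or.inl (Cust.not_cent_of_inverts hr h2 hy hs)

theorem prime_dvd_L33 {r : ℕ} (hr : r.Prime) (hd : r ∣ Nat.card PSL(3, ZMod 3)) :
    r = 2 ∨ r = 3 ∨ r = 13 := by
  rw [card_L33, show 5616 = 2 ^ 4 * (3 ^ 3 * 13) by norm_num] at hd
  rcases (Nat.Prime.dvd_mul hr).1 hd with h | h
  · exact Or.inl ((Nat.prime_dvd_prime_iff_eq hr Nat.prime_two).1 (hr.dvd_of_dvd_pow h))
  rcases (Nat.Prime.dvd_mul hr).1 h with h | h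
  · exact Or.inr (Or.inl ((Nat.prime_dvd_prime_iff_eq hr Nat.prime_three).1 (hr.dvd_of_dvd_pow h)))
  · exact Or.inr (Or.inr ((Nat.prime_dvd_prime_iff_eq hr (by norm_num)).1 h))

theorem noC_L33 [IsSimpleGroup PSL(3, ZMod 3)] (hna : ¬ IsMulCommutative PSL(3, ZMod 3)) :
    NoC PSL(3, ZMod 3) := by
  have := Fact.mk Nat.prime_three
  have : Fact (Nat.Prime 13) := ⟨by norm_num⟩
  have : Finite PSL(3, ZMod 3) := Nat.finite_of_card_ne_zero (by rw [card_L33]; norm_num)
  refine noC_of_one hna 13 fun r hr h2 h13 hd => ?_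
  obtain rfl : r = 3 := by have := prime_dvd_L33 hr hd; omega
  obtain ⟨s, hs, hsr, hsd, hc⟩ := exists_not_cent hna hr hd
  rcases prime_dvd_L33 hs hsd with rfl | rfl | rfl
  · exact hc
  · exact absurd rfl hsr
  · exact absurd (cent_of_prime_degree card_P2_three hr h13) hc

theorem usol_L33 [IsSimpleGroup PSL(3, ZMod 3)] (hna : ¬ IsMulCommutative PSL(3, ZMod 3)) :
    USol PSL(3, ZMod 3) := by
  have := Fact.mk Nat.prime_three
  have : Fact (Nat.Prime 13) := ⟨by norm_num⟩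
  have : Finite PSL(3, ZMod 3) := Nat.finite_of_card_ne_zero (by rw [card_L33]; norm_num)
  exact usol_of_prime_degree hna card_P2_three (by norm_num)

end Cfsg.Agent.MinS
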