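import Mathlib
import Cfsg.Agent.Char.RelDeg
import Cfsg.Agent.KSG.ConjSum
import Cfsg.Agent.S0205

/-!
Groups of average character degree at most two: quotients and numerical consequences.
-/

set_option autoImplicit false
set_option linter.unusedSectionVars false

namespace Cfsg.Agent.MinS

open Subgroup Cfsg Cfsg.Agent.Char

variable {G : Type*} [Group G] [Finite G]

/-- average character degree at most two -/
def Sad (G : Type*) [Group G] [Finite G] : Prop :=
  ∑ χ : IrrCharacter G, ((charDegree χ.1 : ℤ) - 2) ≤ 0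

theorem sad_of_le (h : (∑ᶠ χ : IrrCharacter G, charDegree (χ : G → ℂ)) ≤
    2 * Nat.card (IrrCharacter G)) : Sad G := by
  rw [finsum_eq_sum_of_fintype, Nat.card_eq_fintype_card] at h
  rw [Sad, Finset.sum_sub_distrib, Finset.sum_const, Finset.card_univ, ← Nat.cast_sum]
  simp only [nsmul_eq_mul]
  omega

theorem card_lin : Nat.card (G →* ℂˣ) = (commutator G).index :=
  (Nat.card_congr Abelianization.lift).trans
    (CommGroup.card_monoidHom_of_hasEnoughRootsOfUnity (Abelianization G) ℂ)

theorem Sad.of_surjective {Q : Type*} [Group Q] [Finite Q] (h : Sad G) (f : G →* Q)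
    (hf : Function.Surjective f) : Sad Q := by
  classical
  have : Finite (G →* ℂˣ) := Nat.finite_of_card_ne_zero (card_lin (G := G) ▸ index_ne_zero_of_finite)
  let R : Subgroup (G →* ℂˣ) :=
    { carrier := {μ | ∀ n ∈ f.ker, μ n = 1}
      one_mem' := fun _ _ => rfl
      mul_mem' := fun {a b} ha hb n hn => by rw [MonoidHom.mul_apply, ha n hn, hb n hn, mul_one]
      inv_mem' := fun {a} ha n hn => by rw [MonoidHom.inv_apply, ha n hn, inv_one] }
  have := Fintype.ofFinite ((G →* ℂˣ) ⧸ R)
  let Φ : ((G →* ℂˣ) ⧸ R) × IrrCharacter Q → IrrCharacter G := fun p =>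
    ⟨_, (inflateIrr f hf p.2).2.mul_linear p.1.out⟩
  have hΦ : ∀ p g, (Φ p).1 g = p.2.1 (f g) * (p.1.out g : ℂ) := fun p g => rfl
  have hdeg : ∀ p, charDegree (Φ p).1 = charDegree p.2.1 := fun p =>
    charDegree_congr_one (by rw [hΦ, map_one, map_one, Units.val_one, mul_one])
  have hinj : Function.Injective Φ := by
    rintro ⟨s, ψ⟩ ⟨t, θ⟩ e
    have e' : ∀ g, ψ.1 (f g) * (s.out g : ℂ) = θ.1 (f g) * (t.out g : ℂ) := fun g =>
      congrArg (fun χ : IrrCharacter G => χ.1 g) e
    have h1 : ψ.1 1 = θ.1 1 := by simpa using e' 1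
    have h0 : θ.1 1 ≠ 0 := by
      rw [← coe_charDegree_irr]; exact_mod_cast charDegree_irr_ne_zero θ
    obtain rfl : s = t := by
      rw [← s.out_eq', ← t.out_eq', QuotientGroup.eq]
      intro n hn
      have h2 := e' n
      rw [(MonoidHom.mem_ker).1 hn, h1, mul_right_inj' h0, Units.val_inj] at h2
      rw [MonoidHom.mul_apply, MonoidHom.inv_apply, h2, inv_mul_cancel]
    congr 1
    ext q
    obtain ⟨g, rfl⟩ := hf q
    exact mul_right_cancel₀ (Units.ne_zero _) (e' g)
  have hlin : ∀ χ : IrrCharacter G, χ ∉ Finset.univ.image Φ → 2 ≤ charDegree χ.1 := by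
    intro χ hχ
    by_contra hlt
    have h1 : charDegree χ.1 = 1 := by have := charDegree_irr_pos χ; omega
    obtain ⟨μ, hμ⟩ := χ.2.isCharacter.exists_linear ((charDegree_eq_one_iff χ.2.isCharacter).1 h1)
    obtain ⟨ν, hν⟩ := QuotientGroup.mk_out_eq_mul R μ
    obtain ⟨ψ, hψ⟩ := (mem_range_inflateIrr f hf ⟨_, isIrrCharacter_hom (ν⁻¹ : R).1⟩).2
      fun n hn => by simp only [(ν⁻¹).2 n hn, map_one]
    refine hχ (Finset.mem_image.2 ⟨(μ, ψ), Finset.mem_univ _, Subtype.ext (funext fun g => ?_)⟩)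
    have h2 : ψ.1 (f g) = ((ν⁻¹ : R).1 g : ℂ) := congrArg (fun χ : IrrCharacter G => χ.1 g) hψ
    rw [hΦ, h2, hν, hμ]
    simp [mul_left_comm]
  have h1 : ∑ χ ∈ Finset.univ.image Φ, ((charDegree χ.1 : ℤ) - 2) ≤ 0 :=
    (Finset.sum_le_sum_of_subset_of_nonneg (Finset.subset_univ _) fun χ _ hχ => by
      have := hlin χ hχ; omega).trans h
  rw [Finset.sum_image fun a _ b _ e => hinj e, Fintype.sum_prod_type] at h1
  simp only [hdeg, Finset.sum_const, Finset.card_univ, nsmul_eq_mul] at h1
  exact nonpos_of_mul_nonpos_right h1 (by exact_mod_cast Fintype.card_pos) |> fun h => h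

theorem Sad.equiv {Q : Type*} [Group Q] [Finite Q] (h : Sad G) (e : G ≃* Q) : Sad Q :=
  h.of_surjective e.toMonoidHom e.surjective

theorem sum_sq_int : ∑ χ : IrrCharacter G, (charDegree χ.1 : ℤ) ^ 2 = Nat.card G := by
  exact_mod_cast sum_charDegree_sq (G := G)

theorem card_univ_irr : ((Finset.univ : Finset (IrrCharacter G)).card : ℤ) =
    Nat.card (ConjClasses G) := by
  rw [Finset.card_univ, ← Nat.card_eq_fintype_card, card_irr]

theorem Sad.card_le_of_comm (h : Sad G) (A : Subgroup G) (hA : ∀ a ∈ A, ∀ b ∈ A, a * b = b * a) :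
    Nat.card G ≤ (A.index + 2) * Nat.card (ConjClasses G) := by
  have h1 : ∑ χ : IrrCharacter G, (charDegree χ.1 : ℤ) ^ 2 ≤
      ∑ χ : IrrCharacter G, ((A.index + 1) * ((charDegree χ.1 : ℤ) - 2) + (A.index + 2)) :=
    Finset.sum_le_sum fun χ _ => by
      have h2 := χ.2.deg_le_index_of_comm (coe_charDegree_irr χ).symm A hA
      have h3 := charDegree_irr_pos χ
      zify at h2 h3
      nlinarith
  rw [sum_sq_int, Finset.sum_add_distrib, ← Finset.mul_sum, Finset.sum_const, nsmul_eq_mul,
    card_univ_irr] at h1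
  have h2 := mul_nonpos_of_nonneg_of_nonpos (show (0 : ℤ) ≤ A.index + 1 by positivity) h
  zify
  linarith

theorem Sad.excess (h : Sad G) : ∑ χ ∈ Finset.univ.filter (fun χ : IrrCharacter G =>
    ¬ charDegree χ.1 = 1), ((charDegree χ.1 : ℤ) - 2) ≤ (commutator G).index := by
  have h1 := Finset.sum_filter_add_sum_filter_not Finset.univ
    (fun χ : IrrCharacter G => charDegree χ.1 = 1) (fun χ => (charDegree χ.1 : ℤ) - 2)
  rw [Finset.sum_congr rfl (g := fun _ => -1) (fun χ hχ => by
    rw [(Finset.mem_filter.1 hχ).2]; norm_num), Finset.sum_const, card_linear_irr, card_lin] at h1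
  simp only [nsmul_eq_mul] at h1
  rw [Sad] at h
  linarith

theorem card_eq_excess : (Nat.card G : ℤ) + 3 * (commutator G).index = 4 * Nat.card (ConjClasses G) +
    ∑ χ ∈ Finset.univ.filter (fun χ : IrrCharacter G => ¬ charDegree χ.1 = 1),
      (((charDegree χ.1 : ℤ) - 2) ^ 2 + 4 * ((charDegree χ.1 : ℤ) - 2)) := by
  have h1 := Finset.sum_filter_add_sum_filter_not Finset.univ
    (fun χ : IrrCharacter G => charDegree χ.1 = 1)
    (fun χ => ((charDegree χ.1 : ℤ) - 2) ^ 2 + 4 * ((charDegree χ.1 : ℤ) - 2))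
  rw [Finset.sum_congr rfl (g := fun _ => -3) (fun χ hχ => by
    rw [(Finset.mem_filter.1 hχ).2]; norm_num), Finset.sum_const, card_linear_irr, card_lin,
    Finset.sum_congr (s₁ := Finset.univ) rfl (g := fun χ => (charDegree χ.1 : ℤ) ^ 2 - 4)
      (fun χ _ => by ring), Finset.sum_sub_distrib, sum_sq_int, Finset.sum_const] at h1
  simp only [nsmul_eq_mul, card_univ_irr] at h1
  linarith

theorem two_le_of_mem {χ : IrrCharacter G} (hχ : χ ∈ Finset.univ.filter
    (fun χ : IrrCharacter G => ¬ charDegree χ.1 = 1)) : 0 ≤ (charDegree χ.1 : ℤ) - 2 := by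
  have := (Finset.mem_filter.1 hχ).2
  have := charDegree_irr_pos χ
  omega

theorem Sad.card_le (h : Sad G) : Nat.card G ≤
    (commutator G).index ^ 2 + (commutator G).index + 4 * Nat.card (ConjClasses G) := by
  have h1 := card_eq_excess (G := G)
  have h2 := h.excess
  rw [Finset.sum_add_distrib, ← Finset.mul_sum] at h1
  have h3 := Finset.sum_sq_le_sq_sum_of_nonneg (s := Finset.univ.filter (fun χ : IrrCharacter G =>
    ¬ charDegree χ.1 = 1)) (f := fun χ => (charDegree χ.1 : ℤ) - 2) fun χ hχ => two_le_of_mem hχ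
  have h4 := Finset.sum_nonneg fun χ (hχ : χ ∈ Finset.univ.filter
    (fun χ : IrrCharacter G => ¬ charDegree χ.1 = 1)) => two_le_of_mem hχ
  zify
  nlinarith

theorem four_dvd_of_perfect [Nontrivial G] (hp : commutator G = ⊤) : 4 ∣ Nat.card G := by
  have hs : ¬ Group.IsSolvable G := fun h => (Group.IsSolvable.commutator_lt_top_of_nontrivial G).ne hp
  have h2 : 2 ∣ Nat.card G := by
    by_contra h
    exact hs (S0205.result (Nat.not_even_iff_odd.1 fun h' => h (even_iff_two_dvd.1 h')))
  by_contra h4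
  obtain ⟨P⟩ : Nonempty (Sylow 2 G) := inferInstance
  have hc : Nat.card (P : Subgroup G) = 2 := by
    rw [P.card_eq_multiplicity]
    have h5 : 1 ≤ (Nat.card G).factorization 2 :=
      (Nat.prime_two.dvd_iff_one_le_factorization Nat.card_pos.ne').1 h2
    have h6 : ¬ 2 ≤ (Nat.card G).factorization 2 := fun h => h4
      ((Nat.prime_two.pow_dvd_iff_le_factorization Nat.card_pos.ne').2 h)
    rw [show (Nat.card G).factorization 2 = 1 by omega]; rfl
  have hcyc : IsCyclic (P : Subgroup G) := isCyclic_of_prime_card hc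
  have hm : (Nat.card G).minFac = 2 := (Nat.minFac_eq_two_iff _).2 h2
  have h5 := hcyc.isComplement' hm
  have h6 : (MonoidHom.transferSylow P (hcyc.normalizer_le_centralizer hm)).ker = ⊤ := by
    rw [eq_top_iff, ← hp]
    have := hcyc.isMulCommutative
    rw [commutator_def, commutator_le]
    intro a _ b _
    rw [MonoidHom.mem_ker, map_commutatorElement, commutatorElement_eq_one_iff_mul_comm, mul_comm']
  have h7 := h5.card_mul_card
  rw [h6, card_top, hc] at h7
  have : 0 < Nat.card G := Nat.card_pos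
  omega

theorem not_sad_of_perfect [Nontrivial G] (hp : commutator G = ⊤) : ¬ Sad G := by
  intro h
  have h1 := card_eq_excess (G := G)
  have h2 := h.excess
  rw [hp, index_top] at h1 h2
  have h4 := Finset.sum_nonneg fun χ (hχ : χ ∈ Finset.univ.filter
    (fun χ : IrrCharacter G => ¬ charDegree χ.1 = 1)) => two_le_of_mem hχ
  rw [Finset.sum_congr rfl (g := fun χ => 5 * ((charDegree χ.1 : ℤ) - 2)) (fun χ hχ => by
    have h3 := (Finset.single_le_sum (fun χ hχ => two_le_of_mem hχ) hχ).trans h2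
    have h5 := two_le_of_mem hχ
    obtain h6 | h6 : (charDegree χ.1 : ℤ) = 2 ∨ (charDegree χ.1 : ℤ) = 3 := by omega
    all_goals rw [h6]; norm_num), ← Finset.mul_sum] at h1
  have := four_dvd_of_perfect hp
  omega

theorem classes_le_of_cc (A : Subgroup G) (hA : ∀ a ∈ A, a ≠ 1 → centralizer {a} ≤ A) :
    Nat.card (ConjClasses G) * A.index + 1 ≤ A.index ^ 2 + Nat.card A := by
  classical
  have := Fintype.ofFinite G
  have h1 := KSG.card_conjClasses_mul_card_eq_sum (G := G)
  have hG := A.card_mul_index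
  let B := Finset.univ.filter (fun g : G => g ∈ A)
  have hB : B.card = Nat.card A := by
    rw [Nat.card_eq_fintype_card, Fintype.card_subtype]
  have hB' : (Finset.univ.filter (fun g : G => ¬ g ∈ A)).card + Nat.card A = Nat.card G := by
    rw [← hB, add_comm, Finset.card_filter_add_card_filter_not, Finset.card_univ,
      Nat.card_eq_fintype_card]
  have h1B : (1 : G) ∈ B := by simp [B]
  have h2 : ∑ g ∈ B.erase 1, Nat.card (centralizer ({g} : Set G)) ≤ (B.erase 1).card • Nat.card A :=
    Finset.sum_le_card_nsmul _ _ _ fun g hg => card_le_of_le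
      (hA g (by simpa [B] using Finset.mem_of_mem_erase hg) (Finset.ne_of_mem_erase hg))
  have h3 : ∑ g ∈ Finset.univ.filter (fun g : G => ¬ g ∈ A), Nat.card (centralizer ({g} : Set G)) ≤
      (Finset.univ.filter (fun g : G => ¬ g ∈ A)).card • A.index :=
    Finset.sum_le_card_nsmul _ _ _ fun g hg => by
      have h4 : A ⊓ centralizer {g} = ⊥ := by
        rw [eq_bot_iff]
        rintro x ⟨hx, hxg⟩
        by_contra h5
        refine (Finset.mem_filter.1 hg).2 (hA x hx h5 ?_)
        exact mem_centralizer_singleton_iff.2 (mem_centralizer_singleton_iff.1 hxg).symm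
      rw [← relIndex_bot_left, ← h4, inf_relIndex_right, ← relIndex_top_right]
      exact relIndex_le_of_le_right le_top (by rw [relIndex_top_right]; exact index_ne_zero_of_finite)
  rw [← Finset.sum_filter_add_sum_filter_not _ (fun g : G => g ∈ A), ← Finset.add_sum_erase _ _ h1B]
    at h1
  have h4 := card_le_card_group (centralizer ({1} : Set G))
  have h5 := Finset.card_erase_add_one h1B
  have h6 : 0 < Nat.card A := Nat.card_pos
  rw [smul_eq_mul] at h2 h3
  rw [hB] at h5
  refine Nat.le_of_mul_le_mul_left ?_ h6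
  zify at *
  nlinarith

/-- The numerical condition for a group with an abelian CC-subgroup. -/
theorem Sad.cc (h : Sad G) (A : Subgroup G) (hc : ∀ a ∈ A, ∀ b ∈ A, a * b = b * a)
    (hA : ∀ a ∈ A, a ≠ 1 → centralizer {a} ≤ A) :
    Nat.card A * A.index ^ 2 + (A.index + 2) ≤ (A.index + 2) * (A.index ^ 2 + Nat.card A) := by
  have h1 := h.card_le_of_comm A hc
  have h2 := Nat.mul_le_mul_left (A.index + 2) (classes_le_of_cc A hA)
  have h3 := Nat.mul_le_mul_right A.index h1
  rw [← A.card_mul_index] at h3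
  nlinarith

/-- The same for subgroups of an ambient group. -/
theorem cc_amb {A H : Subgroup G} (h : Sad H) (hAH : A ≤ H) (hc : ∀ a ∈ A, ∀ b ∈ A, a * b = b * a)
    (hA : ∀ a ∈ A, a ≠ 1 → ∀ g ∈ H, g * a = a * g → g ∈ A) {c : ℕ}
    (hcard : Nat.card H = Nat.card A * c) :
    Nat.card A * c ^ 2 + (c + 2) ≤ (c + 2) * (c ^ 2 + Nat.card A) := by
  have h1 := h.cc (A.subgroupOf H) (fun a ha b hb => Subtype.ext (hc a ha b hb))
    fun a ha h1 g hg => hA a ha (fun e => h1 (Subtype.ext e)) g g.2
      (congrArg Subtype.val (mem_centralizer_singleton_iff.1 hg))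
  have h2 := (A.subgroupOf H).card_mul_index
  rw [Nat.card_congr (subgroupOfEquivOfLe hAH).toEquiv] at h1 h2
  rwa [Nat.eq_of_mul_eq_mul_left Nat.card_pos (h2.trans hcard)] at h1

end Cfsg.Agent.MinS
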