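import Mathlib
import Cfsg.Agent.MinS.Sad
import Cfsg.Agent.S4200
import Cfsg.Agent.Class.FG.IndexTwo
import Cfsg.Agent.Grp.AutPrimeCount
import Cfsg.Agent.Grp.Card
import Cfsg.Agent.Solv.FrobeniusAction
import Cfsg.Agent.PLocal.Amb

/-!
Fixed-point-free action of an element of prime order on an abelian subgroup, in a group whose
solvable subgroups have average character degree at most two.
-/

set_option autoImplicit false
set_option linter.unusedSectionVars false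

namespace Cfsg.Agent.MinS

open Subgroup Cfsg Cfsg.Agent.PLocal Cfsg.Agent.PLocal.Amb
open scoped commutatorElement

variable {G : Type*} [Group G] [Finite G]

/-- all solvable subgroups have average character degree at most two -/
def ASad (G : Type*) [Group G] [Finite G] : Prop := ∀ H : Subgroup G, Group.IsSolvable H → Sad H

/-- `x` of prime order `c` acts fixed-point-freely on the abelian group `W ≠ 1`. -/
structure FMod (W : Subgroup G) (x : G) (c : ℕ) : Prop where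
  prime : c.Prime
  ord : orderOf x = c
  comm : ∀ a ∈ W, ∀ b ∈ W, a * b = b * a
  ne : W ≠ ⊥
  norm : x ∈ 𝐍[W]
  fpf : ∀ w ∈ W, x * w * x⁻¹ = w → w = 1

theorem classes_amb {A K : Subgroup G} (hAK : A ≤ K)
    (hA : ∀ a ∈ A, a ≠ 1 → ∀ g ∈ K, g * a = a * g → g ∈ A) {c : ℕ}
    (hcard : Nat.card K = Nat.card A * c) :
    Nat.card (ConjClasses K) * c + 1 ≤ c ^ 2 + Nat.card A := by
  have h1 := classes_le_of_cc (A.subgroupOf K)
    fun a ha h1 g hg => hA a ha (fun e => h1 (Subtype.ext e)) g g.2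
      (congrArg Subtype.val (mem_centralizer_singleton_iff.1 hg))
  have h2 := (A.subgroupOf K).card_mul_index
  rw [Nat.card_congr (subgroupOfEquivOfLe hAK).toEquiv] at h1 h2
  rwa [Nat.eq_of_mul_eq_mul_left Nat.card_pos (h2.trans hcard)] at h1

namespace FMod
variable {W : Subgroup G} {x : G} {c : ℕ} (h : FMod W x c)
include h

theorem fpf' {g w : G} (hg : g ∈ zpowers x) (hw : w ∈ W) (h1 : w ≠ 1) (e : g * w * g⁻¹ = w) :
    g = 1 := by
  by_contra hg1
  have h2 : orderOf g = c := by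
    have := Subgroup.orderOf_dvd_natCard _ hg
    rw [Nat.card_zpowers, h.ord] at this
    exact ((Nat.dvd_prime h.prime).1 this).resolve_left fun e => hg1 (orderOf_eq_one_iff.1 e)
  have h3 : zpowers g = zpowers x := eq_of_le_of_card_ge (zpowers_le.2 hg) (by
    rw [Nat.card_zpowers, Nat.card_zpowers, h2, h.ord])
  have h4 : zpowers g ≤ centralizer {w} :=
    zpowers_le.2 (mem_centralizer_singleton_iff.2 (mul_inv_eq_iff_eq_mul.1 e))
  have h5 := mem_centralizer_singleton_iff.1 (h4 (h3 ▸ mem_zpowers x))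
  exact h1 (h.fpf w hw (mul_inv_eq_iff_eq_mul.2 h5))

theorem dvd_of_fix {n : ℕ} {w : G} (hw : w ∈ W) (h1 : w ≠ 1) (e : x ^ n * w * (x ^ n)⁻¹ = w) :
    c ∣ n := h.ord ▸ orderOf_dvd_of_pow_eq_one (h.fpf' (npow_mem_zpowers x n) hw h1 e)

theorem card_sup : Nat.card (zpowers x ⊔ W : Subgroup G) = Nat.card W * c := by
  have h1 := Grp.card_sup_mul_card_inf_of_le_normalizer (zpowers_le.2 h.norm)
  have h2 : zpowers x ⊓ W = ⊥ := by
    rw [eq_bot_iff]
    rintro g ⟨⟨k, rfl⟩, hg⟩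
    exact h.fpf _ hg (by group)
  rwa [h2, card_bot, mul_one, Nat.card_zpowers, h.ord, mul_comm] at h1

theorem cc : ∀ a ∈ W, a ≠ 1 → ∀ g ∈ zpowers x ⊔ W, g * a = a * g → g ∈ W := by
  intro a ha h1 g hg e
  obtain ⟨u, hu, w, hw, rfl⟩ := (mem_sup_of_le_normalizer_right (zpowers_le.2 h.norm)).1 hg
  rw [mul_assoc, h.comm w hw a ha, ← mul_assoc, ← mul_assoc, mul_right_cancel_iff] at e
  rw [h.fpf' hu ha h1 (mul_inv_eq_iff_eq_mul.2 e), one_mul]
  exact hw

theorem solvable : Group.IsSolvable (zpowers x ⊔ W : Subgroup G) :=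
  Solv.Frob.isSolvable_sup_of_le_normalizer (zpowers_le.2 h.norm)
    (Group.isSolvable_of_comm fun a b => mul_comm' a b)
    (Group.isSolvable_of_comm fun a b => Subtype.ext (h.comm a a.2 b b.2))

theorem exists_card (hG : ASad G) : ∃ k, 1 ≤ k ∧ Nat.card W = 1 + k * c ∧ k * c ≤ c + 2 * k := by
  have h1 := Grp.APC.card_modEq_fix h.prime (y := MulAut.conj x)
    (by rw [← map_pow, ← h.ord, pow_orderOf_eq_one, map_one]) W
    fun w hw => conj_mem_of_mem_normalizer h.norm hw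
  have h2 : W ⊓ Grp.APC.fixSub (MulAut.conj x) = ⊥ := eq_bot_iff.2 fun w hw => h.fpf w hw.1 hw.2
  rw [h2, card_bot] at h1
  have h3 : 1 < Nat.card W := (one_lt_card_iff_ne_bot W).2 h.ne
  obtain ⟨k, hk⟩ := (Nat.modEq_iff_dvd' h3.le).1 h1.symm
  have hW : Nat.card W = 1 + k * c := by rw [mul_comm]; omega
  have h4 := cc_amb (hG _ h.solvable) le_sup_right h.comm h.cc h.card_sup
  refine ⟨k, Nat.pos_of_ne_zero (by rintro rfl; omega), hW, ?_⟩
  rw [hW] at h4
  refine Nat.le_of_mul_le_mul_left ?_ (show 0 < c * (c + 1) by have := h.prime.pos; positivity)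
  nlinarith

theorem trans (hW : Nat.card W = 1 + c) {w u : G} (hw : w ∈ W) (h1 : w ≠ 1) (hu : u ∈ W)
    (h2 : u ≠ 1) : ∃ g ∈ zpowers x, g * w * g⁻¹ = u := by
  have h3 : (fun g => g * w * g⁻¹) '' (zpowers x : Set G) = (W : Set G) \ {1} := by
    refine Set.eq_of_subset_of_ncard_le ?_ ?_
    · rintro _ ⟨g, hg, rfl⟩
      exact ⟨conj_mem_of_mem_normalizer (zpowers_le.2 h.norm hg) hw, by simpa using h1⟩
    · rw [Set.InjOn.ncard_image, Set.ncard_sdiff_singleton_of_mem (one_mem W),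
        ← Nat.card_coe_set_eq, ← Nat.card_coe_set_eq]
      · change Nat.card W - 1 ≤ Nat.card (zpowers x)
        rw [Nat.card_zpowers, h.ord, hW]; omega
      · intro a ha b hb e
        have := h.fpf' (mul_mem (inv_mem hb) ha) hw h1 (by
          simp only at e
          calc b⁻¹ * a * w * (b⁻¹ * a)⁻¹ = b⁻¹ * (a * w * a⁻¹) * b := by group
            _ = w := by rw [e]; group)
        exact (inv_mul_eq_one.1 this).symm
  exact (h3 ▸ ⟨hu, h2⟩ : u ∈ (fun g => g * w * g⁻¹) '' (zpowers x : Set G))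

theorem eq_three (h2 : c ≠ 2) (hW : Nat.card W = 1 + c) {t : G} (ht : t ∈ 𝐍[W])
    (hi : t * x * t⁻¹ = x⁻¹) : c = 3 := by
  obtain ⟨w, hw, h1⟩ := (bot_or_exists_ne_one W).resolve_left h.ne
  obtain ⟨g, hg, e⟩ := h.trans hW hw h1 (conj_mem_of_mem_normalizer ht hw) (by simpa using h1)
  obtain ⟨s, hs1, hs2⟩ : ∃ s : G, s * w * s⁻¹ = w ∧ s * x * s⁻¹ = x⁻¹ := by
    refine ⟨g⁻¹ * t, ?_, ?_⟩
    · calc g⁻¹ * t * w * (g⁻¹ * t)⁻¹ = g⁻¹ * (t * w * t⁻¹) * g := by group
        _ = w := by rw [← e]; group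
    · obtain ⟨k, rfl⟩ := hg
      calc (x ^ k)⁻¹ * t * x * ((x ^ k)⁻¹ * t)⁻¹ = (x ^ k)⁻¹ * (t * x * t⁻¹) * x ^ k := by group
        _ = x⁻¹ := by rw [hi]; group
  have ha : x * w * x⁻¹ ∈ W := conj_mem_of_mem_normalizer h.norm hw
  have hb : x⁻¹ * w * x ∈ W := inv_conj_mem_of_mem_normalizer h.norm hw
  have hfix : ∀ u ∈ W, s * u * s⁻¹ = u → u = 1 ∨ u = w := by
    intro u hu e
    refine or_iff_not_imp_left.2 fun h3 => ?_
    obtain ⟨g, hg, rfl⟩ := h.trans hW hw h1 hu h3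
    obtain ⟨k, rfl⟩ := mem_zpowers_iff.1 hg
    have h4 : s * x ^ k * s⁻¹ = (x ^ k)⁻¹ := by rw [← conj_zpow, hs2, inv_zpow]
    have h5 : x ^ k * x ^ k = 1 := by
      refine h.fpf' (mul_mem hg hg) hw h1 ?_
      generalize x ^ k = y at e h4
      calc y * y * w * (y * y)⁻¹ = y * (y * w * y⁻¹) * y⁻¹ := by group
        _ = y * (s * (y * w * y⁻¹) * s⁻¹) * y⁻¹ := by rw [e]
        _ = y * ((s * y * s⁻¹) * (s * w * s⁻¹) * (s * y * s⁻¹)⁻¹) * y⁻¹ := by group
        _ = w := by rw [h4, hs1]; group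
    have h6 : orderOf (x ^ k) ∣ c := by
      rw [← h.ord, ← Nat.card_zpowers x]; exact Subgroup.orderOf_dvd_natCard _ (zpow_mem_zpowers x k)
    have h7 : x ^ k = 1 := orderOf_eq_one_iff.1 (Nat.eq_one_of_dvd_coprimes
      ((Nat.coprime_primes h.prime Nat.prime_two).2 h2) h6 (orderOf_dvd_of_pow_eq_one (by rwa [sq])))
    simp [h7]
  have hs3 : s * x⁻¹ * s⁻¹ = x := by rw [← conj_inv, hs2, inv_inv]
  have h3 : s * (x * w * x⁻¹ * (x⁻¹ * w * x)) * s⁻¹ = x * w * x⁻¹ * (x⁻¹ * w * x) :=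
    calc s * (x * w * x⁻¹ * (x⁻¹ * w * x)) * s⁻¹ = (s * x * s⁻¹) * (s * w * s⁻¹) * (s * x⁻¹ * s⁻¹) *
          ((s * x⁻¹ * s⁻¹) * (s * w * s⁻¹) * (s * x * s⁻¹)) := by group
      _ = _ := by rw [hs1, hs2, hs3, ← h.comm _ ha _ hb]
  have hinv : ∀ n : ℕ, x ^ n * w * (x ^ n)⁻¹ = w⁻¹ → c ∣ 2 * n := fun n e =>
    h.dvd_of_fix hw h1 (by
      rw [two_mul, pow_add]
      generalize x ^ n = y at e
      calc y * y * w * (y * y)⁻¹ = y * (y * w * y⁻¹) * y⁻¹ := by group
        _ = (y * w * y⁻¹)⁻¹ := by conv_lhs => rw [e]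
                                  group
        _ = w := by rw [e, inv_inv])
  have h5 : x * x * w * (x * x)⁻¹ * w = x * (x * w * x⁻¹ * (x⁻¹ * w * x)) * x⁻¹ := by group
  rcases hfix _ (mul_mem ha hb) h3 with h4 | h4
  · rw [h4, mul_one, mul_inv_cancel, ← sq] at h5
    exact absurd ((Nat.prime_dvd_prime_iff_eq h.prime Nat.prime_two).1
      (h.prime.dvd_of_dvd_pow (n := 2) (hinv 2 (eq_inv_of_mul_eq_one_left h5)))) h2
  · rw [h4] at h5
    have h6 : x * x * x * w * (x * x * x)⁻¹ * (x * w * x⁻¹) = x * x * w * (x * x)⁻¹ :=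
      calc _ = x * (x * x * w * (x * x)⁻¹ * w) * x⁻¹ := by group
        _ = _ := by rw [h5]; group
    rw [← h5, h.comm _ (conj_mem_of_mem_normalizer (mul_mem h.norm h.norm) hw) w hw, ← mul_assoc,
      mul_eq_right, ← pow_three'] at h6
    have h8 := hinv 3 (eq_inv_of_mul_eq_one_left h6)
    rcases (Nat.Prime.dvd_mul h.prime).1 h8 with h9 | h9
    · exact absurd ((Nat.prime_dvd_prime_iff_eq h.prime Nat.prime_two).1 h9) h2
    · exact (Nat.prime_dvd_prime_iff_eq h.prime Nat.prime_three).1 h9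

theorem not_prime_card (h2 : c ≠ 2) {t : G} (ht : t ∈ 𝐍[W]) (hi : t * x * t⁻¹ = x⁻¹) :
    ¬ (Nat.card W).Prime := by
  intro hp
  obtain ⟨w, hw, h1⟩ := (bot_or_exists_ne_one W).resolve_left h.ne
  have h3 : zpowers w = W := eq_of_le_of_card_ge (zpowers_le.2 hw) (by
    have := (Nat.dvd_prime hp).1 (Subgroup.orderOf_dvd_natCard W hw)
    rw [Nat.card_zpowers, this.resolve_left fun e => h1 (orderOf_eq_one_iff.1 e)])
  obtain ⟨i, hi'⟩ : x * w * x⁻¹ ∈ zpowers w := h3 ▸ conj_mem_of_mem_normalizer h.norm hw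
  obtain ⟨j, hj⟩ : t * w * t⁻¹ ∈ zpowers w := h3 ▸ conj_mem_of_mem_normalizer ht hw
  simp only at hi' hj
  have h4 : x * (t * w * t⁻¹) * x⁻¹ = t * (x * w * x⁻¹) * t⁻¹ := by
    rw [← hj, ← conj_zpow, ← hi', ← conj_zpow, ← hj, ← zpow_mul, ← zpow_mul, mul_comm]
  have h5 := h.dvd_of_fix (n := 2) (conj_mem_of_mem_normalizer ht hw) (by simpa using h1)
    (calc x ^ 2 * (t * w * t⁻¹) * (x ^ 2)⁻¹ = x * (x * (t * w * t⁻¹) * x⁻¹) * x⁻¹ := by rw [sq]; group
      _ = x * ((t * x * t⁻¹) * (t * w * t⁻¹) * (t * x * t⁻¹)⁻¹) * x⁻¹ := by rw [h4]; group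
      _ = _ := by rw [hi]; group)
  exact h2 ((Nat.prime_dvd_prime_iff_eq h.prime Nat.prime_two).1 h5)

theorem le_commutator {H : Subgroup G} (hx : x ∈ H) (hW : W ≤ H) : W ≤ ⁅H, H⁆ := by
  let f : W → W := fun u => ⟨⁅x, u.1⁆, by
    rw [commutatorElement_def]
    exact mul_mem (conj_mem_of_mem_normalizer h.norm u.2) (inv_mem u.2)⟩
  have hf : Function.Injective f := by
    intro a b e
    have e1 : x * a * x⁻¹ * a.1⁻¹ = x * b * x⁻¹ * b.1⁻¹ := congrArg Subtype.val e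
    have := h.fpf _ (mul_mem (inv_mem b.2) a.2) (calc x * (b.1⁻¹ * a) * x⁻¹
        = (x * b * x⁻¹)⁻¹ * (x * a * x⁻¹ * a.1⁻¹) * a := by group
      _ = _ := by rw [e1]; group)
    exact Subtype.ext (inv_mul_eq_one.1 this).symm
  intro w hw
  obtain ⟨u, hu⟩ := Finite.injective_iff_surjective.1 hf ⟨w, hw⟩
  rw [← show ⁅x, u.1⁆ = w from congrArg Subtype.val hu]
  exact commutator_mem_commutator hx (hW u.2)

end FMod

theorem FMod.false_of_seven {W : Subgroup G} {x y : G} (h : FMod W x 7) (hG : ASad G)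
    (hW : Nat.card W = 8) (hy : y ∈ 𝐍[W]) (ho : orderOf y = 3) (e : y * x * y⁻¹ = x ^ 2) : False := by
  have hK := h.card_sup
  have h1 := classes_amb le_sup_right h.cc hK
  rw [hW] at hK h1
  have hn : zpowers y ≤ 𝐍[zpowers x ⊔ W] := le_normalizer_sup (zpowers_le.2 (mem_normalizer_of_cj_le (by
    rw [cj_le_iff_forall]
    rintro _ ⟨k, rfl⟩
    rw [← conj_zpow, e]
    exact zpow_mem (npow_mem_zpowers x 2) k))) (zpowers_le.2 hy)
  have h2 := Grp.card_sup_mul_card_inf_of_le_normalizer hn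
  rw [(disjoint_of_coprime_natCard (by rw [Nat.card_zpowers, ho, hK]; norm_num)).eq_bot, card_bot, mul_one,
    Nat.card_zpowers, ho, hK] at h2
  have hs := Solv.Frob.isSolvable_sup_of_le_normalizer hn
    (Group.isSolvable_of_comm fun a b => mul_comm' a b) h.solvable
  set K := zpowers x ⊔ W
  set H := zpowers y ⊔ K
  have hKH : K ≤ H := le_sup_right
  have hx : x ∈ H := hKH (mem_sup_left (mem_zpowers x))
  have h3 := (S4200.result (K.subgroupOf H)).2.1
  have h4 := (K.subgroupOf H).card_mul_index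
  rw [Class.FG.card_conjClasses_congr (subgroupOfEquivOfLe hKH)] at h3
  rw [Grp.card_subgroupOf_of_le hKH, hK, h2] at h4
  have h5 : K.subgroupOf H ≤ commutator H := by
    rw [← map_le_map_iff_of_injective H.subtype_injective, map_subtype_commutator,
      map_subgroupOf_of_le hKH]
    refine sup_le (zpowers_le.2 ?_) (h.le_commutator hx (le_sup_right.trans hKH))
    have := commutator_mem_commutator (mem_sup_left (mem_zpowers y) : y ∈ H) hx
    rwa [commutatorElement_def, e, sq, mul_inv_cancel_right] at this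
  have h6 := Nat.le_of_dvd (by omega) (index_dvd_of_le h5)
  have h7 := (hG H hs).card_le
  have h8 : (commutator H).index ^ 2 ≤ 3 ^ 2 := Nat.pow_le_pow_left (by omega) 2
  rw [show (K.subgroupOf H).index = 3 by omega] at h3
  omega

end Cfsg.Agent.MinS
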