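import Mathlib
import Cfsg.Agent.MinS.SadMod
import Cfsg.Agent.PLocal.CoprimeQuot
import Cfsg.Agent.Solv.NilpAmb
import Cfsg.Agent.FGS.SolvRad
import Cfsg.Agent.FGS.ClassSize
import Cfsg.Agent.Grp.Frattini

/-!
Frattini extensions whose solvable subgroups have average character degree at most two are central.
-/

set_option autoImplicit false
set_option linter.unusedSectionVars false

namespace Cfsg.Agent.MinS

open Subgroup Cfsg Cfsg.Agent.PLocal Cfsg.Agent.PLocal.Amb
open scoped commutatorElement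

universe u

variable {G : Type*} [Group G] [Finite G] {S : Type*} [Group S]

theorem ASad.of_surjective [Finite S] (h : ASad G) (f : G →* S) (hf : Function.Surjective f)
    (hk : Group.IsSolvable f.ker) : ASad S := fun H hH =>
  (h _ (FGS.isSolvable_comap f hH hk)).of_surjective (f.subgroupComap H)
    (f.subgroupComap_surjective_of_surjective H hf)

theorem ASad.equiv [Finite S] (h : ASad G) (e : G ≃* S) : ASad S :=
  h.of_surjective e.toMonoidHom e.surjective (by
    rw [(MonoidHom.ker_eq_bot_iff _).2 e.injective]; infer_instance)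

/-- elements of `S` that exclude a faithful module of characteristic `r` -/
def Kill (S : Type*) [Group S] (r : ℕ) : Prop :=
  (∃ (c : ℕ) (x t : S), c.Prime ∧ c ≠ 2 ∧ c ≠ r ∧ ¬ (c = 3 ∧ r = 2) ∧ orderOf x = c ∧
    t * x * t⁻¹ = x⁻¹) ∨
  (r ≠ 7 ∧ ∃ x y : S, orderOf x = 7 ∧ orderOf y = 3 ∧ y * x * y⁻¹ = x ^ 2)

theorem Kill.equiv {T : Type*} [Group T] {r : ℕ} (h : Kill S r) (e : S ≃* T) : Kill T r := by
  rcases h with ⟨c, x, t, h1, h2, h3, h4, h5, h6⟩ | ⟨h1, x, y, h2, h3, h4⟩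
  · exact Or.inl ⟨c, e x, e t, h1, h2, h3, h4, by rwa [e.orderOf_eq], by
      rw [← map_inv, ← map_mul, ← map_mul, h6, map_inv]⟩
  · exact Or.inr ⟨h1, e x, e y, by rwa [e.orderOf_eq], by rwa [e.orderOf_eq], by
      rw [← map_inv, ← map_mul, ← map_mul, h4, map_pow]⟩

theorem exists_lift_norm (f : G →* S) (hf : Function.Surjective f) {c : ℕ} (hc : c.Prime)
    (hk : (Nat.card f.ker).Coprime c) {a b : S} (ha : orderOf a = c) {j : ℤ}
    (hb : b * a * b⁻¹ = a ^ j) : ∃ x : G, orderOf x = c ∧ f x = a ∧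
      ∃ t ∈ 𝐍[zpowers x], f t = b ∧ ∀ t' ∈ 𝐍[zpowers x], f t' = b → t' * x * t'⁻¹ = x ^ j := by
  have := Fact.mk hc
  have : Finite S := Finite.of_surjective f hf
  obtain ⟨x, rfl, h2⟩ := FGS.exists_lift_prime_dvd_of_surjective f hf a
  have h3 : (orderOf x).Coprime (Nat.card f.ker) := Nat.coprime_of_dvd fun r hr h4 h5 => by
    have h6 := h2 r hr h4
    rw [ha, Nat.prime_dvd_prime_iff_eq hr hc] at h6
    exact hr.ne_one (Nat.eq_one_of_dvd_coprimes hk h5 (h6 ▸ dvd_rfl))
  have hx : orderOf x = c := (orderOf_map_of_coprime_ker f h3).symm.trans ha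
  have h4 := map_normalizer_of_isPGroup f hf (zpowers x)
    (isPGroup_zpowers ⟨1, by rw [pow_one, ← hx, pow_orderOf_eq_one]⟩) hk
  rw [MonoidHom.map_zpowers] at h4
  obtain ⟨t, ht, rfl⟩ : b ∈ (𝐍[zpowers x]).map f := h4 ▸ mem_normalizer_of_cj_le (by
    rw [cj_le_iff_forall]
    rintro _ ⟨k, rfl⟩
    rw [← conj_zpow, hb]
    exact zpow_mem (zpow_mem_zpowers _ j) k)
  refine ⟨x, hx, rfl, t, ht, rfl, fun t' ht' e => ?_⟩
  have h5 : (t' * x * t'⁻¹)⁻¹ * x ^ j ∈ zpowers x ⊓ f.ker :=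
    mem_inf.2 ⟨mul_mem (inv_mem (conj_mem_of_mem_normalizer ht' (mem_zpowers x))) (zpow_mem_zpowers x j), by
      rw [MonoidHom.mem_ker, map_mul, map_inv, map_mul, map_mul, map_inv, e, hb,
        map_zpow, inv_mul_cancel]⟩
  rw [(disjoint_of_coprime_natCard (by rwa [Nat.card_zpowers])).eq_bot, mem_bot] at h5
  exact inv_mul_eq_one.1 h5

theorem fmod_commutator {V : Subgroup G} [V.Normal] (hV : ∀ a ∈ V, ∀ b ∈ V, a * b = b * a) {x : G}
    {c : ℕ} (hc : c.Prime) (hx : orderOf x = c) (hcop : c.Coprime (Nat.card V)) (hn : x ∉ 𝐂[V]) :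
    FMod ⁅V, zpowers x⁆ x c := by
  have : IsMulCommutative V := ⟨⟨fun a b => Subtype.ext (hV a a.2 b b.2)⟩⟩
  have h1 := Solv.coprime_centralizer_inf_commutator (zpowers x) V le_normalizer_of_normal
    (by rwa [Nat.card_zpowers, hx])
  have h2 : ⁅V, zpowers x⁆ ≤ V := commutator_le_left _ _
  refine ⟨hc, hx, fun a ha b hb => hV a (h2 ha) b (h2 hb), fun h => hn ?_,
    le_normalizer_commutator le_normalizer_of_normal le_normalizer (mem_zpowers x), fun w hw e => ?_⟩
  · rw [commutator_comm, commutator_eq_bot_iff_le_centralizer] at h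
    exact h (mem_zpowers x)
  · rw [← mem_bot, ← h1]
    refine mem_inf.2 ⟨mem_inf.2 ⟨h2 hw, ?_⟩, hw⟩
    rw [Amb.centralizer_zpowers, mem_centralizer_singleton_iff]
    exact (mul_inv_eq_iff_eq_mul.1 e).symm

theorem false_of_kill (hG : ASad G) (f : G →* S) (hf : Function.Surjective f) {r : ℕ} (hr : r.Prime)
    (hk : IsPGroup r f.ker) {V : Subgroup G} [V.Normal] (hVk : V ≤ f.ker)
    (hV : ∀ a ∈ V, ∀ b ∈ V, a * b = b * a) (hC : 𝐂[V] ≤ f.ker) : ¬ Kill S r := by
  have := Fact.mk hr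
  obtain ⟨n, hn⟩ := hk.exists_card_eq
  have key : ∀ {c : ℕ} {x : G}, c.Prime → c ≠ r → orderOf x = c → orderOf (f x) = c →
      FMod ⁅V, zpowers x⁆ x c ∧ ∃ m, Nat.card (⁅V, zpowers x⁆ : Subgroup G) = r ^ m := by
    intro c x hc hcr hx hfx
    obtain ⟨m, hm⟩ := (hk.to_le hVk).exists_card_eq
    refine ⟨fmod_commutator hV hc hx (hm ▸ ((Nat.coprime_primes hc hr).2 hcr).pow_right m) fun h => ?_,
      (hk.to_le ((commutator_le_left _ _).trans hVk)).exists_card_eq⟩
    rw [(MonoidHom.mem_ker).1 (hC h), orderOf_one] at hfx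
    exact hc.ne_one hfx.symm
  have hN : ∀ x : G, 𝐍[zpowers x] ≤ 𝐍[⁅V, zpowers x⁆] := fun x =>
    le_normalizer_commutator le_normalizer_of_normal le_rfl
  have h2r : ∀ m k, r ^ m = 2 ^ (k + 1) → r = 2 := fun m k e =>
    ((Nat.prime_dvd_prime_iff_eq Nat.prime_two hr).1 (Nat.prime_two.dvd_of_dvd_pow
      (e ▸ dvd_pow_self 2 (by omega)))).symm
  rintro (⟨c, a, b, hc, h2, hcr, h3, ha, hb⟩ | ⟨h7, a, b, ha, hb, e⟩)
  · obtain ⟨x, hx, rfl, t, ht, rfl, h4⟩ := exists_lift_norm f hf hc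
      (hn ▸ ((Nat.coprime_primes hr hc).2 hcr.symm).pow_left n) ha (j := -1) (by simpa using hb)
    have h5 := h4 t ht rfl
    rw [zpow_neg_one] at h5
    obtain ⟨hM, m, hm⟩ := key hc hcr hx ha
    obtain ⟨k, k1, k2, k3⟩ := hM.exists_card hG
    by_cases hk1 : k = 1
    · rw [hk1, one_mul] at k2
      obtain rfl := hM.eq_three h2 k2 (hN x ht) h5
      exact h3 ⟨rfl, h2r m 1 (by omega)⟩
    have h6 : 3 ≤ c := by have := hc.two_le; omega
    obtain rfl : c = 3 := by
      by_contra h7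
      have h8 : 5 ≤ c := by
        by_contra h9
        obtain rfl : c = 4 := by omega
        exact absurd hc (by norm_num)
      nlinarith [show 2 ≤ k by omega]
    obtain rfl | rfl : k = 2 ∨ k = 3 := by omega
    · exact hM.not_prime_card h2 (hN x ht) h5 (by rw [k2]; norm_num)
    · have h7 : 2 ∣ r ^ m := by omega
      have h8 : 5 ∣ r ^ m := by omega
      have h9 := (Nat.prime_dvd_prime_iff_eq Nat.prime_two hr).1 (Nat.prime_two.dvd_of_dvd_pow h7)
      have h10 := (Nat.prime_dvd_prime_iff_eq Nat.prime_five hr).1 (Nat.prime_five.dvd_of_dvd_pow h8)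
      omega
  · have hp7 : Nat.Prime 7 := by norm_num
    obtain ⟨x, hx, rfl, t, ht, rfl, h4⟩ := exists_lift_norm f hf hp7
      (hn ▸ ((Nat.coprime_primes hr hp7).2 h7).pow_left n) ha (j := 2) (by simpa using e)
    obtain ⟨hM, m, hm⟩ := key hp7 h7.symm hx ha
    obtain ⟨k, k1, k2, k3⟩ := hM.exists_card hG
    obtain rfl : k = 1 := by omega
    obtain rfl := h2r m 2 (by omega)
    obtain ⟨y, hy, h5, h6⟩ := FGS.exists_lift_prime_dvd f t
    have h8 : orderOf y = 3 := by
      rw [← hb, ← h5]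
      refine (orderOf_map_of_coprime_ker f (hn ▸ (Nat.Coprime.pow_right n ?_))).symm
      rw [Nat.coprime_comm, Nat.Prime.coprime_iff_not_dvd Nat.prime_two]
      intro h
      have := h6 2 Nat.prime_two h
      omega
    have h9 := zpowers_le.2 ht hy
    exact hM.false_of_seven hG k2 (hN x h9) h8 (by simpa using h4 y h9 h5)

theorem perfect_of_frattini (f : G →* S) (hf : Function.Surjective f) (hS : commutator S = ⊤)
    (hΦ : ∀ K : Subgroup G, K ⊔ f.ker = ⊤ → K = ⊤) : commutator G = ⊤ := by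
  refine hΦ _ ?_
  rw [← comap_map_eq, map_commutator_eq, MonoidHom.range_eq_top.2 hf, ← commutator_def, hS, comap_top]

theorem ker_le_center [Finite S] [IsSimpleGroup S] (hS : commutator S = ⊤)
    (hK : ∀ r : ℕ, r.Prime → Kill S r) (G : Type u) [Group G] [Finite G] : ASad G →
    ∀ f : G →* S, Function.Surjective f → (∀ K : Subgroup G, K ⊔ f.ker = ⊤ → K = ⊤) →
      f.ker ≤ center G := by
  refine Grp.card_induction (P := fun G _ _ => ASad G → ∀ f : G →* S, Function.Surjective f →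
    (∀ K : Subgroup G, K ⊔ f.ker = ⊤ → K = ⊤) → f.ker ≤ center G) ?_ G
  intro G _ _ ih hG f hf hΦ
  have hnil : Group.IsNilpotent f.ker := by
    have h1 : f.ker ≤ frattini G := Grp.le_frattini_iff.2 fun M hM => by
      by_contra h
      exact hM.1 (hΦ M (hM.2 _ (left_lt_sup.2 h)))
    have := frattini_nilpotent (G := G)
    exact Group.nilpotent_of_mulEquiv (subgroupOfEquivOfLe h1)
  have hmin : ∀ M : Subgroup G, M.Normal → M ≤ f.ker → M ≠ ⊥ → ⁅f.ker, ⊤⁆ ≤ M := by
    intro M _ hM h1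
    have hπ := QuotientGroup.mk'_surjective M
    have hker : (QuotientGroup.lift M f hM).ker = f.ker.map (QuotientGroup.mk' M) :=
      QuotientGroup.ker_lift M f hM
    have h2 := ih (G ⧸ M) (by
      rw [← Grp.card_quotient_mul_card M]
      exact lt_mul_of_one_lt_right Nat.card_pos ((one_lt_card_iff_ne_bot M).2 h1))
      (hG.of_surjective _ hπ (by rw [QuotientGroup.ker_mk']; exact FGS.isSolvable_of_le hM inferInstance))
      (QuotientGroup.lift M f hM) (QuotientGroup.lift_surjective_of_surjective M f hf hM)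
      (fun K hK => by
        rw [← map_comap_eq_self_of_surjective hπ K, hΦ (K.comap (QuotientGroup.mk' M)) ?_,
          map_top_of_surjective _ hπ]
        have h3 := congrArg (comap (QuotientGroup.mk' M)) hK
        rwa [hker, ← comap_sup_eq _ _ _ hπ, comap_map_eq, QuotientGroup.ker_mk', sup_eq_left.2 hM,
          comap_top] at h3)
    rw [commutator_le]
    intro a ha g _
    rw [← QuotientGroup.eq_one_iff, ← QuotientGroup.mk'_apply, map_commutatorElement,
      commutatorElement_eq_one_iff_mul_comm]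
    exact (mem_center_iff.1 (h2 (hker ▸ mem_map_of_mem _ ha)) _).symm
  by_contra hc
  have hV : ⁅f.ker, ⊤⁆ ≠ ⊥ := fun h => hc (commutator_top_right_eq_bot_iff_le_center.1 h)
  have hVN : ⁅f.ker, ⊤⁆ ≤ f.ker := commutator_le_left _ _
  have hN : f.ker ≠ ⊥ := fun h => hV (le_bot_iff.1 (h ▸ hVN))
  have hcore : ∀ r : ℕ, pCoreOf r f.ker ≠ ⊥ → IsPGroup r (⁅f.ker, ⊤⁆ : Subgroup G) := fun r h =>
    (isPGroup_pCoreOf r f.ker).to_le (hmin _ (normalizer_eq_top_iff.1 (top_le_iff.1
      (le_normalizer_of_normal.trans (normalizer_le_normalizer_pCoreOf r f.ker)))) (pCoreOf_le _ _) h)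
  obtain ⟨r, hr, h1⟩ := Solv.NA.exists_pCoreOf_ne_bot (K := f.ker) inferInstance hN
  have := Fact.mk hr
  have hp : IsPGroup r f.ker := by
    by_contra h
    obtain ⟨s, hs, hsr, hd⟩ := Solv.NA.exists_prime_ne_of_not_isPGroup h
    have := Fact.mk hs
    exact hV (disjoint_self.1 (IsPGroup.disjoint_of_ne r s hsr.symm _ _ (hcore r h1)
      (hcore s (Solv.NA.pCoreOf_ne_bot hnil hd))))
  have hZ := hmin (f.ker ⊓ 𝐂[f.ker]) inferInstance inf_le_left
    (inf_centralizer_ne_bot hp hp le_normalizer hN)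
  refine false_of_kill hG f hf hr hp hVN
    (fun a ha b hb => (mem_centralizer_iff.1 (hZ hb).2 a (hVN ha))) ?_ (hK r hr)
  rcases ((inferInstance : (𝐂[(⁅f.ker, ⊤⁆ : Subgroup G)]).Normal).map f hf).eq_bot_or_eq_top with h | h
  · exact (Subgroup.map_eq_bot_iff _).1 h
  · have h2 := hΦ _ (by rw [← comap_map_eq, h, comap_top])
    have h3 : ⁅⁅f.ker, (⊤ : Subgroup G)⁆, (⊤ : Subgroup G)⁆ = ⊥ := by
      rw [commutator_comm, commutator_eq_bot_iff_le_centralizer, h2]
    have h4 := commutator_commutator_eq_bot_of_rotate (H₁ := ⊤) (H₂ := ⊤) (H₃ := f.ker)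
      (by rwa [commutator_comm ⊤ f.ker]) h3
    rw [← commutator_def, perfect_of_frattini f hf hS hΦ, commutator_comm] at h4
    exact absurd h4 hV

end Cfsg.Agent.MinS
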