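import Mathlib
import Cfsg.Agent.GW.BTools
import Cfsg.Agent.PLocal.PrimeCoreAmb
import Cfsg.Agent.PLocal.SigCoprime
import Cfsg.Agent.S3815

/-! Groups in which every two elements generate a solvable subgroup (Thompson, Flavell), part 1:
the minimal counterexample, Powell's lemma and the lifting lemma. -/

set_option autoImplicit false
set_option linter.unusedSectionVars false

namespace Cfsg.Agent.TwoGen

open Subgroup Cfsg Cfsg.Agent.PLocal Cfsg.Agent.PLocal.Amb Cfsg.Agent.GW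
open scoped commutatorElement

variable {G : Type*} [Group G] {p : ℕ}

/-- A minimal counterexample: a minimal simple group not generated by two elements. -/
structure MC (G : Type*) [Group G] : Prop where
  simple : IsSimpleGroup G
  nsolv : ¬ Group.IsSolvable G
  proper : ∀ H : Subgroup G, H ≠ ⊤ → Group.IsSolvable H
  two : ∀ a b : G, closure ({a, b} : Set G) ≠ ⊤

theorem le_centralizer_of_inf_eq_bot {X Z : Subgroup G} (h1 : X ≤ 𝐍[Z]) (h2 : Z ≤ 𝐍[X])
    (h : X ⊓ Z = ⊥) : X ≤ 𝐂[Z] := by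
  intro x hx z hz
  have a1 : x * z * x⁻¹ * z⁻¹ ∈ Z := Z.mul_mem (conj_mem_of_mem_normalizer (h1 hx) hz) (Z.inv_mem hz)
  have a2 : x * z * x⁻¹ * z⁻¹ ∈ X := by
    have := X.mul_mem hx (conj_mem_of_mem_normalizer (h2 hz) (X.inv_mem hx))
    simpa [mul_assoc] using this
  have a3 : x * z * x⁻¹ * z⁻¹ ∈ X ⊓ Z := ⟨a2, a1⟩
  rw [h, mem_bot] at a3
  calc z * x = (x * z * x⁻¹ * z⁻¹) * (z * x) := by rw [a3, one_mul]
    _ = x * z := by group

theorem zpowers_le_normalizer {a : G} {Y : Subgroup G} (h : a ∈ 𝐍[Y]) : zpowers a ≤ 𝐍[Y] :=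
  zpowers_le.2 h

theorem cj_zpowers (g a : G) : cj(g, zpowers a) = zpowers (g * a * g⁻¹) := by
  rw [MonoidHom.map_zpowers]; rfl

variable [Finite G] [hp : Fact p.Prime]

theorem coprime_of_not_dvd {n : ℕ} (h : ¬ p ∣ n) : n.Coprime p :=
  ((Nat.Prime.coprime_iff_not_dvd hp.out).2 h).symm

theorem not_dvd_of_coprime {n : ℕ} (h : n.Coprime p) : ¬ p ∣ n :=
  (Nat.Prime.coprime_iff_not_dvd hp.out).1 h.symm

theorem not_dvd_ppcOf (L : Subgroup G) : ¬ p ∣ Nat.card (ppcOf p L) :=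
  not_dvd_of_coprime (coprime_ppcOf p L)

theorem le_ppcOf {X L : Subgroup G} (hX : ¬ p ∣ Nat.card X) (hXL : X ≤ L) (hn : L ≤ 𝐍[X]) :
    X ≤ ppcOf p L :=
  Grp.le_map_pPrimeCore hXL hn (coprime_of_not_dvd hX)

theorem orderOf_coprime_of_mem {Y : Subgroup G} (hY : ¬ p ∣ Nat.card Y) {y : G} (hy : y ∈ Y) :
    (orderOf y).Coprime p :=
  Nat.Coprime.coprime_dvd_left (Subgroup.orderOf_dvd_natCard Y hy) (coprime_of_not_dvd hY)

theorem eq_one_of_mem_of_mem {R Y : Subgroup G} (hR : IsPGroup p R) (hY : ¬ p ∣ Nat.card Y) {y : G}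
    (h1 : y ∈ R) (h2 : y ∈ Y) : y = 1 :=
  eq_one_of_isPGroup_of_coprime hR h1 (orderOf_coprime_of_mem hY h2)

theorem isPGroup_zpowers_of_orderOf {a : G} (ha : orderOf a = p) : IsPGroup p (zpowers a) :=
  isPGroup_zpowers ⟨1, by rw [pow_one, ← ha, pow_orderOf_eq_one]⟩

/-- A `p`-group is Sylow in its product with a `p'`-group that it normalizes. -/
theorem isSyl_sup {P Y : Subgroup G} (hP : IsPGroup p P) (hY : ¬ p ∣ Nat.card Y) (hn : P ≤ 𝐍[Y]) :
    IsSyl p P (P ⊔ Y) := by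
  refine isSyl_of_not_dvd_relIndex hP le_sup_left fun h => hY ?_
  have h1 := card_sup_mul_card_inf hn
  rw [← card_mul_relIndex_of_le (le_sup_left : P ≤ P ⊔ Y), mul_assoc] at h1
  have h2 := Nat.eq_of_mul_eq_mul_left Nat.card_pos h1
  rw [← h2]
  exact h.mul_right _

/-- A `p'`-subgroup of `Y P` (`P` a `p`-group normalizing `Y`) lies in `Y`. -/
theorem mem_of_mem_sup {P Y : Subgroup G} (hP : IsPGroup p P) (hn : P ≤ 𝐍[Y]) {y : G}
    (hy : y ∈ Y ⊔ P) (hc : (orderOf y).Coprime p) : y ∈ Y :=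
  pRes_sup_le hP hn (mem_pRes hy hc)

theorem exists_orderOf_eq_of_ne_bot {R : Subgroup G} (hR : IsPGroup p R) (h : R ≠ ⊥) :
    ∃ b ∈ R, orderOf b = p := by
  obtain ⟨b, hb⟩ := exists_prime_orderOf_dvd_card' p (Solv.NA.dvd_card_of_ne_bot hR h)
  exact ⟨b, b.2, by rw [← hb, Subgroup.orderOf_coe]⟩

theorem zpowers_eq_of_mem {a b : G} (ha : orderOf a = p) (hb : orderOf b = p)
    (h : b ∈ zpowers a) : zpowers b = zpowers a :=
  eq_of_le_of_card_le (zpowers_le.2 h) (by rw [Nat.card_zpowers, Nat.card_zpowers, ha, hb])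

namespace MC

theorem normalizer_ne_top (h : MC G) {Z : Subgroup G} (hZ : IsPGroup p Z) (h1 : Z ≠ ⊥) :
    𝐍[Z] ≠ ⊤ := by
  have := h.simple
  refine BT.normalizer_ne_top h1 fun ht => h.nsolv ?_
  have := Solv.isSolvable_of_isPGroup hZ
  rw [ht] at this
  exact Group.isSolvable_of_surjective (f := (⊤ : Subgroup G).subtype) fun x => ⟨⟨x, trivial⟩, rfl⟩

theorem centralizer_ne_top (h : MC G) {Z : Subgroup G} (hZ : IsPGroup p Z) (h1 : Z ≠ ⊥) :
    𝐂[Z] ≠ ⊤ := fun ht =>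
  h.normalizer_ne_top hZ h1 (top_le_iff.1 (ht ▸ centralizer_le_normalizer' Z))

theorem pc (h : MC G) (p : ℕ) [Fact p.Prime] {H : Subgroup G} (hH : H ≠ ⊤) : IsPConstrained p H :=
  PCA.isPConstrained_of_isSolvable (h.proper H hH)

/-- Powell's lemma: `O_{p'}(C(z)) = 1` for a `p`-element `z ≠ 1`. -/
theorem eq_bot_of_normal_cent (h : MC G) {z : G} (hz1 : z ≠ 1) (hz : IsPGroup p (zpowers z))
    {X : Subgroup G} (hX : ¬ p ∣ Nat.card X) (hXC : X ≤ 𝐂[zpowers z])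
    (hn : 𝐂[zpowers z] ≤ 𝐍[X]) : X = ⊥ := by
  have := h.simple
  rw [eq_bot_iff]
  intro x hx
  have hxo := orderOf_coprime_of_mem hX hx
  have hcomm : Commute x z := (hXC hx z (mem_zpowers z)).symm
  obtain ⟨k, hk⟩ := isPGroup_iff.1 hz z (mem_zpowers z)
  have key : x ∈ pPrimeCore p G := by
    refine S3815.result x hxo fun g hg => ?_
    set H := closure ({x * z, g} : Set G) with hH
    have hxz : x * z ∈ H := subset_closure (by simp)
    have hgH : g ∈ H := subset_closure (by simp)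
    have hxH : x ∈ H := by
      refine mem_of_pow_mem_of_coprime (n := p ^ k) ?_ (hxo.pow_right k)
      have := H.pow_mem hxz (p ^ k)
      rwa [hcomm.mul_pow, hk, mul_one] at this
    have hzH : z ∈ H := by simpa using H.mul_mem (H.inv_mem hxH) hxz
    have h1 : H ⊓ X ≤ ppcOf p H := by
      refine PCA.le_pPrimeCore_of_normal_in_centralizer (h.pc p (h.two _ _)) (zpowers_le.2 hzH) hz
        (coprime_of_not_dvd (Sig.not_dvd_of_le inf_le_right hX)) (inf_le_inf_left _ hXC) ?_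
      exact le_normalizer_inf (inf_le_left.trans le_normalizer) (inf_le_right.trans hn)
    have h2 : ¬ p ∣ Nat.card ↥(zpowers g ⊔ ppcOf p H) := by
      refine Sig.not_dvd_sup ((zpowers_le.2 hgH).trans (le_normalizer_ppcOf p H)) ?_
        (not_dvd_ppcOf H)
      rw [Nat.card_zpowers]; exact not_dvd_of_coprime hg
    exact orderOf_coprime_of_mem h2
      (mul_mem (mem_sup_right (h1 ⟨hxH, hx⟩)) (mem_sup_left (mem_zpowers g)))
  rcases (inferInstance : (pPrimeCore p G).Normal).eq_bot_or_eq_top with h0 | h0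
  · rwa [h0] at key
  · exfalso
    have h3 : z ∈ ppcOf p (⊤ : Subgroup G) := by
      refine le_ppcOf (X := pPrimeCore p G) ?_ le_top ?_ (h0 ▸ mem_top z)
      · exact not_dvd_of_coprime (Grp.coprime_of_le_pPrimeCore le_rfl)
      · rw [normalizer_eq_top]
    exact hz1 (eq_one_of_mem_of_mem hz (not_dvd_ppcOf _) (mem_zpowers z) h3)

theorem eq_bot_of_normal_centralizer (h : MC G) {Z : Subgroup G} (hZ : IsPGroup p Z) (h1 : Z ≠ ⊥)
    {X : Subgroup G} (hX : ¬ p ∣ Nat.card X) (hXC : X ≤ 𝐂[Z]) (hn : 𝐂[Z] ≤ 𝐍[X]) : X = ⊥ := by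
  obtain ⟨⟨z, hzZ, hzC⟩, hz1⟩ := (ne_bot_iff_exists_ne_one.1
    (inf_centralizer_ne_bot hZ hZ le_normalizer h1))
  have hz1' : z ≠ 1 := fun e => hz1 (Subtype.ext e)
  have hzp : IsPGroup p (zpowers z) := hZ.to_le (zpowers_le.2 hzZ)
  have hle : 𝐂[Z] ≤ 𝐂[zpowers z] := centralizer_anti (zpowers_le.2 hzZ)
  have hZC : Z ≤ 𝐂[zpowers z] := le_centralizer_iff.1 (zpowers_le.2 hzC)
  have hne : 𝐂[zpowers z] ≠ ⊤ := h.centralizer_ne_top hzp (by simpa using hz1')
  have h2 : X ≤ ppcOf p 𝐂[zpowers z] :=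
    PCA.le_pPrimeCore_of_normal_in_centralizer (h.pc p hne) hZC hZ (coprime_of_not_dvd hX)
      (le_inf (hXC.trans hle) hXC) (inf_le_right.trans hn)
  rw [h.eq_bot_of_normal_cent hz1' hzp (not_dvd_ppcOf _) (ppcOf_le p _)
    (le_normalizer_ppcOf p _)] at h2
  exact le_bot_iff.1 h2

theorem ppcOf_centralizer (h : MC G) {Z : Subgroup G} (hZ : IsPGroup p Z) (h1 : Z ≠ ⊥) :
    ppcOf p 𝐂[Z] = ⊥ :=
  h.eq_bot_of_normal_centralizer hZ h1 (not_dvd_ppcOf _) (ppcOf_le p _) (le_normalizer_ppcOf p _)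

theorem ppcOf_normalizer (h : MC G) {Z : Subgroup G} (hZ : IsPGroup p Z) (h1 : Z ≠ ⊥) :
    ppcOf p 𝐍[Z] = ⊥ := by
  refine h.eq_bot_of_normal_centralizer hZ h1 (not_dvd_ppcOf _) ?_
    ((centralizer_le_normalizer' Z).trans (le_normalizer_ppcOf p _))
  refine le_centralizer_of_inf_eq_bot (ppcOf_le p _) (le_normalizer.trans (le_normalizer_ppcOf p _)) ?_
  rw [inf_comm]
  exact Sig.inf_eq_bot_of_not_dvd hZ (not_dvd_ppcOf _)

theorem charP (h : MC G) {L : Subgroup G} (hL : L ≠ ⊤) (h0 : ppcOf p L = ⊥) :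
    𝐂[pCore p L] ≤ pCore p L :=
  PCA.charP_of_isPConstrained (h.pc p hL)
    ((map_eq_bot_iff_of_injective _ L.subtype_injective).1 h0)

/-- The lifting lemma. -/
theorem lift (h : MC G) {a x n : G} (ha : orderOf a = p) {Y : Subgroup G} (hY : ¬ p ∣ Nat.card Y)
    (haY : a ∈ 𝐍[Y]) (hx : x ∈ Y) (hn : n ∈ 𝐍[zpowers a]) :
    ∃ H : Subgroup G, H ≠ ⊤ ∧ a ∈ H ∧ x * a * x⁻¹ ∈ H ∧ n ∈ H := by
  have hP := isPGroup_zpowers_of_orderOf ha
  have hs := isSyl_sup hP hY (zpowers_le.2 haY)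
  set A := zpowers a ⊔ cj(x, zpowers a) with hA
  have hAle : A ≤ zpowers a ⊔ Y :=
    sup_le le_sup_left (cj_le_of_mem le_sup_left (mem_sup_right hx))
  have s1 : IsSyl p (zpowers a) A := hs.mono le_sup_left hAle
  have s2 : IsSyl p cj(x, zpowers a) A := (hs.cj_of_mem (mem_sup_right hx)).mono le_sup_right hAle
  obtain ⟨c, hcA, hc⟩ := s2.exists_cj_eq s1
  set H := closure ({a, c * n} : Set G) with hH
  have haH : a ∈ H := subset_closure (by simp)
  have hcn : c * n ∈ H := subset_closure (by simp)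
  have h1 : cj(x, zpowers a) ≤ H := by
    rw [← hc, ← cj_of_mem_normalizer hn, ← cj_mul]
    exact cj_le_of_mem (zpowers_le.2 haH) hcn
  have h2 : A ≤ H := sup_le (zpowers_le.2 haH) h1
  refine ⟨H, h.two _ _, haH, h1 (conj_mem_cj x (mem_zpowers a)), ?_⟩
  simpa using H.mul_mem (H.inv_mem (h2 hcA)) hcn

end MC

/-- If `x ∈ Y`, `a` normalizes the `p'`-group `Y` and `a`, `x a x⁻¹` lie in a `p`-group then `x`
centralizes `a`. -/
theorem conj_eq_of_mem_pgroup {a x : G} {Y R : Subgroup G} (hY : ¬ p ∣ Nat.card Y)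
    (haY : a ∈ 𝐍[Y]) (hx : x ∈ Y) (hR : IsPGroup p R) (h1 : a ∈ R) (h2 : x * a * x⁻¹ ∈ R) :
    x * a * x⁻¹ = a := by
  have a1 : x * a * x⁻¹ * a⁻¹ ∈ Y := by
    have := Y.mul_mem hx (conj_mem_of_mem_normalizer haY (Y.inv_mem hx))
    simpa [mul_assoc] using this
  exact mul_inv_eq_one.1 (eq_one_of_mem_of_mem hR hY (R.mul_mem h2 (R.inv_mem h1)) a1)

/-- In a solvable group with `O_p = 1`, the Fitting subgroup is a `p'`-group. -/
theorem not_dvd_fitOf {H : Subgroup G} (h0 : pCoreOf p H = ⊥) : ¬ p ∣ Nat.card (fitOf H) := by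
  intro hd
  refine pcoOf_ne_bot_of_dvd (p := p) (M := H) ?_ h0
  rwa [card_map_of_injective _ H.subtype_injective] at hd

/-- In a solvable group with `O_p = 1` a `p`-element centralizing `F` is trivial. -/
theorem eq_one_of_centralizes_fitOf {H : Subgroup G} (hH : Group.IsSolvable H)
    (h0 : pCoreOf p H = ⊥) {a : G} (ha : IsPGroup p (zpowers a)) (haH : a ∈ H)
    (hc : a ∈ 𝐂[fitOf H]) : a = 1 :=
  eq_one_of_mem_of_mem ha (not_dvd_fitOf h0) (mem_zpowers a)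
    (BT.inf_centralizer_fitOf_le hH ⟨haH, hc⟩)

end Cfsg.Agent.TwoGen
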