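import Mathlib
import Cfsg.Agent.MinS.TwoGen1
import Cfsg.Agent.PLocal.ZJ
import Cfsg.Agent.PLocal.PStableSL2
import Cfsg.Agent.PLocal.PSolv

/-! Groups in which every two elements generate a solvable subgroup, part 2: the case of `p`-rank
at least two, `p ≥ 5`. -/

set_option autoImplicit false
set_option linter.unusedSectionVars false

namespace Cfsg.Agent.TwoGen

open Subgroup Cfsg Cfsg.Agent.PLocal Cfsg.Agent.PLocal.Amb Cfsg.Agent.GW
open scoped commutatorElement

variable {G : Type*} [Group G] {p : ℕ}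

/-- maximal among the subgroups with `O_p ≠ 1` -/
def ML (p : ℕ) (L : Subgroup G) : Prop := Maximal (fun K : Subgroup G => pCoreOf p K ≠ ⊥) L

variable [Finite G] [hp : Fact p.Prime]

theorem exists_ML {H : Subgroup G} (h : pCoreOf p H ≠ ⊥) : ∃ L, H ≤ L ∧ ML p L :=
  Finite.exists_le_maximal (p := fun K : Subgroup G => pCoreOf p K ≠ ⊥) h

theorem pCoreOf_normalizer_ne_bot {Z : Subgroup G} (hZ : IsPGroup p Z) (h1 : Z ≠ ⊥) :
    pCoreOf p 𝐍[Z] ≠ ⊥ := fun h =>
  h1 (le_bot_iff.1 (h ▸ le_pCoreOf hZ le_normalizer le_rfl))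

theorem ML.eq_normalizer {L Z : Subgroup G} (hL : ML p L) (hZ : IsPGroup p Z) (h1 : Z ≠ ⊥)
    (hn : L ≤ 𝐍[Z]) : L = 𝐍[Z] :=
  le_antisymm hn (hL.2 (pCoreOf_normalizer_ne_bot hZ h1) hn)

theorem ML.eq_normalizer_core {L : Subgroup G} (hL : ML p L) : L = 𝐍[pCoreOf p L] :=
  hL.eq_normalizer (isPGroup_pCoreOf p L) hL.1 (le_normalizer_pCoreOf p L)

namespace MC

theorem ML_ne_top (h : MC G) {L : Subgroup G} (hL : ML p L) : L ≠ ⊤ := by
  rw [hL.eq_normalizer_core]
  exact h.normalizer_ne_top (isPGroup_pCoreOf p L) hL.1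

theorem ML_charP (h : MC G) {L : Subgroup G} (hL : ML p L) : 𝐂[pCore p L] ≤ pCore p L := by
  refine h.charP (h.ML_ne_top hL) ?_
  rw [hL.eq_normalizer_core]
  exact h.ppcOf_normalizer (isPGroup_pCoreOf p L) hL.1

theorem ML_eq_zj (h : MC G) (h5 : 5 ≤ p) {L R : Subgroup G} (hL : ML p L) (hR : IsSyl p R L) :
    L = 𝐍[centerThompsonOf p R] := by
  have hs := h.proper L (h.ML_ne_top hL)
  have hst : StableOnNormal p L := stableOnNormal_of_isPStableOn fun P _ hP =>
    (transvFree_of_isPSolvable h5 isPSolvable_of_isSolvable).isPStableOn P hP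
  obtain ⟨S, hS⟩ := hR.exists_sylow_map
  have hn := centerThompsonOf_normal (by omega) (h.ML_charP hL) hst S
  have h2 := le_normalizer_map_subtype (centerThompsonOf p (S : Subgroup L))
  rw [map_centerThompsonOf _ L.subtype_injective, hS] at h2
  have hR1 : R ≠ ⊥ := fun e => hL.1 (le_bot_iff.1 (e ▸ hR.pCoreOf_le))
  refine hL.eq_normalizer (hR.pgrp.to_le (centerThompsonOf_le R)) (fun e => ?_) h2
  refine centerThompsonOf_ne_bot hR.pgrp hR1 ?_
  rw [e]; exact le_bot_iff.1 (omegaOne_le _)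

theorem ML_isSyl_top (h : MC G) (h5 : 5 ≤ p) {L R : Subgroup G} (hL : ML p L) (hR : IsSyl p R L) :
    IsSyl p R ⊤ := by
  refine isSyl_of_isSyl_normalizer (hR.mono (le_inf le_top le_normalizer) ?_)
  rw [h.ML_eq_zj h5 hL hR]
  exact inf_le_right.trans (normalizer_le_normalizer_centerThompsonOf R)

/-- Two members of the family meeting in a nontrivial `p`-subgroup coincide. -/
theorem ML_unique (h : MC G) (h5 : 5 ≤ p) (D : Subgroup G) : IsPGroup p D → D ≠ ⊥ →
    ∀ L₁ L₂ : Subgroup G, ML p L₁ → ML p L₂ → D ≤ L₁ → D ≤ L₂ → L₁ = L₂ := by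
  induction D using WellFoundedGT.induction with
  | ind D ih =>
  intro hD hD1 L₁ L₂ hL₁ hL₂ h₁ h₂
  obtain ⟨L₃, hN, hL₃⟩ := exists_ML (pCoreOf_normalizer_ne_bot hD hD1)
  have key : ∀ L, ML p L → D ≤ L → L = L₃ := by
    intro L hL hDL
    obtain ⟨R, hR, hDR⟩ := exists_isSyl_ge hD hDL
    rcases hDR.eq_or_lt with e | hlt
    · subst e
      have h3 := (h.ML_isSyl_top h5 hL hR).mono (le_normalizer.trans hN) le_top
      rw [h.ML_eq_zj h5 hL hR, h.ML_eq_zj h5 hL₃ h3]
    · have h4 := lt_inf_normalizer hR.pgrp hlt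
      exact ih _ h4 hR.pgrp.to_inf_left (fun e => not_lt_bot (e ▸ h4)) L L₃ hL hL₃
        (inf_le_left.trans hR.le) (inf_le_right.trans hN)
  rw [key L₁ hL₁ h₁, key L₂ hL₂ h₂]

theorem le_ML (h : MC G) (h5 : 5 ≤ p) {M H : Subgroup G} (hM : ML p M) (hH : pCoreOf p H ≠ ⊥)
    {e : G} (he : orderOf e = p) (h1 : e ∈ M) (h2 : e ∈ H) : H ≤ M := by
  obtain ⟨L, hHL, hL⟩ := exists_ML hH
  have he1 : zpowers e ≠ ⊥ := by
    rw [Ne, zpowers_eq_bot, ← orderOf_eq_one_iff, he]; exact hp.out.ne_one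
  rw [h.ML_unique h5 _ (isPGroup_zpowers_of_orderOf he) he1 M L hM hL (zpowers_le.2 h1)
    (zpowers_le.2 (hHL h2))]
  exact hHL

/-- The case of `p`-rank at least two. -/
theorem not_rank_two (h : MC G) (h5 : 5 ≤ p) {S : Subgroup G} (hS : IsSyl p S ⊤) {a n : G}
    (ha : orderOf a = p) (haS : a ∈ S) (haC : a ∈ 𝐂[S]) (hn : n ^ p = 1) (hnS : n ∈ S)
    (hna : n ∉ zpowers a) : False := by
  have ha1 : a ≠ 1 := by rw [Ne, ← orderOf_eq_one_iff, ha]; exact hp.out.ne_one
  have hP := isPGroup_zpowers_of_orderOf ha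
  have hS1 : S ≠ ⊥ := fun e => ha1 (by simpa [e] using haS)
  obtain ⟨M, hSM, hM⟩ := exists_ML (p := p) (H := S) (by rwa [pCoreOf_eq_self hS.pgrp])
  have haO : a ∈ pCoreOf p M :=
    charP_iff.1 (h.ML_charP hM) ⟨hSM haS, centralizer_anti (hS.mono hSM le_top).pCoreOf_le haC⟩
  -- the elementary abelian subgroup `E`
  set E := zpowers a ⊔ zpowers n with hE
  have hap : a ^ p = 1 := by rw [← ha, pow_orderOf_eq_one]
  have hcomm : zpowers a ≤ 𝐂[zpowers n] :=
    zpowers_le.2 (centralizer_anti (zpowers_le.2 hnS) haC)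
  have hEA : IsElementaryAbelian p E := isEA_sup (isEA_zpowers hap) (isEA_zpowers hn) hcomm
  have hES : E ≤ S := sup_le (zpowers_le.2 haS) (zpowers_le.2 hnS)
  have hE2 : p ^ 2 ≤ Nat.card E := by
    obtain ⟨m, hm⟩ := isEA_card hEA
    have hlt : Nat.card (zpowers a) < Nat.card E := by
      refine lt_of_le_of_ne (card_le_card_of_le le_sup_left) fun e => hna ?_
      rw [eq_of_le_of_card_le (le_sup_left : zpowers a ≤ E) e.ge]
      exact mem_sup_right (mem_zpowers n)
    rw [Nat.card_zpowers, ha, hm] at hlt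
    rw [hm]
    refine Nat.pow_le_pow_right hp.out.pos ?_
    by_contra hc
    have : p ^ m ≤ p ^ 1 := Nat.pow_le_pow_right hp.out.pos (by omega)
    rw [pow_one] at this; omega
  -- `E`-invariant `p'`-subgroups are centralized by `a`
  have hcent : ∀ Y : Subgroup G, ¬ p ∣ Nat.card Y → E ≤ 𝐍[Y] → a ∈ 𝐂[Y] := by
    intro Y hY hEY
    have hYM : Y ≤ M := by
      refine Sig.le_of_cent1_le hEA hE2 hEY hY fun e he he1 => inf_le_right.trans ?_
      have heo := Sig.ea_orderOf hEA he he1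
      have hep := isPGroup_zpowers_of_orderOf heo
      refine le_trans ?_ (h.le_ML h5 hM (pCoreOf_normalizer_ne_bot hep (by simpa using he1)) heo
        (hSM (hES he)) (le_normalizer (mem_zpowers e)))
      rw [← Amb.centralizer_zpowers]; exact centralizer_le_normalizer' _
    intro y hy
    have := conj_eq_of_mem_pgroup hY (hEY (mem_sup_left (mem_zpowers a))) hy
      (isPGroup_pCoreOf p M) haO
      (conj_mem_of_mem_normalizer (le_normalizer_pCoreOf p M (hYM hy)) haO)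
    exact mul_inv_eq_iff_eq_mul.1 this
  -- a proper subgroup containing `E` lies in `M`
  have hover : ∀ H : Subgroup G, H ≠ ⊤ → a ∈ H → n ∈ H → H ≤ M := by
    intro H hH h1 h2
    refine h.le_ML h5 hM (fun h0 => ha1 ?_) ha (hSM haS) h1
    exact eq_one_of_centralizes_fitOf (h.proper H hH) h0 hP h1 (hcent _ (not_dvd_fitOf h0)
      ((sup_le (zpowers_le.2 h1) (zpowers_le.2 h2)).trans (le_normalizer_fitOf H)))
  obtain ⟨g, hg⟩ : ∃ g, g ∉ M := by
    by_contra hc
    push Not at hc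
    exact h.ML_ne_top hM (eq_top_iff.2 fun g _ => hc g)
  set H := closure ({a, g} : Set G) with hH
  have haH : a ∈ H := subset_closure (by simp)
  have hgH : g ∈ H := subset_closure (by simp)
  have h0 : pCoreOf p H = ⊥ := by
    by_contra h0
    exact hg (h.le_ML h5 hM h0 ha (hSM haS) haH hgH)
  refine ha1 (eq_one_of_centralizes_fitOf (h.proper H (h.two _ _)) h0 hP haH fun x hx => ?_)
  have hY := not_dvd_fitOf h0
  have haY := le_normalizer_fitOf H haH
  obtain ⟨H', hH', h1, h2, h3⟩ := h.lift ha hY haY hx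
    (centralizer_le_normalizer' _ (le_centralizer_iff.1 hcomm (mem_zpowers n)))
  have h4 := hover H' hH' h1 h3 h2
  have h5 : IsPGroup p (zpowers (x * a * x⁻¹)) :=
    isPGroup_zpowers_of_orderOf (by rw [orderOf_conj', ha])
  have h6 : IsPGroup p ↥(zpowers (x * a * x⁻¹) ⊔ pCoreOf p M) :=
    isPGroup_sup h5 (isPGroup_pCoreOf p M) (zpowers_le.2 (le_normalizer_pCoreOf p M h4))
  exact mul_inv_eq_iff_eq_mul.1 (conj_eq_of_mem_pgroup hY haY hx h6 (mem_sup_right haO)
    (mem_sup_left (mem_zpowers _)))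

end MC

end Cfsg.Agent.TwoGen
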