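import Mathlib
import Cfsg.Agent.FT.RepExtra
import Cfsg.Agent.FT.RepBridge
import Cfsg.Agent.FH.RepLem
import Cfsg.Agent.Block.NormalPNil
import Cfsg.Agent.MinS.TwoGen2

/-! Fixed spaces of elements of prime order `p ≥ 5` generating a solvable group (Al-Roqi, Flavell),
part 1: linear algebra and group theoretic lemmas. -/

set_option autoImplicit false
set_option linter.unusedSectionVars false

namespace Cfsg.Agent.FixDim

open Module Subgroup Cfsg Cfsg.Agent.PLocal Cfsg.Agent.PLocal.Amb Cfsg.Agent.FT.Rep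
open scoped commutatorElement

section Lin

variable {F : Type*} [Field F] {W : Type*} [AddCommGroup W] [Module F W] {Γ : Type*} [Group Γ]

theorem card_mul_le_finrank [FiniteDimensional F W] {κ : Type*} [Finite κ]
    (U : κ → Submodule F W) (h : iSupIndep U) {d : ℕ} (hd : ∀ j, d ≤ finrank F (U j)) :
    Nat.card κ * d ≤ finrank F W := by
  classical
  have := Fintype.ofFinite κ
  have h1 := LinearMap.finrank_le_finrank_of_injective (f := DirectSum.coeLinearMap U)
    h.dfinsupp_lsum_injective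
  rw [finrank_directSum] at h1
  refine le_trans ?_ h1
  rw [Nat.card_eq_fintype_card, ← Finset.card_univ, ← smul_eq_mul]
  exact Finset.card_nsmul_le_sum _ _ _ fun j _ => hd j

theorem indep_biSup {ι κ : Type*} {U : ι → Submodule F W} (h : iSupIndep U) (T : κ → Set ι)
    (hT : ∀ j j', j ≠ j' → ∀ i, U i ≠ ⊥ → i ∈ T j → i ∈ T j' → False) :
    iSupIndep fun j => ⨆ i ∈ T j, U i := by
  intro j
  refine (h.disjoint_biSup_biSup (s := T j) (t := (T j)ᶜ) disjoint_compl_right).mono_right ?_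
  refine iSup₂_le fun j' hj' => iSup₂_le fun i hi => ?_
  by_cases h0 : U i = ⊥
  · rw [h0]; exact bot_le
  · exact le_iSup₂_of_le i (fun hi' => hT j' j hj' i h0 hi hi') le_rfl

theorem finrank_map_rep (σ : Γ →* End F W) (g : Γ) (Y : Submodule F W) :
    finrank F (Y.map (σ g)) = finrank F Y :=
  (Submodule.equivMapOfInjective _ (fun a b h => by
    simpa only [apply_inv_apply] using congrArg (σ g⁻¹) h) Y).finrank_eq.symm

theorem mem_fix_zpowers [Finite Γ] {σ : Γ →* End F W} {x : Γ} {w : W} :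
    w ∈ fix σ (zpowers x) ↔ σ x w = w := by
  refine ⟨fun h => h x (mem_zpowers x), fun h => ?_⟩
  have : zpowers x ≤ fixer σ (Submodule.span F {w}) := by
    rw [zpowers_le]
    intro v hv
    obtain ⟨c, rfl⟩ := Submodule.mem_span_singleton.1 hv
    rw [map_smul, h]
  exact le_fixer_iff.1 this (Submodule.mem_span_singleton_self w)

/-- the sum of the weight spaces for the weights fixed by `x` -/
def wfix (σ : Γ →* End F W) (A : Subgroup Γ) (x : Γ) : Submodule F W :=
  ⨆ χ ∈ {χ : Wt Γ F | x • χ = χ}, wt σ A χ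

theorem split_bound [FiniteDimensional F W] [IsAlgClosed F] [Finite Γ] (σ : Γ →* End F W)
    {A : Subgroup Γ} (hc : ∀ a ∈ A, ∀ b ∈ A, Commute (σ a) (σ b)) (hn : (Nat.card A : F) ≠ 0)
    {x : Γ} (hx : x ∈ 𝐍[A]) {p : ℕ} (hp : p.Prime) (ho : orderOf x = p) :
    p * finrank F (fix σ (zpowers x)) + finrank F (wfix σ A x) ≤
      p * finrank F (wfix σ A x) + finrank F W := by
  have hind := wt_indep σ A hc
  set V : Submodule F W := ⨆ χ ∈ {χ : Wt Γ F | x • χ = χ}ᶜ, wt σ A χ with hV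
  have hcompl : IsCompl (wfix σ A x) V := by
    refine ⟨hind.disjoint_biSup_biSup disjoint_compl_right, codisjoint_iff.2 ?_⟩
    rw [eq_top_iff, ← wt_span σ A hc hn]
    refine iSup_le fun χ => ?_
    by_cases h : x • χ = χ
    · exact le_sup_of_le_left (le_iSup₂_of_le χ h le_rfl)
    · exact le_sup_of_le_right (le_iSup₂_of_le χ h le_rfl)
  have hxA : zpowers x ≤ 𝐍[A] := zpowers_le.2 hx
  have hcomm : ∀ a ∈ zpowers x, ∀ χ : Wt Γ F, x • a • χ = a • χ ↔ x • χ = χ := by
    intro a ha χ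
    obtain ⟨k, rfl⟩ := mem_zpowers_iff.1 ha
    rw [← mul_smul, ← (Commute.zpow_self x k).eq, mul_smul, smul_left_cancel_iff]
  have hinv : ∀ S : Set (Wt Γ F), (∀ a ∈ zpowers x, ∀ χ ∈ S, a • χ ∈ S) → ∀ a ∈ zpowers x,
      ∀ w ∈ ⨆ χ ∈ S, wt σ A χ, σ a w ∈ ⨆ χ ∈ S, wt σ A χ := by
    intro S hS a ha w hw
    have : (⨆ χ ∈ S, wt σ A χ) ≤ (⨆ χ ∈ S, wt σ A χ).comap (σ a) :=
      iSup₂_le fun χ hχ u hu => Submodule.mem_iSup_of_mem (a • χ)
        (Submodule.mem_iSup_of_mem (hS a ha χ hχ) (apply_mem_wt σ (hxA ha) hu))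
    exact this hw
  have h1 := finrank_fix_le_add σ (A := zpowers x) hcompl
    (hinv _ fun a ha χ hχ => (hcomm a ha χ).2 hχ)
    (hinv _ fun a ha χ hχ h => hχ ((hcomm a ha χ).1 h))
  have h2 : finrank F V = Nat.card (zpowers x) *
      finrank F ↥(V ⊓ fix (σ.comp (zpowers x).subtype) ⊤) := by
    refine finrank_eq_of_free (R := zpowers x) (σ.comp (zpowers x).subtype) (wt σ A) hind
      (fun a χ u hu => apply_mem_wt σ (hxA a.2) hu) {χ : Wt Γ F | x • χ = χ}ᶜ
      (fun χ hχ a h => hχ ((hcomm a a.2 χ).1 h)) fun χ hχ _ a ha => ?_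
    have := Fact.mk hp
    by_contra h1
    have h3 : orderOf (a : Γ) = p := by
      have := orderOf_dvd_natCard a
      rw [Nat.card_zpowers, ho] at this
      rw [Subgroup.orderOf_coe]
      exact ((Nat.dvd_prime hp).1 this).resolve_left (by simpa using h1)
    have h4 : x ∈ zpowers (a : Γ) := by
      rw [TwoGen.zpowers_eq_of_mem ho h3 a.2]; exact mem_zpowers x
    exact hχ ((zpowers_le.2 (show (a : Γ) ∈ MulAction.stabilizer Γ χ from ha)) h4)
  rw [fix_comp_subtype, Nat.card_zpowers, ho] at h2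
  have h3 := Submodule.finrank_add_eq_of_isCompl hcompl
  have h4 : finrank F ↥(wfix σ A x ⊓ fix σ (zpowers x)) ≤ finrank F (wfix σ A x) :=
    Submodule.finrank_mono inf_le_left
  nlinarith

theorem sq_lt_finrank_fix_cnj [FiniteDimensional F W] [Finite Γ] (σ : Γ →* End F W) {x : Γ}
    (hx : σ x ≠ 1) :
    finrank F (fix σ (zpowers x)) ^ 2 < finrank F (fix (cnj σ) (zpowers x)) := by
  set U := fix σ (zpowers x) with hU
  set R := LinearMap.range (σ x - 1) with hR
  have hker : LinearMap.ker (σ x - 1) = U := by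
    ext w; rw [hU, mem_fix_zpowers, LinearMap.mem_ker, LinearMap.sub_apply, sub_eq_zero]; rfl
  let Φ : ((W ⧸ R) →ₗ[F] U) →ₗ[F] End F W :=
    (LinearMap.llcomp F W U W U.subtype).comp (LinearMap.lcomp F U R.mkQ)
  have hΦ : ∀ f w, Φ f w = f (R.mkQ w) := fun f w => rfl
  have hinj : Function.Injective Φ := by
    intro f g h
    refine LinearMap.ext fun y => ?_
    obtain ⟨w, rfl⟩ := R.mkQ_surjective y
    exact Subtype.ext (by rw [← hΦ, ← hΦ, h])
  have h1 : finrank F (LinearMap.range Φ) = finrank F U ^ 2 := by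
    rw [LinearMap.finrank_range_of_inj hinj, finrank_linearMap, sq]
    congr 1
    have a1 := R.finrank_quotient_add_finrank
    have a2 := LinearMap.finrank_range_add_finrank_ker (σ x - 1)
    rw [hker, ← hR] at a2
    omega
  rw [← h1]
  refine Submodule.finrank_lt_finrank_of_lt (lt_of_le_of_ne ?_ fun e => hx ?_)
  · rintro _ ⟨f, rfl⟩
    rw [mem_fix_zpowers, cnj_eq_self_iff]
    refine LinearMap.ext fun w => ?_
    rw [End.mul_apply, End.mul_apply, hΦ, hΦ, mem_fix_zpowers.1 (f _).2]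
    congr 2
    rw [eq_comm, Submodule.mkQ_apply, Submodule.mkQ_apply, Submodule.Quotient.eq]
    exact ⟨w, rfl⟩
  · have : (1 : End F W) ∈ LinearMap.range Φ := by
      rw [e, mem_fix_cnj]; intro a _; simp
    obtain ⟨f, hf⟩ := this
    refine LinearMap.ext fun w => ?_
    have h2 : w = f (R.mkQ w) := by rw [← hΦ, hf]; rfl
    rw [h2]
    exact mem_fix_zpowers.1 (f _).2

theorem natCast_card_ne_zero [Finite Γ] [Nontrivial W] {σ : Γ →* End F W}
    (hinj : Function.Injective σ) (hirr : Irr σ) {Q : Subgroup Γ} [Q.Normal]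
    (hQ : Group.IsNilpotent Q) : (Nat.card Q : F) ≠ 0 := by
  intro h0
  have hd : ringChar F ∣ Nat.card Q := (ringChar.spec F _).1 h0
  have hl : (ringChar F).Prime := (CharP.char_is_prime_or_zero F (ringChar F)).resolve_right
    fun e => by rw [e, zero_dvd_iff] at hd; exact Nat.card_pos.ne' hd
  have := Fact.mk hl
  refine Solv.NA.pCoreOf_ne_bot hQ hd ?_
  set O := pCoreOf (ringChar F) Q
  obtain ⟨v, hv0, hv⟩ := Block.exists_fixed_ne_zero (V := W) (isPGroup_pCoreOf (ringChar F) Q)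
    (fun v => by rw [← Nat.cast_smul_eq_nsmul F, ringChar.Nat.cast_ringChar, zero_smul])
    (σ.comp O.subtype)
  have hn : ∀ g : Γ, g ∈ 𝐍[O] := fun g =>
    normalizer_le_normalizer_pCoreOf _ Q (by rw [normalizer_eq_top]; trivial)
  rcases hirr (fix σ O) (fun g w hw => apply_mem_fix σ (hn g) hw) with h | h
  · exact absurd (show v ∈ (⊥ : Submodule F W) from h ▸ fun a ha => hv ⟨a, ha⟩) hv0
  · exact eq_bot_iff.2 fun a ha => hinj ((fix_eq_top_iff.1 h a ha).trans (map_one σ).symm)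

end Lin

section Grp

universe u

variable {G : Type*} [Group G] {p : ℕ}

/-- `G` is the normal closure of `x` -/
def Gen {G : Type*} [Group G] (x : G) : Prop := ∀ N : Subgroup G, N.Normal → x ∈ N → N = ⊤

theorem Gen.map {K : Type*} [Group K] {x : G} (h : Gen x) (f : G →* K)
    (hf : Function.Surjective f) : Gen (f x) := fun N hN hx => by
  have := h (N.comap f) (hN.comap f) hx
  rw [← map_comap_eq_self_of_surjective hf N, this, map_top_of_surjective f hf]

theorem commute_of_sq {x y : G} (hp : Odd p) (hx : x ^ p = 1) (h : Commute (x * x) y) :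
    Commute x y := by
  obtain ⟨k, rfl⟩ := hp
  have : x = (x * x) ^ (k + 1) := by
    rw [← sq, ← pow_mul, show 2 * (k + 1) = 2 * k + 1 + 1 by ring, pow_succ, hx, one_mul]
  rw [this]; exact h.pow_left _

/-- Three conjugates of `x` no two of which lie in a conjugate of the proper subgroup `H`. -/
theorem exists_three (hp : Odd p) (G : Type u) [Group G] [Finite G] (hs : Group.IsSolvable G)
    (x : G) (hx : x ^ p = 1) (hgen : Gen x) (H : Subgroup G) (hH : H ≠ ⊤) :
    ∃ g : Fin 3 → G, ∀ i j, i ≠ j → ∀ u, g i * x * (g i)⁻¹ ∈ cj(u, H) →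
      g j * x * (g j)⁻¹ ∈ cj(u, H) → False := by
  induction hn : Nat.card G using Nat.strong_induction_on generalizing G with
  | _ n ih =>
  have hnt : Nontrivial G := by
    by_contra h1
    rw [not_nontrivial_iff_subsingleton] at h1
    exact hH (Subsingleton.elim _ _)
  obtain ⟨r, A, -, hAn, hA1, hAc, -, -, hmin⟩ := Grp.exists_minNormal_elementaryAbelian G
  by_cases hAH : A ⊔ H = ⊤
  swap
  · obtain ⟨g, hg⟩ := ih _ (hn ▸ Grp.card_quotient_lt A hA1) (G ⧸ A) inferInstance
      (QuotientGroup.mk' A x) (by rw [← map_pow, hx, map_one])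
      (hgen.map _ (QuotientGroup.mk'_surjective A)) (H.map (QuotientGroup.mk' A)) (fun e => hAH (by
        have := congrArg (comap (QuotientGroup.mk' A)) e
        rwa [comap_map_eq, QuotientGroup.ker_mk', comap_top, sup_comm] at this)) rfl
    choose g' hg' using fun i => QuotientGroup.mk'_surjective A (g i)
    refine ⟨g', fun i j hij u h1 h2 => hg i j hij (QuotientGroup.mk' A u) ?_ ?_⟩
    · rw [← map_cj, ← hg', ← map_inv, ← map_mul, ← map_mul]; exact mem_map_of_mem _ h1
    · rw [← map_cj, ← hg', ← map_inv, ← map_mul, ← map_mul]; exact mem_map_of_mem _ h2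
  have hcomm : ∀ a ∈ A, ∀ b ∈ A, a * b = b * a := fun a ha b hb =>
    congrArg Subtype.val (hAc.is_comm.comm (⟨a, ha⟩ : A) ⟨b, hb⟩)
  have hAN : ∀ K : Subgroup G, K ≤ 𝐍[A] := fun K => by rw [normalizer_eq_top]; exact le_top
  have hinf : A ⊓ H = ⊥ := by
    have hn : (A ⊓ H).Normal := by
      rw [← normalizer_eq_top_iff, eq_top_iff, ← hAH]
      refine sup_le (le_trans ?_ (centralizer_le_normalizer' _))
        (le_normalizer_inf (hAN H) le_normalizer)
      exact fun a ha b hb => hcomm b hb.1 a ha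
    refine (hmin _ hn inf_le_left).resolve_right fun e => hH ?_
    rw [← hAH, sup_eq_right.2 (e ▸ inf_le_right)]
  have key : ∀ a ∈ A, ∀ b ∈ A, ∀ u, a * x * a⁻¹ ∈ cj(u, H) → b * x * b⁻¹ ∈ cj(u, H) →
      Commute x (a⁻¹ * b) := by
    intro a ha b hb u h1 h2
    have h3 : a * x * a⁻¹ * (b * x * b⁻¹)⁻¹ ∈ A ⊓ cj(u, H) := by
      refine ⟨?_, Subgroup.mul_mem _ h1 (Subgroup.inv_mem _ h2)⟩
      have := A.mul_mem (A.mul_mem ha (hAn.conj_mem _ (A.mul_mem (A.inv_mem ha) hb) x)) (A.inv_mem hb)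
      simpa [mul_assoc] using this
    rw [← cj_of_normal u A, ← cj_inf, hinf, cj_bot, mem_bot, mul_inv_eq_one] at h3
    calc x * (a⁻¹ * b) = a⁻¹ * (a * x * a⁻¹) * b := by group
      _ = a⁻¹ * b * x := by rw [h3]; group
  by_cases hC : ∀ y ∈ A, Commute x y
  · refine ⟨fun _ => 1, fun i j _ u h1 _ => hH ?_⟩
    have h2 : 𝐂[A] = ⊤ := hgen _ inferInstance fun y hy => (hC y hy).symm
    have hHn : H.Normal := by
      rw [← normalizer_eq_top_iff, eq_top_iff, ← hAH]
      refine sup_le (le_trans ?_ (centralizer_le_normalizer' _)) le_normalizer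
      exact le_centralizer_iff.1 (h2 ▸ le_top)
    rw [cj_of_normal] at h1
    exact hgen H hHn (by simpa using h1)
  push Not at hC
  obtain ⟨y, hy, hxy⟩ := hC
  obtain ⟨y', hy', h1, h2⟩ : ∃ y' ∈ A, ¬ Commute x y' ∧ ¬ Commute x (y⁻¹ * y') := by
    by_cases h3 : Commute x (y * y)
    · refine ⟨x * y * x⁻¹, hAn.conj_mem y hy x, fun h => hxy ?_, fun h => hxy ?_⟩
      · have h4 := ((Commute.refl x).inv_right.mul_right h).mul_right (Commute.refl x)
        simpa [mul_assoc] using h4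
      · refine commute_of_sq hp hx ?_
        set φ := y⁻¹ * (x * y * x⁻¹) with hφ
        have e1 : x * y * x⁻¹ = y * φ := by rw [hφ]; group
        have e2 : x * φ * x⁻¹ = φ := by rw [h.eq]; group
        have e3 : φ * φ = 1 := by
          have c := hcomm _ (hAn.conj_mem y hy x) _ (A.inv_mem hy)
          calc φ * φ = y⁻¹ * (x * y * x⁻¹ * y⁻¹) * (x * y * x⁻¹) := by rw [hφ]; group
            _ = y⁻¹ * y⁻¹ * (x * (y * y) * x⁻¹) := by rw [c]; group
            _ = 1 := by rw [h3.eq]; group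
        calc x * x * y = x * (x * y * x⁻¹) * x⁻¹ * (x * x) := by group
          _ = x * (y * φ) * x⁻¹ * (x * x) := by rw [e1]
          _ = (x * y * x⁻¹) * (x * φ * x⁻¹) * (x * x) := by group
          _ = y * (x * x) := by rw [e2, e1, mul_assoc y, e3, mul_one]
    · exact ⟨y * y, mul_mem hy hy, h3, by simpa using hxy⟩
  have hsym : ∀ {a b : G}, Commute x (a⁻¹ * b) → Commute x (b⁻¹ * a) := fun h => by
    simpa using h.inv_right
  refine ⟨![1, y, y'], fun i j hij u a1 a2 => ?_⟩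
  have hm : ∀ i, (![1, y, y'] : Fin 3 → G) i ∈ A := fun i => by
    fin_cases i
    exacts [A.one_mem, hy, hy']
  have := key _ (hm i) _ (hm j) u a1 a2
  fin_cases i <;> fin_cases j
  · exact hij rfl
  · exact hxy (by simpa using this)
  · exact h1 (by simpa using this)
  · exact hxy (by simpa using hsym this)
  · exact hij rfl
  · exact h2 this
  · exact h1 (by simpa using hsym this)
  · exact h2 (hsym this)
  · exact hij rfl

variable [Finite G] [hp : Fact p.Prime]

theorem card_modEq_inf_centralizer {A : Subgroup G} {x : G} (hx : x ^ p = 1) (hn : x ∈ 𝐍[A]) :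
    Nat.card A ≡ Nat.card ↥(A ⊓ 𝐂[zpowers x]) [MOD p] := by
  have hP : IsPGroup p (zpowers x) := isPGroup_zpowers ⟨1, by simpa using hx⟩
  have hle : zpowers x ≤ 𝐍[A] := zpowers_le.2 hn
  let : MulAction (zpowers x) A := MulAction.compHom A
    ((normalizerMonoidHom A).comp (inclusion hle))
  refine (hP.card_modEq_card_fixedPoints A).trans ?_
  refine (Nat.card_congr ?_ : _ = Nat.card ↥(A ⊓ 𝐂[zpowers x])) ▸ Nat.ModEq.refl _
  refine ⟨fun a => ⟨a.1, a.1.2, fun u hu => ?_⟩, fun a => ⟨⟨a.1, a.2.1⟩, fun u => ?_⟩,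
    fun _ => rfl, fun _ => rfl⟩
  · have : u * a.1 * u⁻¹ = a.1 := congrArg Subtype.val (a.2 ⟨u, hu⟩)
    exact mul_inv_eq_iff_eq_mul.1 this
  · exact Subtype.ext (mul_inv_eq_iff_eq_mul.2 (a.2.2 u u.2))

/-- An element of order `p ≥ 5` of a solvable group does not act quadratically on a minimal normal
subgroup. -/
theorem not_quadratic (h5 : 5 ≤ p) (hs : Group.IsSolvable G) {A : Subgroup G} [hAn : A.Normal]
    {r : ℕ} (hr : r.Prime) (hA : IsPGroup r A)
    (hmin : ∀ K : Subgroup G, K.Normal → K ≤ A → K = ⊥ ∨ K = A) {x : G} (hx : x ^ p = 1)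
    (hq : ⁅⁅A, zpowers x⁆, zpowers x⁆ = ⊥) : x ∈ 𝐂[A] := by
  have hP : IsPGroup p (zpowers x) := isPGroup_zpowers ⟨1, by simpa using hx⟩
  have hAN : ∀ K : Subgroup G, K ≤ 𝐍[A] := fun K => by rw [normalizer_eq_top]; exact le_top
  by_cases hrp : r = p
  · subst hrp
    by_cases hA1 : A = ⊥
    · rw [hA1]; intro y hy; simp at hy; simp [hy]
    have h1 := (transvFree_of_isPSolvable h5 isPSolvable_of_isSolvable).isPStableOn A hA x hq
    set D := (pCore r (G ⧸ 𝐂[A])).comap (QuotientGroup.mk' 𝐂[A]) with hD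
    obtain ⟨T, hT⟩ := exists_isSyl r D
    have h2 : 𝐎[r, D] ≤ 𝐂[A] := pRes_le_of_pow fun g hg => by
      obtain ⟨k, hk⟩ := isPGroup_iff.1 (isPGroup_pCore' r (G ⧸ 𝐂[A])) _ hg
      exact ⟨k, by rwa [← map_pow, QuotientGroup.mk'_apply, QuotientGroup.eq_one_iff] at hk⟩
    have h3 : A ⊓ 𝐂[D] ≠ ⊥ := by
      refine fun e => inf_centralizer_ne_bot hT.pgrp hA (hAN T) hA1 (eq_bot_iff.2 ?_)
      rw [← e, ← hT.pRes_sup, Amb.centralizer_sup]
      exact le_inf inf_le_left (le_inf (inf_le_left.trans (le_centralizer_iff.1 h2)) inf_le_right)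
    have h4 := (hmin _ inferInstance inf_le_left).resolve_left h3
    exact le_centralizer_iff.1 (h4 ▸ inf_le_right : A ≤ 𝐂[D]) h1
  · have := Fact.mk hr
    have h1 := Solv.coprime_commutator_eq_bot (zpowers x) A (hAN _)
      (Sig.cop_of_isPGroup hP (Sig.not_dvd_of_isPGroup hrp hA))
      (Or.inl (Solv.isSolvable_of_isPGroup hP)) hq
    exact le_centralizer_iff.1 (commutator_eq_bot_iff_le_centralizer.1 h1) (mem_zpowers x)

theorem index_arith (h5 : 5 ≤ p) {r k c : ℕ} (hr : r.Prime) (hk : 2 ≤ k) (hc : ∃ j, c = r ^ j)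
    (h : c * r ^ k ≡ c [MOD p]) : 4 * (p - 1) ≤ r ^ k * (p - 4) := by
  by_cases hrp : r = p
  · subst hrp
    obtain ⟨s, rfl⟩ : ∃ s, r = s + 5 := ⟨r - 5, by omega⟩
    have : (s + 5) ^ 2 ≤ (s + 5) ^ k := Nat.pow_le_pow_right (by omega) hk
    have e1 : s + 5 - 1 = s + 4 := by omega
    have e2 : s + 5 - 4 = s + 1 := by omega
    rw [e1, e2]; nlinarith
  obtain ⟨j, rfl⟩ := hc
  have h1 : r ^ k ≡ 1 [MOD p] := by
    refine Nat.ModEq.cancel_left_of_coprime (c := r ^ j) ?_ (by simpa using h)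
    exact ((Nat.coprime_primes hp.out hr).2 (Ne.symm hrp)).pow_right j
  have h2 : 1 < r ^ k := Nat.one_lt_pow (by omega) hr.one_lt
  have h3 : p ∣ r ^ k - 1 := (Nat.modEq_iff_dvd' h2.le).1 h1.symm
  have h4 : p + 1 ≤ r ^ k := by
    have := Nat.le_of_dvd (by omega) h3
    omega
  by_cases h7 : 7 ≤ p
  · obtain ⟨s, rfl⟩ : ∃ s, p = s + 7 := ⟨p - 7, by omega⟩
    have e1 : s + 7 - 1 = s + 6 := by omega
    have e2 : s + 7 - 4 = s + 3 := by omega
    rw [e1, e2]; nlinarith
  have h6 : p = 5 := by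
    have := hp.out
    interval_cases p
    · rfl
    · exact absurd this (by norm_num)
  subst h6
  by_contra hc
  have h8 : r ^ k = 6 ∨ r ^ k = 11 := by omega
  have h9 : r ^ 2 ∣ r ^ k := pow_dvd_pow r hk
  have h10 : r ≤ 3 := by
    have := Nat.le_of_dvd (by omega) h9
    nlinarith
  have := hr.two_le
  interval_cases r <;> rcases h8 with e | e <;> rw [e] at h9 <;> norm_num at h9

end Grp

end Cfsg.Agent.FixDim
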