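import Mathlib
import Cfsg.Agent.MinS.FixDim1

/-! Fixed spaces of elements of prime order `p ≥ 5` generating a solvable group (Al-Roqi, Flavell),
part 2: the bound `2 dim C_V(x) < dim V`. -/

set_option autoImplicit false
set_option linter.unusedSectionVars false

namespace Cfsg.Agent.FixDim

open Module Subgroup Cfsg Cfsg.Agent.PLocal Cfsg.Agent.PLocal.Amb Cfsg.Agent.FT.Rep
open scoped commutatorElement

variable {F : Type*} [Field F] {W : Type*} [AddCommGroup W] [Module F W] {Γ : Type*} [Group Γ]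
  {p : ℕ}

theorem mem_center_of_scalar {σ : Γ →* End F W} (hinj : Function.Injective σ) {z : Γ}
    (h : ∃ c : F, σ z = c • 1) : z ∈ center Γ := by
  obtain ⟨c, hc⟩ := h
  refine mem_center_iff.2 fun g => hinj ?_
  rw [map_mul, map_mul, hc]; simp

variable [FiniteDimensional F W] [IsAlgClosed F] [Finite Γ] [Nontrivial W] [hp : Fact p.Prime]

theorem scalar_of_mem_center {σ : Γ →* End F W} (hirr : Irr σ) {z : Γ} (h : z ∈ center Γ) :
    ∃ c : F, σ z = c • 1 :=
  hirr.scalar fun g => by rw [← map_mul, ← map_mul, mem_center_iff.1 h g]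

theorem case_abelian {σ : Γ →* End F W} (hinj : Function.Injective σ) (hirr : Irr σ)
    (hs : Group.IsSolvable Γ) {x : Γ} (hx : orderOf x = p) (h5 : 5 ≤ p) (hgen : Gen x)
    {Q : Subgroup Γ} [Q.Normal] (hQ : Q ≤ 𝐂[Q]) (hQZ : ¬ Q ≤ center Γ) :
    2 * finrank F (fix σ (zpowers x)) < finrank F W := by
  have hQN : ∀ g : Γ, g ∈ 𝐍[Q] := fun g => by rw [normalizer_eq_top]; trivial
  have hc : ∀ a ∈ Q, ∀ b ∈ Q, Commute (σ a) (σ b) := fun a ha b hb => by
    rw [Commute, SemiconjBy, ← map_mul, ← map_mul, hQ hb a ha]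
  have hn : (Nat.card Q : F) ≠ 0 := natCast_card_ne_zero hinj hirr (by
    have : IsMulCommutative Q := le_centralizer_iff_isMulCommutative.1 hQ
    exact Grp.isNilpotent_of_isMulCommutative Q)
  have hind := wt_indep σ Q hc
  obtain ⟨χ₀, hχ₀⟩ : ∃ χ₀, wt σ Q χ₀ ≠ ⊥ := by
    by_contra h
    push Not at h
    have := wt_span σ Q hc hn
    simp [h] at this
  have htr : ∀ χ, wt σ Q χ ≠ ⊥ → ∃ u : Γ, u • χ₀ = χ := by
    intro χ hχ
    by_contra h
    push Not at h
    have h1 : (⨆ u : Γ, wt σ Q (u • χ₀)) = ⊤ := by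
      refine (hirr _ fun g w hw => ?_).resolve_left fun e => hχ₀ ?_
      · have : (⨆ u : Γ, wt σ Q (u • χ₀)) ≤ (⨆ u : Γ, wt σ Q (u • χ₀)).comap (σ g) :=
          iSup_le fun u v hv => Submodule.mem_iSup_of_mem (g * u)
            (by rw [mul_smul]; exact apply_mem_wt σ (hQN g) hv)
        exact this hw
      · rw [eq_bot_iff, ← e]
        exact le_iSup_of_le 1 (by rw [one_smul])
    have h2 : Disjoint (wt σ Q χ) ⊤ := (hind χ).mono_right (by
      rw [← h1]; exact iSup_le fun u => le_iSup₂_of_le (u • χ₀) (h u) le_rfl)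
    exact hχ (disjoint_top.1 h2)
  have hH : MulAction.stabilizer Γ χ₀ ≠ ⊤ := by
    intro e
    have h1 : wt σ Q χ₀ = ⊤ := (hirr _ fun g w hw => by
      have := apply_mem_wt σ (hQN g) hw
      rwa [show g • χ₀ = χ₀ from (e ▸ mem_top g : g ∈ MulAction.stabilizer Γ χ₀)] at this).resolve_left
      hχ₀
    refine hQZ fun a ha => mem_center_of_scalar hinj ⟨χ₀ a, LinearMap.ext fun w => ?_⟩
    exact (mem_wt.1 (h1 ▸ Submodule.mem_top : w ∈ wt σ Q χ₀)).1 a ha
  obtain ⟨g, hg⟩ := exists_three (hp.out.odd_of_ne_two (by omega)) Γ hs x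
    (by rw [← hx, pow_orderOf_eq_one]) hgen _ hH
  have hst : ∀ u y : Γ, y • u • χ₀ = u • χ₀ → y ∈ cj(u, MulAction.stabilizer Γ χ₀) := by
    intro u y h
    rw [mem_cj, MulAction.mem_stabilizer_iff, mul_smul, mul_smul, h, inv_smul_smul]
  have h1 := indep_biSup hind (fun j : Fin 3 => {χ | (g j * x * (g j)⁻¹) • χ = χ})
    fun j j' hj χ h0 a1 a2 => by
      obtain ⟨u, rfl⟩ := htr χ h0
      exact hg j j' hj u (hst u _ a1) (hst u _ a2)
  have h2 := card_mul_le_finrank _ h1 (d := finrank F (wfix σ Q x)) fun j => by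
    rw [← finrank_map_rep σ (g j)]
    refine Submodule.finrank_mono ?_
    rw [Submodule.map_le_iff_le_comap]
    refine iSup₂_le fun χ hχ w hw => Submodule.mem_iSup_of_mem (g j • χ)
      (Submodule.mem_iSup_of_mem ?_ (apply_mem_wt σ (hQN _) hw))
    change (g j * x * (g j)⁻¹) • g j • χ = g j • χ
    rw [mul_smul, mul_smul, inv_smul_smul, show x • χ = χ from hχ]
  have h3 := split_bound σ hc hn (hQN x) hp.out hx
  rw [Nat.card_fin] at h2
  have h4 : 0 < finrank F W := finrank_pos
  by_contra h6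
  push Not at h6
  obtain ⟨s, rfl⟩ : ∃ s, p = s + 5 := ⟨p - 5, by omega⟩
  nlinarith

/-- Multiplying the commutant of `L` by coset representatives of `C` in `Q`. -/
theorem relIndex_mul_le {σ : Γ →* End F W} (hinj : Function.Injective σ) (hirr : Irr σ)
    {Q L C : Subgroup Γ} (hLQ : L ≤ Q) (hder : ⁅Q, Q⁆ ≤ center Γ) (hC : Q ⊓ 𝐂[L] ≤ C) :
    C.relIndex Q * finrank F (fix (cnj σ) L) ≤ finrank F W ^ 2 := by
  classical
  have hsc : ∀ z ∈ ⁅Q, Q⁆, ∃ c : F, σ z = c • 1 := fun z hz => scalar_of_mem_center hirr (hder hz)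
  have hc := commute_of_fix_commutator (σ := cnj σ) (A := L)
    (fix_eq_top_iff.mpr fun z hz => cnj_eq_one_of_scalar (hsc z (commutator_mono hLQ hLQ hz)))
  have h1 : ∀ g : Q, ∃ χ : Wt Γ F, (∀ a ∈ L, σ ⁅a, (g : Γ)⁆ = χ a • 1) ∧ ∀ a, a ∉ L → χ a = 0 := by
    intro g
    refine ⟨fun a => if h : a ∈ L then
      (hsc _ (commutator_mem_commutator (hLQ h) g.2)).choose else 0, fun a ha => ?_,
      fun a ha => dif_neg ha⟩
    simp only [dif_pos ha]
    exact (hsc _ (commutator_mem_commutator (hLQ ha) g.2)).choose_spec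
  choose χ hχ hχ' using h1
  have hA : ∀ (g : Q), ∀ T ∈ fix (cnj σ) L, σ g * T ∈ wt (cnj σ) L (χ g) := by
    intro g T hT
    refine ⟨fun a ha => ?_, fun a ha => by rw [hχ' g a ha, zero_smul]⟩
    rw [cnj_mul, hT a ha, cnj_rep, show a * g * a⁻¹ = ⁅a, (g : Γ)⁆ * g by
      rw [commutatorElement_def]; group, map_mul, hχ g a ha]
    simp
  let ι := Q ⧸ C.subgroupOf Q
  have hj : Function.Injective fun q : ι => χ q.out := by
    intro q q' e
    rw [← q.out_eq, ← q'.out_eq]
    refine QuotientGroup.eq.mpr (hC ⟨Q.mul_mem (Q.inv_mem q.out.2) q'.out.2, fun a ha => ?_⟩)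
    have e1 : ⁅a, (q.out : Γ)⁆ = ⁅a, (q'.out : Γ)⁆ := hinj (by
      rw [hχ _ a ha, hχ _ a ha, show χ q.out = χ q'.out from e])
    rw [commutatorElement_def, commutatorElement_def] at e1
    change a * ((q.out : Γ)⁻¹ * q'.out) = (q.out : Γ)⁻¹ * q'.out * a
    calc a * ((q.out : Γ)⁻¹ * q'.out) =
        (q.out : Γ)⁻¹ * (a * q.out * a⁻¹ * (q.out : Γ)⁻¹)⁻¹ * a * q'.out := by group
      _ = _ := by rw [e1]; group
  have h2 := card_mul_le_finrank _ ((wt_indep (cnj σ) L hc).comp hj)
    (d := finrank F (fix (cnj σ) L)) fun q => by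
      have hi : Function.Injective (LinearMap.mulLeft F (σ q.out)) := fun S T h => by
        have := congrArg (σ (q.out : Γ)⁻¹ * ·) h
        simpa only [LinearMap.mulLeft_apply, ← mul_assoc, ← map_mul, inv_mul_cancel, map_one,
          one_mul] using this
      rw [(Submodule.equivMapOfInjective _ hi _).finrank_eq]
      refine Submodule.finrank_mono ?_
      rintro _ ⟨T, hT, rfl⟩
      exact hA _ T hT
  rw [finrank_linearMap, ← sq] at h2
  exact h2

theorem case_extra {σ : Γ →* End F W} (hinj : Function.Injective σ) (hirr : Irr σ)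
    {x : Γ} (hx : orderOf x = p) (h5 : 5 ≤ p) {Q C : Subgroup Γ} [Q.Normal]
    (hder : ⁅Q, Q⁆ ≤ center Γ) (hC : Q ⊓ 𝐂[⁅Q, zpowers x⁆] ≤ C)
    (hm : 4 * (p - 1) ≤ C.relIndex Q * (p - 4)) :
    2 * finrank F (fix σ (zpowers x)) < finrank F W := by
  have hQN : ∀ g : Γ, g ∈ 𝐍[Q] := fun g => by rw [normalizer_eq_top]; trivial
  have hc := commute_of_fix_commutator (σ := cnj σ) (A := Q)
    (fix_eq_top_iff.mpr fun z hz => cnj_eq_one_of_scalar (scalar_of_mem_center hirr (hder hz)))
  have hnil : Group.IsNilpotent Q := by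
    refine Subgroup.isNilpotent_of_ker_le_center (Abelianization.of (G := Q)) fun y hy => ?_
    rw [Abelianization.ker_of] at hy
    have : (y : Γ) ∈ ⁅Q, Q⁆ := by rw [← map_subtype_commutator]; exact mem_map_of_mem _ hy
    exact mem_center_iff.2 fun g => Subtype.ext (mem_center_iff.1 (hder this) g)
  have hn : (Nat.card Q : F) ≠ 0 := natCast_card_ne_zero hinj hirr hnil
  have h1 := split_bound (cnj σ) hc hn (hQN x) hp.out hx
  have hL : ⁅Q, zpowers x⁆ ≤ Q := commutator_le_left _ _
  have h2 : finrank F (wfix (cnj σ) Q x) ≤ finrank F (fix (cnj σ) ⁅Q, zpowers x⁆) := by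
    refine Submodule.finrank_mono (iSup₂_le fun χ hχ => ?_)
    by_cases h0 : wt (cnj σ) Q χ = ⊥
    · rw [h0]; exact bot_le
    · exact FH.wt_le_fix hL (wt_eq_one_of_fixed h0 (fun g _ => hQN g) (zpowers_le.2 hχ))
  have h3 := relIndex_mul_le hinj hirr hL hder hC
  have h4 := sq_lt_finrank_fix_cnj σ (x := x) fun e => by
    have : x = 1 := hinj (e.trans (map_one σ).symm)
    rw [this, orderOf_one] at hx; omega
  rw [finrank_linearMap, ← sq] at h1
  by_contra h6
  push Not at h6
  have h7 : finrank F W ^ 2 ≤ 4 * finrank F (fix σ (zpowers x)) ^ 2 := by nlinarith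
  obtain ⟨s, rfl⟩ : ∃ s, p = s + 5 := ⟨p - 5, by omega⟩
  have e1 : s + 5 - 1 = s + 4 := by omega
  have e2 : s + 5 - 4 = s + 1 := by omega
  rw [e1, e2] at hm
  generalize finrank F W ^ 2 = N at *
  generalize finrank F (fix σ (zpowers x)) ^ 2 = u at *
  generalize finrank F (fix (cnj σ) (zpowers x)) = e at *
  generalize finrank F (wfix (cnj σ) Q x) = w at *
  generalize finrank F (fix (cnj σ) ⁅Q, zpowers x⁆) = v at *
  generalize C.relIndex Q = m at *
  have a1 : (s + 1) * N < 4 * (s + 4) * w := by nlinarith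
  have a2 : m * w ≤ N := le_trans (Nat.mul_le_mul_left _ h2) h3
  nlinarith

theorem irr_faithful {σ : Γ →* End F W} (hinj : Function.Injective σ) (hirr : Irr σ)
    (hs : Group.IsSolvable Γ) {x : Γ} (hx : orderOf x = p) (h5 : 5 ≤ p) (hgen : Gen x) :
    2 * finrank F (fix σ (zpowers x)) < finrank F W := by
  have hxp : x ^ p = 1 := by rw [← hx, pow_orderOf_eq_one]
  by_cases hZ : center Γ = ⊤
  · obtain ⟨c, hc⟩ := scalar_of_mem_center hirr (hZ ▸ mem_top x)
    have : fix σ (zpowers x) = ⊥ := by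
      rw [eq_bot_iff]
      intro w hw
      rw [mem_fix_zpowers, hc] at hw
      by_contra h0
      have h1 : c = 1 := smul_left_injective F h0 (by simpa using hw)
      have : x = 1 := hinj (by rw [hc, h1, one_smul, map_one])
      rw [this, orderOf_one] at hx; omega
    rw [this, finrank_bot]; exact finrank_pos
  set f := QuotientGroup.mk' (center Γ) with hf
  have hsurj : Function.Surjective f := QuotientGroup.mk'_surjective _
  have hker : f.ker = center Γ := QuotientGroup.ker_mk' _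
  have : Nontrivial (Γ ⧸ center Γ) := QuotientGroup.nontrivial_iff.2 hZ
  obtain ⟨r, A, hr, hAn, hA1, hAc, -, hAr, hmin⟩ :=
    Grp.exists_minNormal_elementaryAbelian (Γ ⧸ center Γ)
  set Q := A.comap f with hQ
  have hQA : Q.map f = A := map_comap_eq_self_of_surjective hsurj A
  have hZQ : center Γ ≤ Q := hker ▸ ker_le_comap f A
  have hbot : ∀ {X : Subgroup Γ}, X.map f = ⊥ ↔ X ≤ center Γ := by
    intro X; rw [Subgroup.map_eq_bot_iff, hker]
  have hAA : ⁅A, A⁆ = ⊥ :=
    commutator_eq_bot_iff_le_centralizer.2 (le_centralizer_iff_isMulCommutative.2 hAc)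
  have hder : ⁅Q, Q⁆ ≤ center Γ := by rw [← hbot, map_commutator, hQA, hAA]
  have hQZ : ¬ Q ≤ center Γ := fun h => hA1 (by rw [← hQA, hbot]; exact h)
  by_cases hab : Q ≤ 𝐂[Q]
  · exact case_abelian hinj hirr hs hx h5 hgen hab hQZ
  have hR : Q ⊓ 𝐂[Q] ≤ center Γ := by
    rcases hmin ((Q ⊓ 𝐂[Q]).map f) (Normal.map inferInstance f hsurj)
      (hQA ▸ map_mono inf_le_left) with h | h
    · exact hbot.1 h
    · refine absurd ?_ hab
      have := congrArg (comap f) h
      rw [comap_map_eq, hker, sup_eq_left.2 (le_inf hZQ (center_le_centralizer _))] at this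
      exact inf_eq_left.1 this
  have hcz : ∀ {X Y : Subgroup Γ}, X ≤ center Γ → ⁅X, Y⁆ = ⊥ := fun h =>
    commutator_eq_bot_iff_le_centralizer.2 (h.trans (center_le_centralizer _))
  set C := (A ⊓ 𝐂[zpowers (f x)]).comap f with hC
  have hCQ : C ≤ Q := comap_mono inf_le_left
  have hmemC : ∀ t ∈ Q, t ∈ C ↔ ⁅zpowers x, zpowers t⁆ ≤ center Γ := by
    intro t ht
    rw [← hbot, map_commutator, MonoidHom.map_zpowers, MonoidHom.map_zpowers,
      commutator_eq_bot_iff_le_centralizer, le_centralizer_iff, zpowers_le]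
    exact ⟨fun h => h.2, fun h => ⟨ht, h⟩⟩
  have hL : ⁅Q, zpowers x⁆ ≤ Q := commutator_le_left _ _
  have hC1 : Q ⊓ 𝐂[⁅Q, zpowers x⁆] ≤ C := by
    rintro t ⟨ht, ht'⟩
    rw [hmemC t ht]
    refine le_trans (le_inf ((commutator_mono le_rfl (zpowers_le.2 ht)).trans
      (commutator_le_right _ _)) ?_) hR
    rw [← commutator_eq_bot_iff_le_centralizer]
    refine commutator_commutator_eq_bot_of_rotate
      (hcz ((commutator_mono (zpowers_le.2 ht) le_rfl).trans hder)) ?_
    rw [commutator_eq_bot_iff_le_centralizer, le_centralizer_iff, zpowers_le]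
    exact ht'
  have hC2 : ⁅Q, zpowers x⁆ ≤ 𝐂[C] := by
    rw [← commutator_eq_bot_iff_le_centralizer]
    refine commutator_commutator_eq_bot_of_rotate (hcz ?_)
      (hcz ((commutator_mono hCQ le_rfl).trans hder))
    rw [← hbot, map_commutator, MonoidHom.map_zpowers, map_comap_eq_self_of_surjective hsurj,
      commutator_eq_bot_iff_le_centralizer, le_centralizer_iff]
    exact inf_le_right
  have hfx : f x ^ p = 1 := by rw [← map_pow, hxp, map_one]
  have hnc : f x ∉ 𝐂[A] := by
    intro h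
    have h1 : 𝐂[A] = ⊤ := hgen.map f hsurj _ inferInstance h
    obtain ⟨⟨a, ha⟩, ha1⟩ := ne_bot_iff_exists_ne_one.1 hA1
    obtain ⟨t, rfl⟩ := hsurj a
    have h2 : (zpowers (f t)).Normal := by
      rw [← normalizer_eq_top_iff, eq_top_iff, ← h1]
      exact (centralizer_anti (zpowers_le.2 ha)).trans (centralizer_le_normalizer' _)
    have h3 := (hmin _ h2 (zpowers_le.2 ha)).resolve_left (by simpa using ha1)
    have h4 : Q = zpowers t ⊔ center Γ := by
      rw [hQ, ← h3, ← MonoidHom.map_zpowers, comap_map_eq, hker]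
    refine hab ?_
    rw [h4, Amb.centralizer_sup]
    refine sup_le (le_inf (le_centralizer _) ?_) (le_inf (center_le_centralizer _) (le_centralizer _))
    exact le_centralizer_iff.1 (center_le_centralizer _)
  have hnq : ¬ ⁅Q, zpowers x⁆ ≤ C := by
    intro h
    refine hnc (not_quadratic h5 inferInstance hr hAr hmin hfx ?_)
    rw [commutator_eq_bot_iff_le_centralizer, ← hQA, ← MonoidHom.map_zpowers, ← map_commutator,
      MonoidHom.map_zpowers]
    exact (map_le_iff_le_comap.2 h).trans inf_le_right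
  have := Fact.mk hr
  have hidx : C.relIndex Q = (A ⊓ 𝐂[zpowers (f x)]).relIndex A := by
    rw [hC, relIndex_comap, hQA]
  have hcard := card_mul_relIndex_of_le (inf_le_left : A ⊓ 𝐂[zpowers (f x)] ≤ A)
  obtain ⟨j, hj⟩ := (hAr.to_inf_left (K := 𝐂[zpowers (f x)])).exists_card_eq
  obtain ⟨k, hk⟩ : ∃ k, (A ⊓ 𝐂[zpowers (f x)]).relIndex A = r ^ k := by
    obtain ⟨i, hi⟩ := hAr.exists_card_eq
    obtain ⟨k, -, hk⟩ := (Nat.dvd_prime_pow hr).1 (hi ▸ Dvd.intro_left _ hcard)
    exact ⟨k, hk⟩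
  obtain ⟨t, htL, htC⟩ := SetLike.not_le_iff_exists.1 hnq
  have hk2 : 2 ≤ k := by
    by_contra hk2
    have htQ := hL htL
    have h1 : C ⊔ zpowers t = Q := by
      have hle : C ⊔ zpowers t ≤ Q := sup_le hCQ (zpowers_le.2 htQ)
      have h2 := relIndex_mul_relIndex C (C ⊔ zpowers t) Q le_sup_left hle
      have h3 : C.relIndex (C ⊔ zpowers t) ≠ 1 := fun e =>
        htC (relIndex_eq_one.1 e (mem_sup_right (mem_zpowers t)))
      rw [hidx, hk] at h2
      refine le_antisymm hle (relIndex_eq_one.1 ?_)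
      have hk' : k = 0 ∨ k = 1 := by omega
      rcases hk' with rfl | rfl
      · exact absurd (Nat.eq_one_of_mul_eq_one_right h2) h3
      · rw [pow_one] at h2
        rcases (Nat.dvd_prime hr).1 (Dvd.intro _ h2) with e | e
        · exact absurd e h3
        · rw [e] at h2
          exact (Nat.mul_eq_left hr.ne_zero).1 h2
    refine htC (ker_le_comap f _ ?_)
    rw [hker]
    refine hR ⟨htQ, ?_⟩
    rw [← h1, Amb.centralizer_sup]
    exact ⟨hC2 htL, le_centralizer _ (mem_zpowers t)⟩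
  refine case_extra hinj hirr hx h5 hder hC1 ?_
  rw [hidx, hk]
  refine index_arith h5 hr hk2 ⟨j, hj⟩ ?_
  rw [← hk, hcard]
  exact card_modEq_inf_centralizer hfx (by rw [normalizer_eq_top]; trivial)

universe u

omit [Finite Γ] in
theorem irr_general {Γ : Type u} [Group Γ] [Finite Γ] {σ : Γ →* End F W} (hirr : Irr σ)
    (hs : Group.IsSolvable Γ) {x : Γ} (hx : x ^ p = 1) (h5 : 5 ≤ p) (hgen : Gen x)
    (hne : fix σ ⊤ ≠ ⊤) : 2 * finrank F (fix σ (zpowers x)) < finrank F W := by
  set f := QuotientGroup.mk' σ.ker with hf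
  have hsurj : Function.Surjective f := QuotientGroup.mk'_surjective _
  let τ : Γ ⧸ σ.ker →* End F W := QuotientGroup.lift σ.ker σ le_rfl
  have hτ : ∀ g, τ (f g) = σ g := fun g => rfl
  have hinj : Function.Injective τ := by
    rw [injective_iff_map_eq_one]
    intro g hg
    obtain ⟨g, rfl⟩ := hsurj g
    exact (QuotientGroup.eq_one_iff g).2 hg
  have h1 : f x ≠ 1 := fun e => hne (fix_eq_top_iff_le_ker.2
    (hgen _ inferInstance ((QuotientGroup.eq_one_iff x).1 e)).ge)
  have h2 : fix τ (zpowers (f x)) = fix σ (zpowers x) := by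
    ext w; rw [mem_fix_zpowers, mem_fix_zpowers, hτ]
  rw [← h2]
  exact irr_faithful hinj (fun Y hY => hirr Y fun g => hY (f g)) inferInstance
    (orderOf_eq_prime (by rw [← map_pow, hx, map_one]) h1) h5 (hgen.map f hsurj)

omit [Finite Γ] [FiniteDimensional F W] [Nontrivial W] in
/-- The main bound: `N` is a normal subgroup of invertible order without fixed vectors. -/
theorem general {Γ : Type u} [Group Γ] [Finite Γ] (hs : Group.IsSolvable Γ) {x : Γ}
    (hx : x ^ p = 1) (h5 : 5 ≤ p) (hgen : Gen x) {N : Subgroup Γ} [N.Normal]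
    (hN : (Nat.card N : F) ≠ 0) (W : Type*) [AddCommGroup W] [Module F W] [FiniteDimensional F W]
    (σ : Γ →* End F W) (h0 : fix σ N = ⊥) (hW : 0 < finrank F W) :
    2 * finrank F (fix σ (zpowers x)) < finrank F W := by
  classical
  induction hn : finrank F W using Nat.strong_induction_on generalizing W with
  | _ n ih =>
  subst hn
  have : Nontrivial W := finrank_pos_iff.1 hW
  by_cases hirr : Irr σ
  · exact irr_general hirr hs hx h5 hgen fun e =>
      bot_ne_top (α := Submodule F W) (top_le_iff.1 (by rw [← e, ← h0]; exact fix_anti σ le_top))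
  unfold Irr at hirr
  push Not at hirr
  obtain ⟨Y, hY, hY0, hY1⟩ := hirr
  let τ : Γ →* End F Y :=
    { toFun := fun g => (σ g).restrict (hY g)
      map_one' := by ext y; simp
      map_mul' := fun a b => by ext y; simp }
  let ρ : Γ →* End F (W ⧸ Y) :=
    { toFun := fun g => Y.mapQ Y (σ g) (hY g)
      map_one' := by ext y; simp
      map_mul' := fun a b => by ext y; simp }
  have hρ : ∀ g w, ρ g (Y.mkQ w) = Y.mkQ (σ g w) := fun g w => rfl
  have hdim := Y.finrank_quotient_add_finrank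
  have hYpos : 0 < finrank F Y := by
    have := Submodule.nontrivial_iff_ne_bot.2 hY0
    exact finrank_pos
  have hYlt : finrank F Y < finrank F W := Submodule.finrank_lt hY1
  have h1 := ih _ hYlt Y τ (eq_bot_iff.2 fun y hy => by
    have : (y : W) ∈ fix σ N := fun a ha => congrArg Subtype.val (hy a ha)
    rw [h0] at this
    exact Subtype.ext this) hYpos rfl
  have h2 := ih _ (by omega) (W ⧸ Y) ρ (eq_bot_iff.2 fun y hy => by
    obtain ⟨w, rfl⟩ := Y.mkQ_surjective y
    have := Fintype.ofFinite N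
    have a1 := FH.sum_mem_fix σ N w
    rw [h0, Submodule.mem_bot] at a1
    have a2 := congrArg Y.mkQ a1
    rw [map_sum, map_zero, Finset.sum_congr rfl fun (a : N) _ => (hρ a w).symm.trans (hy a a.2),
      Finset.sum_const, Finset.card_univ, ← Nat.card_eq_fintype_card, ← Nat.cast_smul_eq_nsmul F,
      smul_eq_zero] at a2
    exact a2.resolve_left hN) (by omega) rfl
  have h3 : finrank F (fix σ (zpowers x)) ≤
      finrank F (fix ρ (zpowers x)) + finrank F (fix τ (zpowers x)) := by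
    let φ : fix σ (zpowers x) →ₗ[F] W ⧸ Y := Y.mkQ.comp (fix σ (zpowers x)).subtype
    rw [← φ.finrank_range_add_finrank_ker]
    refine add_le_add (Submodule.finrank_mono ?_) ?_
    · rintro _ ⟨w, rfl⟩ a ha
      exact (hρ a w).trans (congrArg Y.mkQ (w.2 a ha))
    · let ψ : LinearMap.ker φ →ₗ[F] fix τ (zpowers x) :=
        { toFun := fun w => ⟨⟨w.1.1, (Submodule.Quotient.mk_eq_zero Y).1 w.2⟩,
            fun a ha => Subtype.ext (w.1.2 a ha)⟩
          map_add' := fun _ _ => rfl
          map_smul' := fun _ _ => rfl }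
      exact LinearMap.finrank_le_finrank_of_injective (f := ψ) fun a b h =>
        Subtype.ext (Subtype.ext (congrArg (fun z => z.1.1) h))
  omega

omit [Finite Γ] [FiniteDimensional F W] [Nontrivial W] [IsAlgClosed F] in
/-- The main bound over an arbitrary field. -/
theorem general' {Γ : Type u} [Group Γ] [Finite Γ] (hs : Group.IsSolvable Γ) {x : Γ}
    (hx : x ^ p = 1) (h5 : 5 ≤ p) (hgen : Gen x) {N : Subgroup Γ} [N.Normal]
    (hN : (Nat.card N : F) ≠ 0) [FiniteDimensional F W]
    (σ : Γ →* End F W) (h0 : fix σ N = ⊥) (hW : 0 < finrank F W) :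
    2 * finrank F (fix σ (zpowers x)) < finrank F W := by
  have h1 := general (F := AlgebraicClosure F) hs hx h5 hgen (N := N)
    (by rwa [← map_natCast (algebraMap F (AlgebraicClosure F)), _root_.map_ne_zero]) _
    ((End.baseChangeHom F (AlgebraicClosure F) W).toMonoidHom.comp σ)
    (by rw [← Submodule.finrank_eq_zero, finrank_fix_baseChange, h0, finrank_bot])
    (by rwa [finrank_baseChange])
  rwa [finrank_fix_baseChange, finrank_baseChange] at h1

end Cfsg.Agent.FixDim
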