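import Mathlib
import Cfsg.Agent.MinS.FixDim2
import Cfsg.Agent.Grp.PFrattini
import Cfsg.Agent.Grp.Frattini
import Cfsg.Agent.PLocal.ChiefAct

/-! Group theoretic form of the fixed space bound; generation of `A V` by two conjugates. -/

set_option autoImplicit false
set_option linter.unusedSectionVars false

namespace Cfsg.Agent.FixDim

open Module Subgroup Cfsg Cfsg.Agent.PLocal Cfsg.Agent.PLocal.Amb Cfsg.Agent.FT.Rep
open Cfsg.Agent.TwoGen
open scoped commutatorElement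

variable {G : Type*} [Group G] [Finite G] {p q r : ℕ}

/-- An elementary abelian section `V / W` is not the product of two fixed point subgroups. -/
theorem sec_bound [hp : Fact p.Prime] [hq : Fact q.Prime] (h5 : 5 ≤ p) {V W A R : Subgroup G}
    (hWV : W < V) (hder : ⁅V, V⁆ ≤ W) (hpow : ∀ v ∈ V, v ^ q ∈ W) (hAV : A ≤ 𝐍[V])
    (hAW : A ≤ 𝐍[W]) (hs : Group.IsSolvable A) (hRA : R ≤ A) (hAR : A ≤ 𝐍[R])
    (hR : ¬ q ∣ Nat.card R) (h0 : ∀ v ∈ V, (∀ u ∈ R, v⁻¹ * (u * v * u⁻¹) ∈ W) → v ∈ W)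
    {x y : A} (hx : x ^ p = 1) (hy : y ^ p = 1) (gx : Gen x) (gy : Gen y)
    (h : ∀ v ∈ V, ∃ c ∈ V, ∃ d ∈ V, v = c * d ∧ (∀ u ∈ zpowers x, c⁻¹ * (u * c * (u : G)⁻¹) ∈ W) ∧
      ∀ u ∈ zpowers y, d⁻¹ * (u * d * (u : G)⁻¹) ∈ W) : False := by
  have hVN : ∀ {D : Subgroup G}, W ≤ D → D ≤ V → V ≤ 𝐍[D] := fun h1 h2 =>
    ChiefAct.le_normalizer_of_commutator_le (hder.trans h1) h2
  obtain ⟨M, _, _, _, σ, hσ⟩ := exists_secRep q (AlgebraicClosure (ZMod q))
    (V := V) (N := W) (L := A) ⟨hWV.le, hVN le_rfl hWV.le⟩ hder hpow hAV hAW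
  have := normal_subgroupOf' hAR
  obtain ⟨C₀, -, b0, c0, d0⟩ := hσ ⊥
  have e0 : C₀ = V := le_antisymm b0 fun v hv => (c0 v hv).2 fun a ha => by
    rw [mem_bot.1 ha]; simp
  rw [e0, fix_bot, finrank_top] at d0
  have hpos : 0 < finrank (AlgebraicClosure (ZMod q)) M := by
    by_contra hc
    rw [show finrank _ M = 0 by omega, pow_zero, relIndex_eq_one] at d0
    exact hWV.not_ge d0
  have hfix : fix σ (R.subgroupOf A) = ⊥ := by
    obtain ⟨C, a1, b1, c1, d1⟩ := hσ (R.subgroupOf A)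
    have : C ≤ W := fun v hv => h0 v (b1 hv) fun u hu => (c1 v (b1 hv)).1 hv ⟨u, hRA hu⟩ hu
    rw [relIndex_eq_one.2 this] at d1
    rw [← Submodule.finrank_eq_zero]
    exact (Nat.pow_eq_one.1 d1.symm).resolve_left hq.out.ne_one
  have hN : (Nat.card (R.subgroupOf A) : AlgebraicClosure (ZMod q)) ≠ 0 := by
    rw [card_subgroupOf_of_le hRA, Ne, CharP.cast_eq_zero_iff _ q]; exact hR
  have h1 := general hs hx h5 gx hN M σ hfix hpos
  have h2 := general hs hy h5 gy hN M σ hfix hpos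
  obtain ⟨C, a1, b1, c1, d1⟩ := hσ (zpowers x)
  obtain ⟨D, a2, b2, c2, d2⟩ := hσ (zpowers y)
  have hsup : C ⊔ D = V := le_antisymm (sup_le b1 b2) fun v hv => by
    obtain ⟨c, hc, d, hd, rfl, e1, e2⟩ := h v hv
    exact mul_mem (mem_sup_left ((c1 c hc).2 e1)) (mem_sup_right ((c2 d hd).2 e2))
  have k1 := card_sup_mul_card_inf (b1.trans (hVN a2 b2))
  have k2 := card_le_card_of_le (le_inf a1 a2)
  rw [hsup, ← card_mul_relIndex_of_le hWV.le, ← card_mul_relIndex_of_le a1,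
    ← card_mul_relIndex_of_le a2, d0, d1, d2] at k1
  have k3 : 0 < Nat.card W := Nat.card_pos
  have k4 : q ^ finrank (AlgebraicClosure (ZMod q)) M ≤
      q ^ (finrank (AlgebraicClosure (ZMod q)) (fix σ (zpowers x)) +
        finrank (AlgebraicClosure (ZMod q)) (fix σ (zpowers y))) := by
    rw [pow_add]
    refine Nat.le_of_mul_le_mul_left (c := Nat.card W * Nat.card W) ?_ (by positivity)
    calc _ = Nat.card W * q ^ finrank (AlgebraicClosure (ZMod q)) M * Nat.card W := by ring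
      _ ≤ _ := Nat.mul_le_mul_left _ k2
      _ = _ := by rw [k1]; ring
  have := (Nat.pow_le_pow_iff_right hq.out.one_lt).1 k4
  omega

theorem isSyl_sup_of_isSyl [Fact r.Prime] {S T V : Subgroup G} (hS : IsSyl r S T)
    (hV : ¬ r ∣ Nat.card V) (hn : T ≤ 𝐍[V]) : IsSyl r S (T ⊔ V) := by
  refine isSyl_of_not_dvd_relIndex hS.pgrp (hS.le.trans le_sup_left) fun h => ?_
  rw [← relIndex_mul_relIndex S T (T ⊔ V) hS.le le_sup_left] at h
  refine ((Nat.Prime.dvd_mul Fact.out).1 h).elim hS.not_dvd_relIndex fun h => hV ?_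
  have h1 := card_sup_mul_card_inf hn
  rw [← card_mul_relIndex_of_le (le_sup_left : T ≤ T ⊔ V), mul_assoc] at h1
  rw [← Nat.eq_of_mul_eq_mul_left Nat.card_pos h1]
  exact h.mul_right _

/-- A supplement `B` to `V` in `A V` either contains `V` or normalizes a `V`-conjugate of `R`. -/
theorem supplement_dichotomy [Fact q.Prime] [Fact r.Prime] (hqr : q ≠ r) {A V R B : Subgroup G}
    (hV : IsPGroup q V) (hR : IsPGroup r R) (hRA : R ≤ A) (hAR : A ≤ 𝐍[R]) (hAV : A ≤ 𝐍[V])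
    (hmin : ∀ U, U < V → A ≤ 𝐍[U] → U ≤ 𝐂[R]) (hVR : ⁅V, R⁆ = V) (hder : ⁅V, V⁆ ≤ V ⊓ 𝐂[R])
    (hB : B ⊔ V = A ⊔ V) : V ≤ B ∨ ∃ y ∈ V, B ≤ 𝐍[cj(y, R)] := by
  set W := V ⊓ 𝐂[R] with hW
  have hVN : ∀ {D : Subgroup G}, W ≤ D → D ≤ V → V ≤ 𝐍[D] := fun h1 h2 =>
    ChiefAct.le_normalizer_of_commutator_le (hder.trans h1) h2
  have hrV : ¬ r ∣ Nat.card V := Sig.not_dvd_of_isPGroup hqr hV
  have hXV : A ⊔ V ≤ 𝐍[V] := sup_le hAV le_normalizer
  have hXW : A ⊔ V ≤ 𝐍[W] :=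
    sup_le (le_normalizer_inf hAV (le_normalizer_centralizer hAR)) (hVN le_rfl inf_le_left)
  have hXT : A ⊔ V ≤ 𝐍[R ⊔ V] :=
    sup_le (le_normalizer_sup hAR hAV) (le_sup_right.trans le_normalizer)
  have hBX : B ≤ A ⊔ V := hB ▸ le_sup_left
  set T := B ⊓ (R ⊔ V) with hT
  have hTV : T ⊔ V = R ⊔ V := by
    rw [sup_comm, ← sup_inf_of_le_normalizer' le_sup_right (hBX.trans hXV), sup_comm V B, hB]
    exact inf_eq_right.2 (sup_le_sup_right hRA V)
  obtain ⟨S, hS⟩ := exists_isSyl r T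
  have hS' := isSyl_sup_of_isSyl hS hrV (inf_le_left.trans (hBX.trans hXV))
  rw [hTV] at hS'
  obtain ⟨g, hg, hgS⟩ := hS'.exists_cj_eq (isSyl_sup hR hrV (hRA.trans hAV))
  rw [sup_comm, mem_sup_of_le_normalizer_left (hRA.trans hAV)] at hg
  obtain ⟨y, hy, u, hu, rfl⟩ := hg
  rw [cj_mul, cj_of_mem hu] at hgS
  have hWS : W ≤ 𝐂[S] := by
    rw [← hgS, centralizer_cj, ← cj_of_mem_normalizer (hVN le_rfl inf_le_left hy)]
    exact cj_mono _ inf_le_right
  have hSB : S ≤ B := hS.le.trans inf_le_left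
  have hle : B ⊓ V ⊔ W ≤ V := sup_le inf_le_right inf_le_left
  rcases hle.eq_or_lt with e | hlt
  · left
    have h1 : ⁅V, S⁆ = V := by
      rw [← hgS]
      conv_lhs => rw [← cj_of_mem hy]
      rw [commutator_cj, hVR, cj_of_mem hy]
    refine le_trans ?_ (inf_le_left : B ⊓ V ≤ B)
    rw [← h1, commutator_le]
    intro v hv s hs
    rw [← e, mem_sup_of_le_normalizer_right (inf_le_left.trans (hBX.trans hXW))] at hv
    obtain ⟨d, hd, w, hw, rfl⟩ := hv
    have e1 : ⁅d * w, s⁆ = d * (s * d⁻¹ * s⁻¹) := by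
      rw [commutatorElement_def]
      calc d * w * s * (d * w)⁻¹ * s⁻¹ = d * (w * s) * w⁻¹ * d⁻¹ * s⁻¹ := by group
        _ = _ := by rw [← hWS hw s hs]; group
    rw [e1, h1]
    exact mul_mem hd (conj_mem_of_mem_normalizer
      (le_normalizer_inf (hSB.trans le_normalizer) (hSB.trans (hBX.trans hXV)) hs) (inv_mem hd))
  · right
    refine ⟨y, hy, ?_⟩
    have h1 : B ⊓ V ≤ W := le_inf inf_le_right (le_sup_left.trans (hmin _ hlt (le_trans
      (le_sup_left.trans hB.ge) (sup_le (le_normalizer_sup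
        (le_normalizer_inf le_normalizer (hBX.trans hXV)) (hBX.trans hXW))
        (hVN le_sup_right hle)))))
    have hSV : S ⊔ V = R ⊔ V := by
      rw [← hgS]
      conv_lhs => rw [← cj_of_mem hy]
      rw [← cj_sup, cj_of_mem (mem_sup_right hy)]
    have h2 : T ≤ 𝐍[S] := by
      have : T = S ⊔ V ⊓ T := by
        rw [← sup_inf_of_le_normalizer hS.le (hSB.trans (hBX.trans hXV)), hSV]
        exact (inf_eq_right.2 inf_le_right).symm
      rw [this]
      refine sup_le le_normalizer (le_trans ?_ (hWS.trans (centralizer_le_normalizer' S)))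
      exact le_trans (le_inf (inf_le_right.trans inf_le_left) inf_le_left) h1
    rw [hgS]
    intro b hb
    obtain ⟨n, hn, x, hx, rfl⟩ := hS.frattini
      (le_normalizer_inf le_normalizer (hBX.trans hXT) hb)
    exact mul_mem (h2 hn) hx

theorem gen_of_sup_cj {A : Subgroup G} {x a : G} (hx : x ∈ A) (ha : a ∈ A)
    (hA : A = zpowers x ⊔ cj(a, zpowers x)) : Gen (⟨x, hx⟩ : A) := by
  intro N hN h
  have h1 : zpowers x ≤ N.map A.subtype := zpowers_le.2 (mem_map_subtype.2 h)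
  have h2 : A ≤ N.map A.subtype := by
    conv_lhs => rw [hA]
    exact sup_le h1 (cj_le_of_mem_normalizer h1 (le_normalizer_map_subtype N ha))
  exact eq_top_iff.2 fun y _ => mem_map_subtype.1 (h2 y.2)

theorem Gen.conj {K : Type*} [Group K] {x : K} (h : Gen x) (a : K) : Gen (a * x * a⁻¹) :=
  fun N hN hx => h N hN (by simpa [mul_assoc] using hN.conj_mem _ hx a⁻¹)

/-- If `A = ⟨x, x^a⟩` and the normal `r`-subgroup `R` of `A` acts nontrivially on the `A`-invariant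
`q`-group `V`, then `A U = ⟨x, x^{v a}⟩` for an invariant `U ≤ V` on which `R` acts nontrivially. -/
theorem exists_gen [hp : Fact p.Prime] [Fact q.Prime] [Fact r.Prime] (h5 : 5 ≤ p) (hqr : q ≠ r)
    {A R : Subgroup G} {x a : G} (hxp : x ^ p = 1) (ha : a ∈ A)
    (hA : A = zpowers x ⊔ cj(a, zpowers x)) (hs : Group.IsSolvable A) (hR : IsPGroup r R)
    (hRA : R ≤ A) (hAR : A ≤ 𝐍[R]) (V : Subgroup G) : IsPGroup q V → A ≤ 𝐍[V] → ¬ V ≤ 𝐂[R] →
      ∃ U ≤ V, A ≤ 𝐍[U] ∧ ¬ U ≤ 𝐂[R] ∧ ∃ v ∈ U, zpowers x ⊔ cj(v * a, zpowers x) = A ⊔ U := by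
  induction V using WellFoundedLT.induction with
  | ind V ih =>
  intro hV hAV hnc
  by_cases hmin : ∀ U, U < V → A ≤ 𝐍[U] → U ≤ 𝐂[R]
  swap
  · push Not at hmin
    obtain ⟨U, h1, h2, h3⟩ := hmin
    obtain ⟨U', a1, a2⟩ := ih U h1 (hV.to_le h1.le) h2 h3
    exact ⟨U', a1.trans h1.le, a2⟩
  refine ⟨V, le_rfl, hAV, hnc, ?_⟩
  have hx : x ∈ A := hA ▸ mem_sup_left (mem_zpowers x)
  have hqR : ¬ q ∣ Nat.card R := Sig.not_dvd_of_isPGroup hqr.symm hR
  have hrV : ¬ r ∣ Nat.card V := Sig.not_dvd_of_isPGroup hqr hV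
  have hVR : ⁅V, R⁆ = V := by
    refine (Solv.commutator_le_of_le_normalizer (hRA.trans hAV)).eq_or_lt.resolve_right fun h => hnc ?_
    rw [← commutator_eq_bot_iff_le_centralizer]
    exact Solv.coprime_commutator_eq_bot R V (hRA.trans hAV) (Sig.cop_of_isPGroup hR hrV)
      (Or.inl (Solv.isSolvable_of_isPGroup hR)) (commutator_eq_bot_iff_le_centralizer.2
        (hmin _ h (le_normalizer_commutator hAV hAR)))
  have hV1 : V ≠ ⊥ := fun e => hnc (e ▸ bot_le)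
  have hΦ : (frattini V).map V.subtype ≤ V ⊓ 𝐂[R] := by
    refine le_inf (map_subtype_le _) (hmin _ (lt_of_le_of_ne (map_subtype_le _) fun e => ?_)
      (hAV.trans (Grp.normalizer_le_normalizer_map_of_characteristic _ _)))
    have := (nontrivial_iff_ne_bot V).2 hV1
    refine Grp.frattini_ne_top (G := V) (eq_top_iff.2 fun y _ => mem_map_subtype.1 ?_)
    rw [e]; exact y.2
  have hder : ⁅V, V⁆ ≤ V ⊓ 𝐂[R] := by
    rw [← map_subtype_commutator]
    exact (map_mono (Grp.PFrattini.commutator_le_frattini hV)).trans hΦ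
  by_contra hc
  push Not at hc
  have hNC : ∀ c ∈ V, ∀ u ∈ A, c⁻¹ * u * c ∈ 𝐍[R] → c⁻¹ * (u * c * u⁻¹) ∈ V ⊓ 𝐂[R] := by
    intro c hc u hu h
    have h1 : c⁻¹ * (u * c * u⁻¹) ∈ V := mul_mem (inv_mem hc) (conj_mem_of_mem_normalizer (hAV hu) hc)
    have h2 : c⁻¹ * (u * c * u⁻¹) ∈ 𝐍[R] := by
      simpa [mul_assoc] using mul_mem h (inv_mem (hAR hu))
    have h3 : V ⊓ 𝐍[R] ≤ 𝐂[R] := le_centralizer_of_inf_eq_bot inf_le_right
      (le_normalizer_inf (hRA.trans hAV) (le_normalizer.trans le_normalizer))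
      (eq_bot_iff.2 ((inf_le_inf_right R inf_le_left).trans
        (Sig.inf_eq_bot_of_not_dvd hV hqR).le))
    exact ⟨h1, h3 ⟨h1, h2⟩⟩
  refine sec_bound (q := q) h5 (V := V) (W := V ⊓ 𝐂[R]) (lt_of_le_of_ne inf_le_left fun e =>
    hnc (e ▸ inf_le_right)) hder (fun v hv => hΦ ⟨_, Grp.PFrattini.pow_mem_frattini hV ⟨v, hv⟩, rfl⟩) hAV
    (le_normalizer_inf hAV (le_normalizer_centralizer hAR)) hs hRA hAR hqR (fun v hv h => ?_)
    (x := ⟨x, hx⟩) (y := ⟨a, ha⟩ * ⟨x, hx⟩ * ⟨a, ha⟩⁻¹) (Subtype.ext hxp)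
    (by rw [conj_pow, show (⟨x, hx⟩ : A) ^ p = 1 from Subtype.ext hxp]; simp)
    (gen_of_sup_cj hx ha hA) ((gen_of_sup_cj hx ha hA).conj _) fun v hv => ?_
  · obtain ⟨n, hn, hn'⟩ := Solv.coprime_fixed_coset' R (V ⊓ 𝐂[R])
      (hRA.trans (le_normalizer_inf hAV (le_normalizer_centralizer hAR)))
      (Sig.cop_of_isPGroup hR (Sig.not_dvd_of_le inf_le_left hrV))
      (Or.inl (Solv.isSolvable_of_isPGroup hR)) v h
    exact ⟨hv, by simpa using mul_mem hn' (inv_mem hn.2)⟩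
  · set B := zpowers x ⊔ cj(v * a, zpowers x) with hB
    have hBX : B ≤ A ⊔ V := sup_le (zpowers_le.2 (mem_sup_left hx))
      (cj_le_of_mem (zpowers_le.2 (mem_sup_left hx)) (mul_mem (mem_sup_right hv) (mem_sup_left ha)))
    have hBV : B ⊔ V = A ⊔ V := by
      refine le_antisymm (sup_le hBX le_sup_right) (sup_le ?_ le_sup_right)
      conv_lhs => rw [hA]
      refine sup_le (le_sup_left.trans le_sup_left) ?_
      rw [← cj_inv_cj v cj(a, zpowers x), ← cj_mul v a]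
      exact cj_le_of_mem (le_sup_right.trans le_sup_left) (mem_sup_right (inv_mem hv))
    rcases supplement_dichotomy hqr hV hR hRA hAR hAV hmin hVR hder hBV with h | ⟨y, hy, h⟩
    · exact absurd (by rw [← hBV, sup_eq_left.2 h]) (hc v hv)
    rw [normalizer_cj] at h
    refine ⟨y, hy, y⁻¹ * v, mul_mem (inv_mem hy) hv, by group, fun u hu => ?_, fun u hu => ?_⟩
    · have hu' : (u : G) ∈ zpowers x := by
        simpa [MonoidHom.map_zpowers] using mem_map_of_mem A.subtype hu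
      exact hNC y hy u u.2 (mem_cj.1 (h (mem_sup_left hu')))
    · have hu' : (u : G) ∈ cj(a, zpowers x) := by
        rw [cj_zpowers]
        simpa [MonoidHom.map_zpowers] using mem_map_of_mem A.subtype hu
      have h1 : v * u * v⁻¹ ∈ B := mem_sup_right (by rw [cj_mul]; exact conj_mem_cj v hu')
      have h2 := hNC (v⁻¹ * y) (mul_mem (inv_mem hv) hy) u u.2 (by
        simpa [mul_assoc] using mem_cj.1 (h h1))
      have h3 := conj_mem_of_mem_normalizer (ChiefAct.le_normalizer_of_commutator_le hder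
        inf_le_left (mul_mem (inv_mem hv) hy)) (inv_mem h2)
      convert h3 using 1
      group

end Cfsg.Agent.FixDim
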