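import Mathlib
import Cfsg.Agent.MinS.FixDim3
import Cfsg.Agent.PLocal.CoprimeQuot
import Cfsg.Agent.Solv.Wielandt
import Cfsg.Agent.Solv.CoprimeSylow

/-! Flavell's theorem on fixed points of coprime action, part 1: tools. -/

set_option autoImplicit false
set_option linter.unusedSectionVars false

namespace Cfsg.Agent.FixGen

open Subgroup Cfsg Cfsg.Agent.PLocal Cfsg.Agent.PLocal.Amb Cfsg.Agent.TwoGen
open scoped commutatorElement

variable {G : Type*} [Group G] {p : ℕ}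

/-- the subgroup `[h, ⟨x⟩]` -/
def cm (x h : G) : Subgroup G := closure {c | ∃ u ∈ zpowers x, c = h⁻¹ * (u * h * u⁻¹)}

/-- the subgroup generated by the fixed points of `x` in the `[h, ⟨x⟩]`, `h ∈ H` -/
def DD (x : G) (H : Subgroup G) : Subgroup G := ⨆ h ∈ H, cm x h ⊓ 𝐂[zpowers x]

theorem mem_cm {x u : G} (h : G) (hu : u ∈ zpowers x) : h⁻¹ * (u * h * u⁻¹) ∈ cm x h :=
  subset_closure ⟨u, hu, rfl⟩

theorem cm_le_iff {x h : G} {K : Subgroup G} :
    cm x h ≤ K ↔ ∀ u ∈ zpowers x, h⁻¹ * (u * h * u⁻¹) ∈ K := by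
  rw [cm, closure_le]
  exact ⟨fun H u hu => H ⟨u, hu, rfl⟩, by rintro H _ ⟨u, hu, rfl⟩; exact H u hu⟩

theorem map_cm {G' : Type*} [Group G'] (f : G →* G') (x h : G) :
    (cm x h).map f = cm (f x) (f h) := by
  refine le_antisymm (map_le_iff_le_comap.2 (cm_le_iff.2 fun u hu => ?_)) (cm_le_iff.2 fun u hu => ?_)
  · rw [mem_comap, map_mul, map_mul, map_mul, map_inv, map_inv]
    exact mem_cm _ (by rw [← MonoidHom.map_zpowers]; exact mem_map_of_mem f hu)
  · rw [← MonoidHom.map_zpowers] at hu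
    obtain ⟨u, hu, rfl⟩ := hu
    exact ⟨_, mem_cm h hu, by simp⟩

theorem cm_le_commutator {x h : G} {H : Subgroup G} (hh : h ∈ H) : cm x h ≤ ⁅H, zpowers x⁆ :=
  cm_le_iff.2 fun u hu => by
    simpa [commutatorElement_def, mul_assoc] using commutator_mem_commutator (H.inv_mem hh) hu

theorem cm_le {x h : G} {H : Subgroup G} (hx : x ∈ 𝐍[H]) (hh : h ∈ H) : cm x h ≤ H :=
  (cm_le_commutator hh).trans (Solv.commutator_le_of_le_normalizer (zpowers_le.2 hx))

theorem zpowers_le_normalizer_cm (x h : G) : zpowers x ≤ 𝐍[cm x h] := by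
  rw [le_normalizer_iff_cj]
  intro g hg
  rw [map_le_iff_le_comap, cm_le_iff]
  intro u hu
  have := mul_mem (inv_mem (mem_cm h hg)) (mem_cm h (mul_mem hg hu))
  change g * (h⁻¹ * (u * h * u⁻¹)) * g⁻¹ ∈ cm x h
  convert this using 1
  group

theorem le_DD {x h : G} {H : Subgroup G} (hh : h ∈ H) : cm x h ⊓ 𝐂[zpowers x] ≤ DD x H :=
  le_iSup₂_of_le h hh le_rfl

theorem DD_mono {x : G} {H K : Subgroup G} (h : H ≤ K) : DD x H ≤ DD x K :=
  iSup₂_le fun _ hg => le_DD (h hg)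

theorem DD_le_cent (x : G) (H : Subgroup G) : DD x H ≤ 𝐂[zpowers x] :=
  iSup₂_le fun _ _ => inf_le_right

theorem DD_le {x : G} {H : Subgroup G} (hx : x ∈ 𝐍[H]) : DD x H ≤ H :=
  iSup₂_le fun _ hg => inf_le_left.trans (cm_le hx hg)

theorem le_normalizer_DD (x : G) (H : Subgroup G) : H ⊓ 𝐂[zpowers x] ≤ 𝐍[DD x H] := by
  rw [le_normalizer_iff_cj]
  rintro c ⟨hc, hc'⟩
  rw [map_le_iff_le_comap]
  refine iSup₂_le fun h hh => map_le_iff_le_comap.1 ?_
  have e : c * x * c⁻¹ = x := by rw [← hc' x (mem_zpowers x)]; group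
  rw [cj_inf, cj_of_mem hc', map_cm]
  change cm (c * x * c⁻¹) (c * h * c⁻¹) ⊓ _ ≤ _
  rw [e]
  exact le_DD (mul_mem (mul_mem hc hh) (inv_mem hc))

theorem commutator_sup_le {M E P : Subgroup G} (hE : E ≤ 𝐍[M]) (hP : P ≤ 𝐍[M]) :
    ⁅M ⊔ E, P⁆ ≤ M ⊔ ⁅E, P⁆ := by
  rw [commutator_le]
  intro y hy u hu
  obtain ⟨m, hm, e, he, rfl⟩ := (mem_sup_of_le_normalizer_left hE).1 hy
  have : ⁅m * e, u⁆ = m * ⁅e, u⁆ * (u * m⁻¹ * u⁻¹) := by
    simp only [commutatorElement_def]; group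
  rw [this]
  exact mul_mem (mul_mem (mem_sup_left hm) (mem_sup_right (commutator_mem_commutator he hu)))
    (mem_sup_left (conj_mem_of_mem_normalizer (hP hu) (inv_mem hm)))

theorem commutator_sup_self_le {M E : Subgroup G} (hE : E ≤ 𝐍[M]) :
    ⁅M ⊔ E, M ⊔ E⁆ ≤ M ⊔ ⁅E, E⁆ := by
  refine (commutator_sup_le hE (sup_le le_normalizer hE)).trans (sup_le le_sup_left ?_)
  rw [commutator_comm]
  exact commutator_sup_le hE hE

/-- A solvable group is not perfect modulo a proper normal subgroup. -/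
theorem le_of_le_sup_commutator [Finite G] {D C : Subgroup G} (hs : Group.IsSolvable C)
    (hn : C ≤ 𝐍[D]) (h : C ≤ D ⊔ ⁅C, C⁆) : C ≤ D := by
  have key : ∀ E : Subgroup G, E ≤ C → C ≤ D ⊔ E → C ≤ D := by
    intro E
    induction E using WellFoundedLT.induction with
    | ind E ih =>
    intro hE hC
    by_cases h0 : E = ⊥
    · rwa [h0, sup_bot_eq] at hC
    have := Grp.isSolvable_of_le hE
    have hlt := Grp.commutator_lt_of_isSolvable h0
    refine ih _ hlt (hlt.le.trans hE) (h.trans (sup_le le_sup_left ?_))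
    exact (commutator_mono hC hC).trans (commutator_sup_self_le (hE.trans hn))
  exact key C le_rfl le_sup_right

theorem eq_of_sup_commutator [Finite G] [Fact p.Prime] {K H : Subgroup G} (hH : IsPGroup p H)
    (hK : K ≤ H) (h : H ≤ K ⊔ ⁅H, H⁆) : K = H := by
  have h1 : K.subgroupOf H = ⊤ := by
    refine Grp.eq_top_of_sup_le_frattini (Grp.PFrattini.commutator_le_frattini hH) ?_
    refine map_injective H.subtype_injective ?_
    rw [Subgroup.map_sup, map_subgroupOf_of_le hK, map_subtype_commutator, ← MonoidHom.range_eq_map,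
      range_subtype]
    exact le_antisymm (sup_le hK (commutator_le_self H)) h
  exact le_antisymm hK (subgroupOf_eq_top.1 h1)

/-- The alternating form argument in class two. -/
theorem commutator_eq_bot_of_class_two {K : Subgroup G} {x : G} (hx : x ∈ 𝐍[K])
    (h1 : ⁅K, K⁆ ≤ 𝐂[K]) (h2 : ⁅K, K⁆ ≤ 𝐂[zpowers x])
    (h3 : ∀ u ∈ K, ⁅u, x * u * x⁻¹⁆ = 1)
    (h4 : ∀ k ∈ K, ∃ a ∈ K, ∃ z ∈ ⁅K, K⁆, k = a * (x * x * a⁻¹ * (x * x)⁻¹) * z) :
    ⁅K, K⁆ = ⊥ := by
  have hc : ∀ a ∈ K, ∀ b ∈ K, ∀ c ∈ K, c * ⁅a, b⁆ * c⁻¹ = ⁅a, b⁆ := fun a ha b hb c hc => by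
    rw [h1 (commutator_mem_commutator ha hb) c hc]; group
  have hl : ∀ a ∈ K, ∀ b ∈ K, ∀ c ∈ K, ⁅a * b, c⁆ = ⁅b, c⁆ * ⁅a, c⁆ := fun a ha b hb c hc' => by
    rw [← hc b hb c hc' a ha]; simp only [commutatorElement_def]; group
  have hr : ∀ a ∈ K, ∀ b ∈ K, ∀ c ∈ K, ⁅a, b * c⁆ = ⁅a, b⁆ * ⁅a, c⁆ := fun a ha b hb c hc' => by
    rw [← hc a ha c hc' b hb]; simp only [commutatorElement_def]; group
  have hφ : ∀ a ∈ K, x * a * x⁻¹ ∈ K := fun a ha => conj_mem_of_mem_normalizer hx ha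
  have hinv : ∀ a ∈ K, ∀ b ∈ K, ⁅x * a * x⁻¹, x * b * x⁻¹⁆ = ⁅a, b⁆ := fun a ha b hb => by
    rw [← conjugate_commutatorElement, h2 (commutator_mem_commutator ha hb) x (mem_zpowers x)]
    group
  have key : ∀ u ∈ K, ∀ a ∈ K, ⁅u, x * (x * a * x⁻¹) * x⁻¹⁆ = ⁅u, a⁆ := by
    intro u hu a ha
    have e := h3 _ (mul_mem hu (hφ a ha))
    rw [show x * (u * (x * a * x⁻¹)) * x⁻¹ = (x * u * x⁻¹) * (x * (x * a * x⁻¹) * x⁻¹) by group,
      hl _ hu _ (hφ a ha) _ (mul_mem (hφ u hu) (hφ _ (hφ a ha))),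
      hr _ hu _ (hφ u hu) _ (hφ _ (hφ a ha)), hr _ (hφ a ha) _ (hφ u hu) _ (hφ _ (hφ a ha)),
      h3 u hu, h3 _ (hφ a ha), hinv a ha u hu, mul_one, one_mul, mul_eq_one_iff_inv_eq,
      commutatorElement_inv] at e
    exact e.symm
  rw [commutator_eq_bot_iff_le_centralizer]
  intro k hk u hu
  obtain ⟨a, ha, z, hz, rfl⟩ := h4 k hk
  have e1 : ⁅u, a * (x * x * a⁻¹ * (x * x)⁻¹)⁆ = 1 := by
    rw [show x * x * a⁻¹ * (x * x)⁻¹ = x * (x * a⁻¹ * x⁻¹) * x⁻¹ by group,
      hr _ hu _ ha _ (hφ _ (hφ _ (inv_mem ha))), key u hu _ (inv_mem ha), ← hr _ hu _ ha _ (inv_mem ha)]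
    simp
  exact ((commutatorElement_eq_one_iff_commute.1 e1).mul_right (h1 hz u hu)).eq

theorem le_normalizer_of_normal' {K : Subgroup G} (h : K.Normal) (L : Subgroup G) : L ≤ 𝐍[K] := by
  rw [normalizer_eq_top]; exact le_top

variable [Finite G] [hp : Fact p.Prime]

theorem map_DD {G' : Type*} [Group G'] (f : G →* G') {x : G} (hx : x ^ p = 1) {H : Subgroup G}
    (hxH : x ∈ 𝐍[H]) (hH : ¬ p ∣ Nat.card H) : DD (f x) (H.map f) ≤ (DD x H).map f := by
  refine iSup₂_le ?_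
  rintro _ ⟨h, hh, rfl⟩
  rw [← map_cm, ← MonoidHom.map_zpowers, ← map_inf_centralizer_of_isPGroup f _ _
    (isPGroup_zpowers ⟨1, by simpa using hx⟩) (zpowers_le_normalizer_cm x h)
    (coprime_of_not_dvd (Sig.not_dvd_of_le (inf_le_right.trans (cm_le hxH hh)) hH))]
  exact map_mono (le_DD hh)

/-- The class two case. -/
theorem class_two (hp2 : p ≠ 2) {x : G} (hx : x ^ p = 1) {H : Subgroup G} [H.Normal]
    (htop : H ⊔ zpowers x = ⊤) (hH : ¬ p ∣ Nat.card H) (hc : ⁅H, zpowers x⁆ = H)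
    (h1 : ⁅H, H⁆ ≤ 𝐂[H]) : H ⊓ 𝐂[zpowers x] ≤ DD x H := by
  have hP : IsPGroup p (zpowers x) := isPGroup_zpowers ⟨1, by simpa using hx⟩
  have hsP := Solv.isSolvable_of_isPGroup hP
  have hN : ∀ (K : Subgroup G) [K.Normal] (L : Subgroup G), L ≤ 𝐍[K] := fun K _ L => by
    rw [normalizer_eq_top]; exact le_top
  set Z := ⁅H, H⁆ with hZ
  have hZH : Z ≤ H := commutator_le_self H
  have hZp := Sig.not_dvd_of_le hZH hH
  have hZc : IsMulCommutative Z := le_centralizer_iff_isMulCommutative.1 (h1.trans (centralizer_anti hZH))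
  -- the abelian quotient
  set f := QuotientGroup.mk' Z with hf
  have hnf : (H.map f).Normal := Normal.map inferInstance f (QuotientGroup.mk'_surjective _)
  have hfix : H.map f ⊓ 𝐂[zpowers (f x)] = ⊥ := by
    have hab : IsMulCommutative (H.map f) := by
      rw [← le_centralizer_iff_isMulCommutative, ← commutator_eq_bot_iff_le_centralizer,
        ← map_commutator, Subgroup.map_eq_bot_iff, QuotientGroup.ker_mk']
    have := Solv.coprime_centralizer_inf_commutator ((zpowers x).map f) (H.map f)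
      (le_normalizer_of_normal' hnf _) (Sig.cop_of_isPGroup (hP.map f) fun h => hH (h.trans (card_map_dvd _ _)))
    rwa [← map_commutator, hc, MonoidHom.map_zpowers, inf_right_comm, inf_idem] at this
  have hsurj : ∀ y : G, 𝐂[zpowers (f y)] ≤ 𝐂[zpowers (f x)] → ∀ k ∈ H, ∃ a ∈ H, ∃ z ∈ Z,
      k = a * (y * a⁻¹ * y⁻¹) * z := by
    intro y hy k hk
    obtain ⟨⟨_, a, ha, rfl⟩, e⟩ := (FT.Rep.conj_surj_of_fpf (K := H.map f) (x := f y)
      (le_normalizer_of_normal' hnf ⊤ trivial) (by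
        rw [← Amb.centralizer_zpowers]
        exact eq_bot_iff.2 (hfix ▸ inf_le_inf_left _ hy))).2 ⟨f k, mem_map_of_mem f hk⟩
    have e' : f (a * (y * a⁻¹ * y⁻¹)) = f k := by
      simpa using congrArg Subtype.val e
    exact ⟨a, ha, _, QuotientGroup.eq.1 e', by group⟩
  have hCZ : H ⊓ 𝐂[zpowers x] ≤ Z := by
    intro c hc
    have : f c ∈ H.map f ⊓ 𝐂[zpowers (f x)] := ⟨mem_map_of_mem f hc.1, by
      rw [Amb.centralizer_zpowers]
      refine mem_centralizer_singleton_iff.2 ?_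
      rw [← map_mul, ← map_mul, hc.2 x (mem_zpowers x)]⟩
    rw [hfix, mem_bot] at this
    exact (QuotientGroup.eq_one_iff c).1 this
  set T := DD x H ⊓ Z ⊔ ⁅Z, zpowers x⁆ with hT
  have hTZ : T ≤ Z := sup_le inf_le_right (commutator_le_left _ _)
  have hTn : T.Normal := by
    rw [← normalizer_eq_top_iff, eq_top_iff, ← htop]
    refine sup_le ((le_centralizer_iff.1 (hTZ.trans h1)).trans (centralizer_le_normalizer' _))
      (le_normalizer_sup ?_ (Solv.le_normalizer_commutator_right _ _))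
    exact (le_centralizer_iff.1 (inf_le_left.trans (DD_le_cent x H))).trans
      (centralizer_le_normalizer' _)
  have hW : ∀ g ∈ H, cm x g ⊓ Z ≤ T := by
    intro g hg
    rw [← Solv.coprime_commutator_sup_centralizer (zpowers x) (cm x g ⊓ Z)
      (le_normalizer_inf (zpowers_le_normalizer_cm x g) (hN _ _))
      (Sig.cop_of_isPGroup hP (Sig.not_dvd_of_le inf_le_right hZp)) (Or.inl hsP)]
    refine sup_le ((commutator_mono inf_le_right le_rfl).trans le_sup_right)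
      (le_trans (le_inf ?_ (inf_le_left.trans inf_le_right)) le_sup_left)
    exact (inf_le_inf_right _ inf_le_left).trans (le_DD hg)
  have hZT : Z ≤ T := by
    set g := QuotientGroup.mk' T with hg
    have hb : ∀ {X : Subgroup G}, X.map g = ⊥ ↔ X ≤ T := by
      intro X; rw [Subgroup.map_eq_bot_iff, QuotientGroup.ker_mk']
    rw [← hb, map_commutator]
    refine commutator_eq_bot_of_class_two (x := g x) (le_normalizer_of_normal'
      (Normal.map inferInstance g (QuotientGroup.mk'_surjective _)) ⊤ trivial) ?_ ?_ ?_ ?_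
    · rw [← commutator_eq_bot_iff_le_centralizer, ← map_commutator, ← map_commutator,
        commutator_eq_bot_iff_le_centralizer.2 h1, Subgroup.map_bot]
    · rw [← commutator_eq_bot_iff_le_centralizer, ← MonoidHom.map_zpowers, ← map_commutator,
        ← map_commutator, hb]
      exact le_sup_right
    · rintro _ ⟨k, hk, rfl⟩
      rw [← map_inv, ← map_mul, ← map_mul, ← map_commutatorElement]
      refine (QuotientGroup.eq_one_iff _).2 ?_
      obtain ⟨a, ha, z, hz, rfl⟩ := hsurj x le_rfl k hk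
      set u := a * (x * a⁻¹ * x⁻¹) with hu
      have hu1 : u ∈ cm x a⁻¹ := by simpa using mem_cm a⁻¹ (mem_zpowers x)
      have hu2 : x * u * x⁻¹ ∈ cm x a⁻¹ :=
        conj_mem_of_mem_normalizer (zpowers_le_normalizer_cm x a⁻¹ (mem_zpowers x)) hu1
      have huH : u ∈ H := cm_le (hN _ ⊤ trivial) (inv_mem ha) hu1
      have huH' : x * u * x⁻¹ ∈ H := cm_le (hN _ ⊤ trivial) (inv_mem ha) hu2
      have hz' : x * z * x⁻¹ ∈ Z := conj_mem_of_mem_normalizer (hN _ ⊤ trivial) hz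
      have e : ⁅u * z, x * (u * z) * x⁻¹⁆ = ⁅u, x * u * x⁻¹⁆ := by
        have c1 := h1 hz' _ (mul_mem huH (hZH hz))
        have c2 := h1 hz _ huH'
        generalize hw : x * u * x⁻¹ = w at *
        rw [show x * (u * z) * x⁻¹ = w * (x * z * x⁻¹) by rw [← hw]; group]
        generalize x * z * x⁻¹ = z' at *
        simp only [commutatorElement_def]
        calc u * z * (w * z') * (u * z)⁻¹ * (w * z')⁻¹ =
            u * z * w * (z' * (u * z)⁻¹ * z'⁻¹) * w⁻¹ := by group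
          _ = u * (z * w) * z⁻¹ * u⁻¹ * w⁻¹ := by
            rw [show z' * (u * z)⁻¹ * z'⁻¹ = (z' * (u * z) * z'⁻¹)⁻¹ by group, ← c1]; group
          _ = _ := by rw [← c2]; group
      rw [e]
      refine hW _ (inv_mem ha) ⟨?_, commutator_mem_commutator huH huH'⟩
      rw [commutatorElement_def]
      exact (cm x a⁻¹).mul_mem (mul_mem (mul_mem hu1 hu2) (inv_mem hu1)) (inv_mem hu2)
    · rintro _ ⟨k, hk, rfl⟩
      obtain ⟨a, ha, z, hz, rfl⟩ := hsurj (x * x) (by
        rw [Amb.centralizer_zpowers, Amb.centralizer_zpowers]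
        intro y hy
        rw [mem_centralizer_singleton_iff] at hy ⊢
        exact (FixDim.commute_of_sq (hp.out.odd_of_ne_two hp2) (by rw [← map_pow, hx, map_one])
          (by rw [← map_mul]; exact hy.symm)).eq.symm) k hk
      refine ⟨g a, mem_map_of_mem g ha, g z, ?_, by simp⟩
      rw [← map_commutator]; exact mem_map_of_mem g hz
  intro c hc
  obtain ⟨d, hd, w, hw, rfl⟩ := (mem_sup_of_le_normalizer_right (inf_le_right.trans
    (Solv.le_normalizer_commutator_left _ _))).1 (hZT (hCZ hc))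
  have h2 : w ∈ (Z ⊓ 𝐂[zpowers x]) ⊓ ⁅Z, zpowers x⁆ := ⟨⟨commutator_le_left _ _ hw, by
    simpa using mul_mem (inv_mem (DD_le_cent x H hd.1)) hc.2⟩, hw⟩
  rw [Solv.coprime_centralizer_inf_commutator _ _ (hN _ _) (Sig.cop_of_isPGroup hP hZp),
    mem_bot] at h2
  simpa [h2] using hd.1

end Cfsg.Agent.FixGen
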