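import Mathlib
import Cfsg.Agent.MinS.FixGen1

/-! Flavell's theorem on fixed points of coprime action, part 2:
`C_{[H,P]}(P) = ⟨C_{[h,P]}(P) | h ∈ H⟩`. -/

set_option autoImplicit false
set_option linter.unusedSectionVars false

namespace Cfsg.Agent.FixGen

open Subgroup Cfsg Cfsg.Agent.PLocal Cfsg.Agent.PLocal.Amb Cfsg.Agent.TwoGen
open scoped commutatorElement

variable {G : Type*} [Group G] {p q r : ℕ} [Finite G] [hp : Fact p.Prime]

/-- The Frobenius case: some `[h v, x]` is all of `V R`. -/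
theorem frob_case (hp2 : p ≠ 2) [Fact q.Prime] [Fact r.Prime] (hqr : q ≠ r) {x : G}
    (hx : x ^ p = 1) {V R : Subgroup G} [hVn : V.Normal] (htop : V ⊔ R ⊔ zpowers x = ⊤)
    (hH : ¬ p ∣ Nat.card ↥(V ⊔ R)) (hV : IsPGroup q V) (hR : IsPGroup r R) (hVc : V ≤ 𝐂[V])
    (hV1 : V ≠ ⊥) (hmin : ∀ K : Subgroup G, K.Normal → K ≤ V → K = ⊥ ∨ K = V)
    (hxR : x ∈ 𝐍[R]) (hVR : V ⊓ 𝐂[R] = ⊥) (hRx : R ⊓ 𝐂[zpowers x] = ⊥) {h : G} (hh : h ∈ R)
    (hcm : cm x h = R) : ∃ v ∈ V, V ⊔ R ≤ cm x (h * v) := by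
  have hP : IsPGroup p (zpowers x) := isPGroup_zpowers ⟨1, by simpa using hx⟩
  have hPR : zpowers x ≤ 𝐍[R] := zpowers_le.2 hxR
  have hVp := Sig.not_dvd_of_le le_sup_left hH
  have hRp := Sig.not_dvd_of_le le_sup_right hH
  have hqR : ¬ q ∣ Nat.card R := Sig.not_dvd_of_isPGroup hqr.symm hR
  have hrV : ¬ r ∣ Nat.card V := Sig.not_dvd_of_isPGroup hqr hV
  have hN := le_normalizer_of_normal' hVn
  set A := R ⊔ zpowers x with hA
  have hAR : A ≤ 𝐍[R] := sup_le le_normalizer hPR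
  have hAV : A ⊔ V = ⊤ := by rw [← htop, hA, sup_comm, sup_assoc]
  have hcomm : ⁅V, R⁆ = V := by
    have := Solv.coprime_commutator_sup_centralizer R V (hN _) (Sig.cop_of_isPGroup hR hrV)
      (Or.inl (Solv.isSolvable_of_isPGroup hR))
    rwa [hVR, sup_bot_eq] at this
  have hNC : ∀ c ∈ V, ∀ u ∈ A, c⁻¹ * u * c ∈ 𝐍[R] → u * c = c * u := by
    intro c hc u hu h
    have h1 : c⁻¹ * (u * c * u⁻¹) ∈ V := mul_mem (inv_mem hc) (hVn.conj_mem c hc u)
    have h2 : c⁻¹ * (u * c * u⁻¹) ∈ 𝐍[R] := by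
      simpa [mul_assoc] using mul_mem h (inv_mem (hAR hu))
    have h3 : V ⊓ 𝐍[R] ≤ 𝐂[R] := le_centralizer_of_inf_eq_bot inf_le_right
      (le_normalizer_inf (hN _) (le_normalizer.trans le_normalizer))
      (eq_bot_iff.2 ((inf_le_inf_right R inf_le_left).trans
        (Sig.inf_eq_bot_of_not_dvd hV hqR).le))
    have h4 : c⁻¹ * (u * c * u⁻¹) ∈ V ⊓ 𝐂[R] := ⟨h1, h3 ⟨h1, h2⟩⟩
    rw [hVR, mem_bot, inv_mul_eq_one] at h4
    exact mul_inv_eq_iff_eq_mul.1 h4.symm
  by_contra hc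
  push Not at hc
  have key : V ≤ V ⊓ 𝐂[cj(h⁻¹, zpowers x)] ⊔ V ⊓ 𝐂[zpowers x] := by
    intro v hv
    set Y := cm x (h * v) with hY
    have hYH : Y ≤ V ⊔ R := cm_le (le_normalizer_sup (hN _) hPR (mem_zpowers x))
      (mul_mem (mem_sup_right hh) (mem_sup_left hv))
    have hRY : R ≤ Y ⊔ V := by
      rw [← hcm, cm_le_iff]
      intro u hu
      have := mul_mem (mul_mem (mem_sup_right hv : v ∈ Y ⊔ V) (mem_sup_left (mem_cm (h * v) hu)))
        (mem_sup_right (hVn.conj_mem _ (inv_mem hv) u))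
      convert this using 1
      group
    have hBV : Y ⊔ zpowers x ⊔ V = A ⊔ V := by
      rw [hAV, eq_top_iff, ← hAV]
      exact sup_le (sup_le (hRY.trans (sup_le_sup_right le_sup_left V))
        (le_sup_right.trans le_sup_left)) le_sup_right
    rcases FixDim.supplement_dichotomy hqr hV hR le_sup_left hAR (hN _) (fun U hU hAU => by
      have : U.Normal := by
        rw [← normalizer_eq_top_iff, eq_top_iff, ← hAV]
        exact sup_le hAU ((hVc.trans (centralizer_anti hU.le)).trans (centralizer_le_normalizer' U))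
      rw [(hmin U this hU.le).resolve_right hU.ne]; exact bot_le) hcomm
      (by rw [commutator_eq_bot_iff_le_centralizer.2 hVc]; exact bot_le) hBV with h1 | ⟨y, hy, h1⟩
    · have h2 : V ≤ Y := fun w hw => mem_of_mem_sup hP (zpowers_le_normalizer_cm _ _) (h1 hw)
        (orderOf_coprime_of_mem hVp hw)
      exact absurd (sup_le h2 (hRY.trans (sup_le le_rfl h2))) (hc v hv)
    rw [normalizer_cj] at h1
    have a1 : y ∈ 𝐂[zpowers x] := fun u hu =>
      hNC y hy u (mem_sup_right hu) (mem_cj.1 (h1 (mem_sup_right hu)))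
    have a2 : v * y ∈ 𝐂[cj(h⁻¹, zpowers x)] := by
      intro u' hu'
      obtain ⟨u, hu, rfl⟩ := mem_cj_iff_exists.1 hu'
      refine hNC _ (mul_mem hv hy) _ (cj_le_of_mem le_sup_right (mem_sup_left (inv_mem hh)) hu') ?_
      have := mem_cj.1 (h1 (mul_mem (mem_sup_left (mem_cm (h * v) hu)) (mem_sup_right hu)))
      convert this using 1
      group
    simpa using mul_mem (mem_sup_left ⟨mul_mem hv hy, a2⟩ :
      _ ∈ V ⊓ 𝐂[cj(h⁻¹, zpowers x)] ⊔ V ⊓ 𝐂[zpowers x]) (mem_sup_right (inv_mem ⟨hy, a1⟩))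
  have hx1 : x ≠ 1 := by
    rintro rfl
    have : R = ⊥ := by simpa using hRx
    rw [this] at hVR
    exact hV1 (by simpa using hVR)
  have hord : orderOf x = p := orderOf_eq_prime hx hx1
  have k1 := card_sup_mul_card_inf (A := V ⊓ 𝐂[cj(h⁻¹, zpowers x)]) (B := V ⊓ 𝐂[zpowers x])
    (inf_le_left.trans ((hVc.trans (centralizer_anti inf_le_left)).trans
      (centralizer_le_normalizer' _)))
  have k2 : Nat.card ↥(V ⊓ 𝐂[cj(h⁻¹, zpowers x)]) = Nat.card ↥(V ⊓ 𝐂[zpowers x]) := by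
    rw [centralizer_cj, ← card_cj h⁻¹ (V ⊓ 𝐂[zpowers x]), cj_inf, cj_of_normal _ V]
  have k3 := card_le_card_of_le key
  have hcA : Nat.card A ∣ Nat.card R * Nat.card (zpowers x) := by
    rw [hA, sup_comm, mul_comm, ← card_sup_mul_card_inf hPR]; exact Dvd.intro _ rfl
  have k4 := Solv.Wielandt.frobenius_fixed_formula R (zpowers x) hPR (Solv.isSolvable_of_isPGroup hR)
    (fun e he he1 u hu h => by
      have h1 : orderOf e = p := orderOf_eq_prime (by
        obtain ⟨k, rfl⟩ := mem_zpowers_iff.1 he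
        rw [← zpow_natCast, ← zpow_mul, mul_comm, zpow_mul, zpow_natCast, hx, one_zpow]) he1
      have : u ∈ R ⊓ 𝐂[zpowers x] := ⟨hu, by
        rw [← zpowers_eq_of_mem hord h1 he, Amb.centralizer_zpowers]
        exact mem_centralizer_singleton_iff.2 h.symm⟩
      rwa [hRx, mem_bot] at this) V (hN _) (Solv.isSolvable_of_isPGroup hV)
    (Nat.Coprime.coprime_dvd_right hcA (Nat.Coprime.mul_right (Sig.cop_of_isPGroup hV hqR)
      (Sig.cop_of_isPGroup hP hVp).symm))
  rw [hVR, eq_bot_iff.2 (hVR ▸ inf_le_inf_left V (centralizer_anti le_sup_left) :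
    V ⊓ 𝐂[R ⊔ zpowers x] ≤ ⊥), card_bot, one_pow, one_mul, mul_one, Nat.card_zpowers, hord] at k4
  rw [k2] at k1
  have k5 : 1 < Nat.card V := (one_lt_card_iff_ne_bot V).2 hV1
  have k6 : 0 < Nat.card ↥(V ⊓ 𝐂[cj(h⁻¹, zpowers x)] ⊓ (V ⊓ 𝐂[zpowers x])) := Nat.card_pos
  generalize Nat.card ↥(V ⊓ 𝐂[zpowers x]) = c at *
  have k7 : c ^ p ≤ c ^ 2 := by rw [← k4]; nlinarith
  have k8 : 1 < c := by
    by_contra hc
    have : c ^ p ≤ 1 := by
      calc c ^ p ≤ 1 ^ p := Nat.pow_le_pow_left (by omega) p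
        _ = 1 := one_pow p
    omega
  have := (Nat.pow_le_pow_iff_right k8).1 k7
  have := hp.out.two_le
  omega

theorem step (hp2 : p ≠ 2) {x : G} (hx : x ^ p = 1) {H : Subgroup G} [hHn : H.Normal]
    (htop : H ⊔ zpowers x = ⊤) (hH : ¬ p ∣ Nat.card H) (hs : Group.IsSolvable H)
    (hc : ⁅H, zpowers x⁆ = H)
    (ha : ∀ N : Subgroup G, N.Normal → N ≤ H → N ≠ ⊥ →
      H ⊓ 𝐂[zpowers x] ≤ DD x H ⊔ N ⊓ 𝐂[zpowers x])
    (hb : ∀ Y : Subgroup G, Y < H → x ∈ 𝐍[Y] → ⁅Y, zpowers x⁆ ⊓ 𝐂[zpowers x] ≤ DD x H) :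
    H ⊓ 𝐂[zpowers x] ≤ DD x H := by
  have hP : IsPGroup p (zpowers x) := isPGroup_zpowers ⟨1, by simpa using hx⟩
  have hsP := Solv.isSolvable_of_isPGroup hP
  have hnorm : ∀ {K : Subgroup G}, H ≤ 𝐍[K] → zpowers x ≤ 𝐍[K] → K.Normal := fun h1 h2 => by
    rw [← normalizer_eq_top_iff, eq_top_iff, ← htop]; exact sup_le h1 h2
  set C := H ⊓ 𝐂[zpowers x] with hC
  by_contra hcon
  have hcon' : ¬ C ≤ DD x H ⊔ ⁅C, C⁆ := fun h => hcon
    (le_of_le_sup_commutator (Grp.isSolvable_of_le inf_le_left) (le_normalizer_DD x H) h)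
  have c1 : ∀ Y : Subgroup G, Y < H → x ∈ 𝐍[Y] → ∀ N : Subgroup G, N.Normal →
      N ≤ ⁅Y, zpowers x⁆ → N = ⊥ := by
    intro Y hY hxY N hN hle
    by_contra h1
    exact hcon ((ha N hN (hle.trans ((commutator_mono hY.le le_rfl).trans hc.le)) h1).trans
      (sup_le le_rfl ((inf_le_inf_right _ hle).trans (hb Y hY hxY))))
  have c2 : ∀ Y : Subgroup G, Y < H → Y.Normal → ⁅Y, Y⁆ = ⊥ := by
    intro Y hY hYn
    by_contra h1
    refine hcon' ((ha _ inferInstance ((commutator_le_self Y).trans hY.le) h1).trans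
      (sup_le le_sup_left ?_))
    have h2 := Solv.coprime_commutator_sup_centralizer (zpowers x) Y
      (le_normalizer_of_normal' hYn _) (Sig.cop_of_isPGroup hP (Sig.not_dvd_of_le hY.le hH))
      (Or.inl hsP)
    have hn : Y ⊓ 𝐂[zpowers x] ≤ 𝐍[⁅Y, zpowers x⁆] :=
      inf_le_left.trans (Solv.le_normalizer_commutator_left _ _)
    have h3 := commutator_sup_self_le hn
    rw [h2] at h3
    rintro v ⟨hv, hv'⟩
    obtain ⟨m, hm, c, hc', rfl⟩ := (mem_sup_of_le_normalizer_left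
      ((commutator_le_self _).trans hn)).1 (h3 hv)
    refine mul_mem (mem_sup_left (hb Y hY (le_normalizer_of_normal' hYn ⊤ trivial) ⟨hm, ?_⟩))
      (mem_sup_right (commutator_mono (inf_le_inf_right _ hY.le) (inf_le_inf_right _ hY.le) hc'))
    simpa using Subgroup.mul_mem _ hv' (Subgroup.inv_mem _ (commutator_le_self _ hc').2)
  have hfull : ∀ h ∈ H, ¬ H ≤ cm x h := fun h hh hle =>
    hcon ((inf_le_inf_right _ hle).trans (le_DD hh))
  have hH1 : H ≠ ⊥ := fun e => hcon (by rw [hC, e, bot_inf_eq]; exact bot_le)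
  obtain ⟨Y, -, hYH, -, hYn, hmax⟩ := ChiefAct.exists_chief_below (bot_lt_iff_ne_bot.2 hH1)
  have hYc := c2 Y hYH hYn
  have hYab : IsMulCommutative Y :=
    le_centralizer_iff_isMulCommutative.1 (commutator_eq_bot_iff_le_centralizer.1 hYc)
  have hder : ⁅H, H⁆ ≤ Y := by
    rcases hmax (Y ⊔ ⁅H, H⁆) inferInstance le_sup_left
      (sup_le hYH.le (commutator_le_self H)) with e | e
    · exact e ▸ le_sup_right
    · exact absurd (le_of_le_sup_commutator hs (le_normalizer_of_normal' hYn _) e.ge) hYH.not_ge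
  have hover : ∀ K : Subgroup G, K ≤ H → zpowers x ≤ 𝐍[K] → K ≤ Y ∨ Y ⊔ K = H := by
    intro K hK hPK
    have hle : Y ⊔ K ≤ H := sup_le hYH.le hK
    exact (hmax _ (hnorm (ChiefAct.le_normalizer_of_commutator_le (hder.trans le_sup_left) hle)
      (le_normalizer_sup (le_normalizer_of_normal' hYn _) hPK)) le_sup_left hle).imp_left
      fun e => le_sup_right.trans e.le
  have hcmY : ∀ h ∈ H, cm x h ≤ Y → h ∈ Y := by
    intro h hh hle
    obtain ⟨n, hn, hn'⟩ := Solv.coprime_fixed_coset' (zpowers x) Y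
      (le_normalizer_of_normal' hYn _) (Sig.cop_of_isPGroup hP (Sig.not_dvd_of_le hYH.le hH))
      (Or.inl hsP) h (cm_le_iff.1 hle)
    rcases hover C inf_le_left ((le_centralizer_iff.1 inf_le_right).trans (centralizer_le_normalizer' C)) with e | e
    · simpa using mul_mem (e ⟨mul_mem hh (hYH.le hn), hn'⟩) (inv_mem hn)
    · refine absurd ?_ hYH.not_ge
      rw [← hc, ← e]
      refine (commutator_sup_le (le_normalizer_of_normal' hYn _)
        (le_normalizer_of_normal' hYn _)).trans (sup_le le_rfl ?_)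
      rw [commutator_eq_bot_iff_le_centralizer.2 inf_le_right]; exact bot_le
  obtain ⟨r, hr, hrd⟩ : ∃ r : ℕ, r.Prime ∧ r ∣ Y.relIndex H :=
    Nat.exists_prime_and_dvd fun e => hYH.not_ge (relIndex_eq_one.1 e)
  have := Fact.mk hr
  obtain ⟨S, hS⟩ := Solv.exists_invariant_sylow (zpowers x) H (le_normalizer_of_normal' hHn _)
    (Sig.cop_of_isPGroup hP hH) (Or.inl hsP) r
  have hR := isSyl_map_subtype S
  set R := (S : Subgroup H).map H.subtype with hRdef
  have hYR : Y ⊔ R = H := (hover R hR.le hS).resolve_left fun h =>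
    hR.not_dvd_relIndex (hrd.trans (relIndex_dvd_of_le_left H h))
  have hYnil := Grp.isNilpotent_of_isMulCommutative Y
  set O := 𝐎[r, Y] with hO
  have hOY : O ≤ Y := pRes_le r Y
  have hOn : O.Normal := by
    rw [← normalizer_eq_top_iff, eq_top_iff]
    exact (le_normalizer_of_normal' hYn ⊤).trans (normalizer_le_normalizer_pRes r Y)
  have hOr : ¬ r ∣ Nat.card O := not_dvd_of_coprime (Solv.NA.coprime_card_pRes hYnil)
  have hZn : (pCoreOf r Y).Normal := by
    rw [← normalizer_eq_top_iff, eq_top_iff]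
    exact (le_normalizer_of_normal' hYn ⊤).trans (normalizer_le_normalizer_pCoreOf r Y)
  have hZR : pCoreOf r Y ≤ R := hR.le_of_le_normalizer (isPGroup_pCoreOf r Y)
    ((pCoreOf_le r Y).trans hYH.le) (le_normalizer_of_normal' hZn _)
  have hOR : O ⊔ R = H := by
    rw [← hYR, ← Solv.NA.pRes_sup_pCoreOf (p := r) hYnil, sup_assoc, sup_eq_right.2 hZR]
  have hdis : R ⊓ O = ⊥ := Sig.inf_eq_bot_of_not_dvd hR.pgrp hOr
  have hRP : ⁅R, zpowers x⁆ ≤ R := Solv.commutator_le_of_le_normalizer hS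
  have hRc : R ≤ ⁅R, zpowers x⁆ := by
    have h1 : R ≤ ⁅R, zpowers x⁆ ⊔ O := by
      refine hR.le.trans ?_
      rw [← hc, ← hOR, sup_comm _ O]
      exact commutator_sup_le (le_normalizer_of_normal' hOn _) (le_normalizer_of_normal' hOn _)
    have h2 := sup_inf_of_le_normalizer hRP (le_normalizer_of_normal' hOn _)
    rw [inf_comm O, hdis, sup_bot_eq] at h2
    exact h2 ▸ le_inf h1 le_rfl
  by_cases hO1 : O = ⊥
  · -- `H` is an `r`-group of class at most two
    rw [hO1, bot_sup_eq] at hOR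
    have hHr : IsPGroup r H := hOR ▸ hR.pgrp
    obtain ⟨h, hh, hhY⟩ := SetLike.exists_of_lt hYH
    have hK : cm x h ≤ H := cm_le (le_normalizer_of_normal' hHn ⊤ trivial) hh
    have h1 := (hover _ hK (zpowers_le_normalizer_cm x h)).resolve_left fun e => hhY (hcmY h hh e)
    have hle : cm x h ⊔ ⁅H, H⁆ ≤ H := sup_le hK (commutator_le_self H)
    have h2 := c2 _ (lt_of_le_of_ne hle fun e => hfull h hh (eq_of_sup_commutator hHr hK e.ge).ge)
      (hnorm (ChiefAct.le_normalizer_of_commutator_le le_sup_right hle)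
        (le_normalizer_sup (zpowers_le_normalizer_cm x h) (le_normalizer_of_normal' inferInstance _)))
    refine hcon (class_two hp2 hx htop hH hc ?_)
    conv_rhs => rw [← h1, Amb.centralizer_sup]
    exact le_inf (hder.trans (commutator_eq_bot_iff_le_centralizer.1 hYc)) (le_sup_right.trans
      ((commutator_eq_bot_iff_le_centralizer.1 h2).trans (centralizer_anti le_sup_left)))
  have hRH : R < H := lt_of_le_of_ne hR.le fun e =>
    hO1 (by rw [← hdis, e]; exact (inf_eq_right.2 (hOY.trans hYH.le)).symm)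
  have hZ : pCoreOf r Y = ⊥ := c1 R hRH (hS (mem_zpowers x)) _ hZn (hZR.trans hRc)
  have hYO : Y = O := by rw [← Solv.NA.pRes_sup_pCoreOf (p := r) hYnil, hZ, sup_bot_eq]
  have hOab : IsMulCommutative O := hYO ▸ hYab
  by_cases hOR1 : ⁅O, R⁆ = ⊥
  · have hcent := commutator_eq_bot_iff_le_centralizer.1 hOR1
    have hRn : O ≤ 𝐍[R] := hcent.trans (centralizer_le_normalizer' R)
    refine hO1 (c1 O (lt_of_le_of_lt hOY hYH) (le_normalizer_of_normal' hOn ⊤ trivial) O hOn
      fun y hy => mem_of_mem_sup hR.pgrp ?_ ?_ (orderOf_coprime_of_mem hOr hy))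
    · exact ((le_centralizer_iff.1 hcent).trans (centralizer_anti (commutator_le_left _ _))).trans
        (centralizer_le_normalizer' _)
    · have h1 : H ≤ ⁅O, zpowers x⁆ ⊔ R := by
        rw [← hc, ← hOR, sup_comm O, sup_comm _ R]
        exact commutator_sup_le hRn hS
      exact h1 (hYH.le (hOY hy))
  have hWn : (⁅O, R⁆).Normal := hnorm (by
    rw [← hOR]
    exact sup_le (Solv.le_normalizer_commutator_left _ _) (Solv.le_normalizer_commutator_right _ _))
    (le_normalizer_commutator (le_normalizer_of_normal' hOn _) hS)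
  have hWO : ⁅O, R⁆ ≤ O := commutator_le_left _ _
  have : Group.IsSolvable ↥⁅O, R⁆ := Grp.isSolvable_of_le (hWO.trans (hOY.trans hYH.le))
  obtain ⟨q, V, hq, hVn, hV1, hVW, hVc, -, hVq, hmin⟩ :=
    Grp.exists_minNormal_elementaryAbelian_le ⁅O, R⁆ hOR1
  have := Fact.mk hq
  have hVO : V ≤ O := hVW.trans hWO
  have hqr : q ≠ r := by
    rintro rfl
    exact hV1 (Sig.eq_bot_of_isPGroup_of_not_dvd hVq (Sig.not_dvd_of_le hVO hOr))
  have hVR : V ⊓ 𝐂[R] = ⊥ := by
    rw [eq_bot_iff, ← Solv.coprime_centralizer_inf_commutator R O (le_normalizer_of_normal' hOn _)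
      (Sig.cop_of_isPGroup hR.pgrp hOr)]
    exact le_inf (inf_le_inf_right _ hVO) (inf_le_left.trans hVW)
  have hVRH : V ⊔ R = H := by
    have hle : V ⊔ R ≤ H := sup_le (hVO.trans (hOY.trans hYH.le)) hR.le
    refine hle.eq_or_lt.resolve_right fun hlt => hV1 (c1 _ hlt
      (le_normalizer_sup (le_normalizer_of_normal' hVn _) hS (mem_zpowers x)) V hVn ?_)
    have h1 := Solv.coprime_commutator_sup_centralizer R V (le_normalizer_of_normal' hVn _)
      (Sig.cop_of_isPGroup hR.pgrp (Sig.not_dvd_of_le hVO hOr))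
      (Or.inl (Solv.isSolvable_of_isPGroup hR.pgrp))
    rw [hVR, sup_bot_eq] at h1
    rw [← h1]
    have h2 : R ≤ ⁅V ⊔ R, zpowers x⁆ := hRc.trans (commutator_mono le_sup_right le_rfl)
    rw [h1]
    conv_lhs => rw [← h1, commutator_comm]
    exact (commutator_mono h2 le_rfl).trans (Solv.commutator_le_of_le_normalizer
      (le_sup_left.trans (Solv.le_normalizer_commutator_left _ _)))
  have hRY : R ⊓ Y = ⊥ := hYO ▸ hdis
  have hRab : IsMulCommutative R := by
    rw [← le_centralizer_iff_isMulCommutative, ← commutator_eq_bot_iff_le_centralizer, eq_bot_iff,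
      ← hRY]
    exact le_inf (commutator_le_self R) ((commutator_mono hR.le hR.le).trans hder)
  have hRx : R ⊓ 𝐂[zpowers x] = ⊥ := by
    rw [eq_bot_iff, ← Solv.coprime_centralizer_inf_commutator (zpowers x) R hS
      (Sig.cop_of_isPGroup hP (Sig.not_dvd_of_le hR.le hH))]
    exact le_inf le_rfl (inf_le_left.trans hRc)
  obtain ⟨⟨h, hh⟩, hh1⟩ := ne_bot_iff_exists_ne_one.1 (show R ≠ ⊥ from fun e => hOR1 (by simp [e]))
  have hK : cm x h ≤ R := cm_le (hS (mem_zpowers x)) hh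
  have hcm : cm x h = R := by
    have h1 := (hover _ (hK.trans hR.le) (zpowers_le_normalizer_cm x h)).resolve_left fun e => by
      have : h ∈ R ⊓ Y := ⟨hh, hcmY h (hR.le hh) e⟩
      rw [hRY, mem_bot] at this
      exact hh1 (Subtype.ext this)
    have h2 := sup_inf_of_le_normalizer hK (le_normalizer_of_normal' hYn _)
    rwa [inf_comm Y, hRY, sup_bot_eq, sup_comm, h1, inf_eq_right.2 hR.le, eq_comm] at h2
  obtain ⟨v, hv, h1⟩ := frob_case hp2 hqr hx (by rw [hVRH, htop]) (hVRH ▸ hH) hVq hR.pgrp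
    (le_centralizer_iff_isMulCommutative.2 hVc) hV1 hmin (hS (mem_zpowers x)) hVR hRx hh hcm
  exact hfull _ (mul_mem (hR.le hh) (hYH.le (hOY (hVO hv)))) (hVRH ▸ h1)

universe u

omit [Finite G] in
/-- **Flavell**: `C_{[H,x]}(x) = ⟨C_{[h,x]}(x) | h ∈ H⟩`, ambient form. -/
theorem main (hp2 : p ≠ 2) (G : Type u) [Group G] [Finite G] (x : G) (hx : x ^ p = 1)
    (H : Subgroup G) (hxH : x ∈ 𝐍[H]) (hH : ¬ p ∣ Nat.card H) (hs : Group.IsSolvable H) :
    ⁅H, zpowers x⁆ ⊓ 𝐂[zpowers x] ≤ DD x H := by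
  induction hn : Nat.card H using Nat.strong_induction_on generalizing G with
  | _ n ih =>
  have hP : IsPGroup p (zpowers x) := isPGroup_zpowers ⟨1, by simpa using hx⟩
  have hPH : zpowers x ≤ 𝐍[H] := zpowers_le.2 hxH
  have hle : ⁅H, zpowers x⁆ ≤ H := Solv.commutator_le_of_le_normalizer hPH
  rcases hle.eq_or_lt with hc | hlt
  swap
  · have := ih _ (hn ▸ Grp.card_lt_of_lt hlt) G x hx _
      (Solv.le_normalizer_commutator_right _ _ (mem_zpowers x)) (Sig.not_dvd_of_le hle hH)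
      (Grp.isSolvable_of_le hle) rfl
    rw [Solv.coprime_commutator_commutator _ _ hPH (Sig.cop_of_isPGroup hP hH) (Or.inr hs)] at this
    exact this.trans (DD_mono hle)
  set L := H ⊔ zpowers x with hL
  have hHL : H ≤ L := le_sup_left
  have hxL : x ∈ L := mem_sup_right (mem_zpowers x)
  set x' : L := ⟨x, hxL⟩ with hx'
  set H' := H.subgroupOf L with hH'
  have hmapH : H'.map L.subtype = H := map_subgroupOf_of_le hHL
  have hmapx : (zpowers x').map L.subtype = zpowers x := MonoidHom.map_zpowers _ _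
  have hn' : H'.Normal := normal_subgroupOf' (sup_le le_normalizer hPH)
  have hx1 : x' ^ p = 1 := Subtype.ext hx
  have hcard : Nat.card H' = Nat.card H := card_subgroupOf_of_le hHL
  have hH1 : ¬ p ∣ Nat.card H' := hcard ▸ hH
  have hs' : Group.IsSolvable H' :=
    Group.isSolvable_of_surjective (f := (subgroupOfEquivOfLe hHL).symm.toMonoidHom)
      (subgroupOfEquivOfLe hHL).symm.surjective
  have hc' : ⁅H', zpowers x'⁆ = H' := map_injective L.subtype_injective (by
    rw [map_commutator, hmapH, hmapx, hc])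
  have key := step hp2 hx1 (H := H') (map_injective L.subtype_injective (by
    rw [Subgroup.map_sup, hmapH, hmapx, ← MonoidHom.range_eq_map, range_subtype])) hH1 hs' hc'
    (fun N hN hNH hN1 => ?_) (fun Y hY hxY => ?_)
  · rw [hc, ← hmapH, ← hmapx, ← map_inf_centralizer_of_injective L.subtype_injective]
    refine (map_mono key).trans (map_le_iff_le_comap.2 (iSup₂_le fun h hh =>
      map_le_iff_le_comap.1 ?_))
    rw [map_inf_centralizer_of_injective L.subtype_injective, map_cm, hmapx]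
    exact le_DD (mem_map_of_mem _ hh)
  · set f := QuotientGroup.mk' N with hf
    have h1 := ih (Nat.card (H'.map f)) (by
      rw [← hn, ← hcard, ← Grp.card_map_mul_card_inf_ker f H', QuotientGroup.ker_mk',
        inf_eq_right.2 hNH]
      exact lt_mul_of_one_lt_right Nat.card_pos ((one_lt_card_iff_ne_bot N).2 hN1)) _ (f x')
      (by rw [← map_pow, hx1, map_one]) (H'.map f)
      (le_normalizer_of_normal' (hn'.map f (QuotientGroup.mk'_surjective N)) ⊤ trivial)
      (fun h => hH1 (h.trans (card_map_dvd _ _))) (Grp.isSolvable_map H' f) rfl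
    rw [← MonoidHom.map_zpowers, ← map_commutator, hc'] at h1
    have h2 := (h1.trans (map_DD f hx1 (le_normalizer_of_normal' hn' ⊤ trivial) hH1))
    intro c hc
    obtain ⟨d, hd, e⟩ := h2 (x := f c) ⟨mem_map_of_mem f hc.1, by
      rintro _ ⟨u, hu, rfl⟩
      rw [← map_mul, ← map_mul, hc.2 u hu]⟩
    have h3 : d⁻¹ * c ∈ N := QuotientGroup.eq.1 e
    simpa using mul_mem (mem_sup_left hd : d ∈ DD x' H' ⊔ N ⊓ 𝐂[zpowers x'])
      (mem_sup_right ⟨h3, Subgroup.mul_mem _ (Subgroup.inv_mem _ (DD_le_cent _ _ hd)) hc.2⟩)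
  · exact (ih _ (hn ▸ hcard ▸ Grp.card_lt_of_lt hY) _ x' hx1 Y hxY (Sig.not_dvd_of_le hY.le hH1)
      (Grp.isSolvable_of_le hY.le) rfl).trans (DD_mono hY.le)

end Cfsg.Agent.FixGen
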