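import Mathlib
import Cfsg.Agent.MinS.TwoGen2
import Cfsg.Agent.Solv.FpfThompson
import Cfsg.Agent.Solv.CoprimeSylow
import Cfsg.Agent.Char.Frobenius

/-! Groups in which every two elements generate a solvable subgroup, part 3: the case of `p`-rank
one (the maximal subgroups through subgroups of order `p` form a linear space), and the theorem. -/

set_option autoImplicit false
set_option linter.unusedSectionVars false

namespace Cfsg.Agent.TwoGen

open Subgroup Cfsg Cfsg.Agent.PLocal Cfsg.Agent.PLocal.Amb Cfsg.Agent.GW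
open scoped commutatorElement

variable {G : Type*} [Group G] {p : ℕ}

/-- every `p`-subgroup has at most one subgroup of order `p` -/
def RankOne (p : ℕ) (G : Type*) [Group G] : Prop :=
  ∀ R : Subgroup G, IsPGroup p R → ∀ a ∈ R, ∀ b ∈ R, orderOf a = p → b ^ p = 1 → b ∈ zpowers a

theorem RankOne.subgroup (hU : RankOne p G) (H : Subgroup G) : RankOne p H := by
  intro R hR a ha b hb hao hbo
  have := hU (R.map H.subtype) (hR.map _) a (mem_map_subtype.2 ha) b (mem_map_subtype.2 hb)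
    (by rw [Subgroup.orderOf_coe, hao]) (by rw [← Subgroup.coe_pow, hbo]; rfl)
  obtain ⟨k, hk⟩ := mem_zpowers_iff.1 this
  exact mem_zpowers_iff.2 ⟨k, Subtype.ext (by simpa using hk)⟩

theorem RankOne.normalizer_le (hU : RankOne p G) {R : Subgroup G} (hR : IsPGroup p R) {a : G}
    (ha : orderOf a = p) (haR : a ∈ R) : 𝐍[R] ≤ 𝐍[zpowers a] := by
  rw [le_normalizer_iff_cj]
  intro g hg
  rw [cj_zpowers, zpowers_le]
  refine hU R hR a haR _ (conj_mem_of_mem_normalizer hg haR) ha ?_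
  rw [conj_pow, ← ha, pow_orderOf_eq_one]; simp

variable [Finite G] [hp : Fact p.Prime]

theorem RankOne.mem_of_normalizes (hU : RankOne p G) {R : Subgroup G} (hR : IsPGroup p R)
    (h1 : R ≠ ⊥) {a : G} (ha : orderOf a = p) (haR : a ∈ 𝐍[R]) : a ∈ R := by
  obtain ⟨b, hbR, hb⟩ := exists_orderOf_eq_of_ne_bot hR h1
  have h2 := isPGroup_sup (isPGroup_zpowers_of_orderOf ha) hR (zpowers_le.2 haR)
  exact zpowers_le.2 hbR (hU _ h2 b (mem_sup_right hbR) a (mem_sup_left (mem_zpowers a)) hb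
    (by rw [← ha, pow_orderOf_eq_one]))

theorem zpowers_ne_bot_of_orderOf {a : G} (ha : orderOf a = p) : zpowers a ≠ ⊥ := by
  rw [Ne, zpowers_eq_bot, ← orderOf_eq_one_iff, ha]; exact hp.out.ne_one

theorem RankOne.mem_zpowers (hU : RankOne p G) {a b : G} (ha : orderOf a = p) (hb : orderOf b = p)
    (h : b ∈ 𝐍[zpowers a]) : b ∈ zpowers a :=
  hU.mem_of_normalizes (isPGroup_zpowers_of_orderOf ha) (zpowers_ne_bot_of_orderOf ha) hb h

/-- `G = O_{p'}(G) N(a)` in a `p`-constrained group of `p`-rank one. -/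
theorem RankOne.exists_mul (hU : RankOne p G) (hc : IsPConstrained p G) {a : G}
    (ha : orderOf a = p) (g : G) : ∃ q ∈ pPrimeCore p G, ∃ n ∈ 𝐍[zpowers a], g = q * n := by
  obtain ⟨T₀, hT₀, haT⟩ := exists_isSyl_ge (isPGroup_zpowers_of_orderOf ha) (le_top : _ ≤ ⊤)
  have hKn : (pPrimePCore p G).Normal := by unfold pPrimePCore; infer_instance
  have hT : IsSyl p (T₀ ⊓ pPrimePCore p G) (pPrimePCore p G) :=
    hT₀.inf_of_le le_top (by rw [normalizer_eq_top])
  set T := T₀ ⊓ pPrimePCore p G with hTdef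
  have hK := PCA.pPrimePCore_eq_sup_of_isSyl hT
  have hT1 : T ≠ ⊥ := by
    intro e
    have h1 := PCA.IsPConstrained.centralizer_le hc hT
    rw [hK, e, bot_sup_eq] at h1
    have h2 : a ∈ pPrimeCore p G := h1 (by intro y hy; simp at hy; simp [hy])
    have h3 := eq_one_of_mem_of_mem (isPGroup_zpowers_of_orderOf ha)
      (not_dvd_of_coprime (Grp.coprime_of_le_pPrimeCore le_rfl)) (Subgroup.mem_zpowers a) h2
    exact zpowers_ne_bot_of_orderOf ha (by simp [h3])
  have haN : a ∈ 𝐍[T] := le_normalizer_inf (L := T₀) le_normalizer (by rw [normalizer_eq_top]; exact le_top)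
    (haT (Subgroup.mem_zpowers a))
  have hN := hU.normalizer_le hT.pgrp ha (hU.mem_of_normalizes hT.pgrp hT1 ha haN)
  obtain ⟨n, hn, x, hx, rfl⟩ := hT.frattini (g := g) (by rw [normalizer_eq_top]; trivial)
  rw [hK, sup_comm, mem_sup_of_le_normalizer_left (by rw [normalizer_eq_top]; exact le_top)] at hn
  obtain ⟨q, hq, t, ht, rfl⟩ := hn
  exact ⟨q, hq, t * x, hN (mul_mem (le_normalizer ht) hx), mul_assoc _ _ _⟩

/-- `H` is a maximal subgroup containing `a` and not normalizing `⟨a⟩` -/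
structure Line (H : Subgroup G) (a : G) : Prop where
  coatom : IsCoatom H
  mem : a ∈ H
  nle : ¬ H ≤ 𝐍[zpowers a]

namespace MC

section
variable (h : MC G) (hp2 : p ≠ 2) (hU : RankOne p G) {a : G} (ha : orderOf a = p)
include h hp2 hU ha

theorem isPGroup_cent : IsPGroup p 𝐂[zpowers a] := by
  have hP := isPGroup_zpowers_of_orderOf ha
  have hP1 := zpowers_ne_bot_of_orderOf ha
  have hc := charP_iff.1 (h.charP (h.centralizer_ne_top hP hP1) (h.ppcOf_centralizer hP hP1))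
  have hle : zpowers a ≤ 𝐂[zpowers a] := by
    rw [Amb.centralizer_zpowers, zpowers_le, mem_centralizer_singleton_iff]
  have haR : a ∈ pCoreOf p 𝐂[zpowers a] :=
    le_pCoreOf hP hle (centralizer_le_normalizer' _) (Subgroup.mem_zpowers a)
  refine isPGroup_of_forall_coprime fun y hy hyo => ?_
  have h1 : omegaOne p (pCoreOf p 𝐂[zpowers a]) ≤ zpowers a :=
    omegaOne_le_iff.2 fun x hx hxp => hU _ (isPGroup_pCoreOf _ _) a haR x hx ha hxp
  obtain ⟨k, hk⟩ := exists_pow_mem_centralizer_of_mem_centralizer_omegaOne hp2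
    (isPGroup_pCoreOf p 𝐂[zpowers a]) (le_normalizer_pCoreOf p _ hy) (centralizer_anti h1 hy)
  exact eq_one_of_isPGroup_of_coprime (isPGroup_pCoreOf _ _)
    (hc ⟨hy, mem_of_pow_mem_of_coprime hk (hyo.pow_right k)⟩) hyo

theorem inf_cent_eq_bot {Y : Subgroup G} (hY : ¬ p ∣ Nat.card Y) : Y ⊓ 𝐂[zpowers a] = ⊥ := by
  rw [inf_comm]; exact Sig.inf_eq_bot_of_not_dvd (h.isPGroup_cent hp2 hU ha) hY

theorem eq_one_of_normalizes {Y : Subgroup G} (hY : ¬ p ∣ Nat.card Y) (haY : a ∈ 𝐍[Y]) {y : G}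
    (hy : y ∈ Y) (hn : y ∈ 𝐍[zpowers a]) : y = 1 := by
  have h1 := conj_eq_of_mem_pgroup hY haY hy (isPGroup_zpowers_of_orderOf ha)
    (Subgroup.mem_zpowers a) (conj_mem_of_mem_normalizer hn (Subgroup.mem_zpowers a))
  have h2 : y ∈ Y ⊓ 𝐂[zpowers a] := ⟨hy, by
    rw [Amb.centralizer_zpowers]
    exact mem_centralizer_singleton_iff.2 (mul_inv_eq_iff_eq_mul.1 h1)⟩
  rwa [h.inf_cent_eq_bot hp2 hU ha hY, mem_bot] at h2

theorem line_exists_mul {H : Subgroup G} (hH : Line H a) {g : G} (hg : g ∈ H) :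
    ∃ q ∈ ppcOf p H, ∃ n ∈ 𝐍[zpowers a], g = q * n := by
  obtain ⟨q, hq, n, hn, e⟩ := (hU.subgroup H).exists_mul (h.pc p hH.coatom.1) (a := ⟨a, hH.mem⟩)
    (by rw [← ha, ← Subgroup.orderOf_coe]) ⟨g, hg⟩
  rw [normalizer_eq_subgroupOf, MonoidHom.map_zpowers] at hn
  exact ⟨q, mem_map_subtype.2 hq, n, hn, congrArg Subtype.val e⟩

theorem line_ne_bot {H : Subgroup G} (hH : Line H a) : ppcOf p H ≠ ⊥ := by
  intro e
  refine hH.nle fun g hg => ?_
  obtain ⟨q, hq, n, hn, rfl⟩ := h.line_exists_mul hp2 hU ha hH hg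
  rw [e, mem_bot] at hq
  simpa [hq] using hn

theorem line_nilpotent {H : Subgroup G} (hH : Line H a) : Group.IsNilpotent (ppcOf p H) := by
  refine Solv.isNilpotent_of_inf_centralizer_eq_bot _ (le_normalizer_ppcOf p H hH.mem) hp.out
    (by rw [← ha, pow_orderOf_eq_one]) ?_
  rw [← Amb.centralizer_zpowers]
  exact h.inf_cent_eq_bot hp2 hU ha (not_dvd_ppcOf H)

theorem line_le {H Y : Subgroup G} (hH : Line H a) (hY : ¬ p ∣ Nat.card Y) (haY : a ∈ 𝐍[Y])
    (hYH : Y ≤ H) : Y ≤ ppcOf p H := by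
  have hP := isPGroup_zpowers_of_orderOf ha
  have hPY : zpowers a ≤ 𝐍[Y] := zpowers_le.2 haY
  have h1 := Solv.coprime_commutator_sup_centralizer (zpowers a) Y hPY
    (Sig.cop_of_isPGroup hP hY) (Or.inl (Solv.isSolvable_of_isPGroup hP))
  rw [h.inf_cent_eq_bot hp2 hU ha hY, sup_bot_eq] at h1
  rw [← h1, commutator_le]
  intro y hy u hu
  have h2 : ⁅y, u⁆ ∈ Y := Solv.commutator_le_of_le_normalizer hPY (commutator_mem_commutator hy hu)
  refine mem_of_mem_sup hP (zpowers_le.2 (le_normalizer_ppcOf p H hH.mem)) ?_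
    (orderOf_coprime_of_mem hY h2)
  obtain ⟨q, hq, n, hn, rfl⟩ := h.line_exists_mul hp2 hU ha hH (hYH hy)
  have e : ⁅q * n, u⁆ = q * (n * u * n⁻¹) * q⁻¹ * u⁻¹ := by
    rw [commutatorElement_def]; group
  rw [e]
  exact mul_mem (mul_mem (mul_mem (mem_sup_left hq)
    (mem_sup_right (conj_mem_of_mem_normalizer hn hu))) (mem_sup_left (inv_mem hq)))
    (mem_sup_right (inv_mem hu))

theorem line_unique (D : Subgroup G) : D ≠ ⊥ → ∀ H₁ H₂ : Subgroup G, Line H₁ a → Line H₂ a →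
    D ≤ ppcOf p H₁ → D ≤ ppcOf p H₂ → H₁ = H₂ := by
  have := h.simple
  induction D using WellFoundedGT.induction with
  | ind D ih =>
  intro hD1 H₁ H₂ hH₁ hH₂ h₁ h₂
  rcases (le_inf h₁ h₂).eq_or_lt with e | hlt
  swap
  · exact ih _ hlt (fun e => not_lt_bot (e ▸ hlt)) H₁ H₂ hH₁ hH₂ inf_le_left inf_le_right
  have hD : ¬ p ∣ Nat.card D := Sig.not_dvd_of_le h₁ (not_dvd_ppcOf _)
  have haD : a ∈ 𝐍[D] := by
    rw [e]
    exact le_normalizer_inf (L := zpowers a) (zpowers_le.2 (le_normalizer_ppcOf p _ hH₁.mem))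
      (zpowers_le.2 (le_normalizer_ppcOf p _ hH₂.mem)) (Subgroup.mem_zpowers a)
  obtain ⟨H₃, hc₃, hN⟩ := BT.exists_coatom (BT.normalizer_ne_top hD1
    (fun ht => hH₁.coatom.1 (top_le_iff.1 (ht ▸ h₁.trans (ppcOf_le p _)))))
  have hH₃ : Line H₃ a := ⟨hc₃, hN haD, fun hle => hD1 (eq_bot_iff.2 fun y hy =>
    h.eq_one_of_normalizes hp2 hU ha hD haD hy (hle (hN (le_normalizer hy))))⟩
  have key : ∀ H, Line H a → D ≤ ppcOf p H → H = H₃ := by
    intro H hH hDH
    rcases hDH.eq_or_lt with e' | hlt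
    · have : H ≤ H₃ := le_trans (e' ▸ le_normalizer_ppcOf p H) hN
      exact (hH.coatom.le_iff_eq hc₃.1).1 this |>.symm
    · have h4 := Solv.lt_inf_normalizer_of_isNilpotent (h.line_nilpotent hp2 hU ha hH) hlt
      refine ih _ h4 (fun e => not_lt_bot (e ▸ h4)) H H₃ hH hH₃ inf_le_left ?_
      refine h.line_le hp2 hU ha hH₃ (Sig.not_dvd_of_le inf_le_left (not_dvd_ppcOf _)) ?_
        (inf_le_right.trans hN)
      exact le_normalizer_inf (L := zpowers a) (zpowers_le.2 (le_normalizer_ppcOf p _ hH.mem))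
        (le_normalizer_normalizer (zpowers_le.2 haD)) (Subgroup.mem_zpowers a)
  rw [key H₁ hH₁ h₁, key H₂ hH₂ h₂]

theorem line_eq_of_mem {H₁ H₂ : Subgroup G} (hH₁ : Line H₁ a) (hH₂ : Line H₂ a) {w : G}
    (h1 : w ∈ ppcOf p H₁) (h2 : w ∈ H₂) (hw : w ≠ 1) : H₁ = H₂ := by
  refine h.line_unique hp2 hU ha (ppcOf p H₁ ⊓ H₂) (fun e => hw ?_) H₁ H₂ hH₁ hH₂ inf_le_left ?_
  · have : w ∈ ppcOf p H₁ ⊓ H₂ := ⟨h1, h2⟩
    rwa [e, mem_bot] at this
  · refine h.line_le hp2 hU ha hH₂ (Sig.not_dvd_of_le inf_le_left (not_dvd_ppcOf _)) ?_ inf_le_right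
    exact le_normalizer_inf (L := zpowers a) (zpowers_le.2 (le_normalizer_ppcOf p _ hH₁.mem))
      (zpowers_le.2 (le_normalizer hH₂.mem)) (Subgroup.mem_zpowers a)

theorem normalizer_le_line {H : Subgroup G} (hH : Line H a) : 𝐍[zpowers a] ≤ H := by
  intro n hn
  obtain ⟨⟨x, hx⟩, hx1⟩ := ne_bot_iff_exists_ne_one.1 (h.line_ne_bot hp2 hU ha hH)
  have hx1' : x ≠ 1 := fun e => hx1 (Subtype.ext e)
  have hQ := not_dvd_ppcOf (p := p) H
  have haQ := le_normalizer_ppcOf p H hH.mem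
  obtain ⟨H', hH', h1, h2, h3⟩ := h.lift ha hQ haQ hx hn
  obtain ⟨H'', hc, hle⟩ := BT.exists_coatom hH'
  have hw : x * a * x⁻¹ * a⁻¹ ∈ ppcOf p H := by
    have := mul_mem hx (conj_mem_of_mem_normalizer haQ (inv_mem hx))
    simpa [mul_assoc] using this
  have hw' : x * a * x⁻¹ * a⁻¹ ∈ H'' := hle (mul_mem h2 (inv_mem h1))
  have hw1 : x * a * x⁻¹ * a⁻¹ ≠ 1 := by
    intro e
    have h5 : x ∈ ppcOf p H ⊓ 𝐂[zpowers a] := ⟨hx, by
      rw [Amb.centralizer_zpowers]
      exact mem_centralizer_singleton_iff.2 (mul_inv_eq_iff_eq_mul.1 (mul_inv_eq_one.1 e))⟩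
    rw [h.inf_cent_eq_bot hp2 hU ha hQ, mem_bot] at h5
    exact hx1' h5
  have hH'' : Line H'' a :=
    ⟨hc, hle h1, fun hN => hw1 (h.eq_one_of_normalizes hp2 hU ha hQ haQ hw (hN hw'))⟩
  rw [h.line_eq_of_mem hp2 hU ha hH hH'' hw hw' hw1]
  exact hle h3

theorem line_inf_le {H₁ H₂ : Subgroup G} (hH₁ : Line H₁ a) (hH₂ : Line H₂ a) (hne : H₁ ≠ H₂)
    {g : G} (h1 : g ∈ H₁) (h2 : g ∈ H₂) : g ∈ 𝐍[zpowers a] := by
  obtain ⟨q, hq, n, hn, rfl⟩ := h.line_exists_mul hp2 hU ha hH₁ h1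
  have h3 : q ∈ H₂ := by
    simpa using H₂.mul_mem h2 (H₂.inv_mem (h.normalizer_le_line hp2 hU ha hH₂ hn))
  have h4 : q = 1 := by
    by_contra h4
    exact hne (h.line_eq_of_mem hp2 hU ha hH₁ hH₂ hq h3 h4)
  simpa [h4] using hn

omit hp2 in
theorem exists_line {b : G} (hb : orderOf b = p) (hab : b ∉ zpowers a) :
    ∃ H, Line H a ∧ Line H b := by
  obtain ⟨H, hc, hle⟩ := BT.exists_coatom (h.two a b)
  have h1 : a ∈ H := hle (subset_closure (by simp))
  have h2 : b ∈ H := hle (subset_closure (by simp))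
  refine ⟨H, ⟨hc, h1, fun hN => hab (hU.mem_zpowers ha hb (hN h2))⟩, ⟨hc, h2, fun hN => hab ?_⟩⟩
  rw [zpowers_eq_of_mem hb ha (hU.mem_zpowers hb ha (hN h1))]
  exact Subgroup.mem_zpowers b

theorem mem_normalizer_of_off {b c k : G} (hb : orderOf b = p) (hc : orderOf c = p)
    (hab : b ∉ zpowers a) {H₀ : Subgroup G} (hH₀ : Line H₀ a) (hbH : b ∈ H₀) (hcH : c ∉ H₀)
    (hka : k ∈ 𝐍[zpowers a]) (hkb : k ∈ 𝐍[zpowers b]) : k ∈ 𝐍[zpowers c] := by
  obtain ⟨H₁, h1a, h1c⟩ := h.exists_line hU ha hc fun e => hcH (zpowers_le.2 hH₀.mem e)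
  obtain ⟨H₂, h2b, h2c⟩ := h.exists_line hU hb hc fun e => hcH (zpowers_le.2 hbH e)
  refine h.line_inf_le hp2 hU hc h1c h2c ?_ (h.normalizer_le_line hp2 hU ha h1a hka)
    (h.normalizer_le_line hp2 hU hb h2b hkb)
  rintro rfl
  exact hab (hU.mem_zpowers ha hb
    (h.line_inf_le hp2 hU ha hH₀ h1a (fun e => hcH (e ▸ h1c.mem)) hbH h2b.mem))

theorem eq_one_of_two_points {b k : G} (hb : orderOf b = p) (hab : b ∉ zpowers a)
    (hka : k ∈ 𝐍[zpowers a]) (hkb : k ∈ 𝐍[zpowers b]) : k = 1 := by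
  have := h.simple
  have core : ∀ {X : Subgroup G} {y : G}, X ≠ ⊤ → (∀ g, g * y * g⁻¹ ∈ X) → y = 1 := by
    intro X y hX hy
    rcases (normalCore_normal X).eq_bot_or_eq_top with e | e
    · have : y ∈ X.normalCore := hy
      rwa [e, mem_bot] at this
    · exact absurd (top_le_iff.1 (e ▸ X.normalCore_le)) hX
  obtain ⟨H₀, h0a, h0b⟩ := h.exists_line hU ha hb hab
  obtain ⟨g₀, hg₀⟩ : ∃ g₀, g₀ * a * g₀⁻¹ ∉ H₀ := by
    by_contra hc
    push Not at hc
    exact zpowers_ne_bot_of_orderOf ha (by simp [core h0a.coatom.1 hc])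
  have hc₀ : orderOf (g₀ * a * g₀⁻¹) = p := by rw [orderOf_conj', ha]
  have hkc₀ := h.mem_normalizer_of_off hp2 hU ha hb hc₀ hab h0a h0b.mem hg₀ hka hkb
  have hac₀ : g₀ * a * g₀⁻¹ ∉ zpowers a := fun e => hg₀ (zpowers_le.2 h0a.mem e)
  obtain ⟨H₁, h1a, h1c⟩ := h.exists_line hU ha hc₀ hac₀
  have hall : ∀ c, orderOf c = p → k ∈ 𝐍[zpowers c] := by
    intro c hc
    by_cases h1 : c ∈ H₀
    · by_cases h2 : c ∈ zpowers a
      · rwa [zpowers_eq_of_mem ha hc h2]
      · refine h.mem_normalizer_of_off hp2 hU ha hc₀ hc hac₀ h1a h1c.mem (fun h3 => h2 ?_) hka hkc₀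
        exact hU.mem_zpowers ha hc
          (h.line_inf_le hp2 hU ha h0a h1a (fun e => hg₀ (e ▸ h1c.mem)) h1 h3)
    · exact h.mem_normalizer_of_off hp2 hU ha hb hc hab h0a h0b.mem h1 hka hkb
  refine core (h.normalizer_ne_top (isPGroup_zpowers_of_orderOf ha)
    (zpowers_ne_bot_of_orderOf ha)) fun g => ?_
  have h3 := hall (g⁻¹ * a * g⁻¹⁻¹) (by rw [orderOf_conj', ha])
  rw [← cj_zpowers, normalizer_cj, mem_cj] at h3
  simpa using h3

theorem not_rank_one : False := by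
  have := h.simple
  obtain ⟨K, -, hKn, hK⟩ := Char.exists_frobenius_kernel (H := 𝐍[zpowers a]) fun g hg t h1 h2 => by
    refine h.eq_one_of_two_points hp2 hU ha (b := g⁻¹ * a * g⁻¹⁻¹) (by rw [orderOf_conj', ha])
      (fun e => hg ?_) h1 ?_
    · have h3 := zpowers_eq_of_mem ha (by rw [orderOf_conj', ha]) e
      rw [← cj_zpowers, cj_eq_iff] at h3
      simpa using inv_mem h3
    · rw [← cj_zpowers, normalizer_cj, mem_cj]
      simpa using h2
  rcases hKn.eq_bot_or_eq_top with e | e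
  · rw [e] at hK
    exact h.normalizer_ne_top (isPGroup_zpowers_of_orderOf ha) (zpowers_ne_bot_of_orderOf ha)
      (isComplement'_bot_left.1 hK)
  · rw [e] at hK
    have h1 := isComplement'_top_left.1 hK
    exact zpowers_ne_bot_of_orderOf ha (le_bot_iff.1 (h1 ▸ le_normalizer))

end

omit hp in
theorem false (h : MC G) : False := by
  obtain ⟨p, hp, h5, hd⟩ : ∃ p : ℕ, p.Prime ∧ 5 ≤ p ∧ p ∣ Nat.card G := by
    by_contra hc
    push Not at hc
    refine h.nsolv (Char.isSolvable_of_card_dvd_pow_mul_pow (a := Nat.card G) (b := Nat.card G)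
      Nat.prime_two Nat.prime_three G ?_)
    rw [← mul_pow, Nat.dvd_iff_prime_pow_dvd_dvd]
    intro q k hq hk
    rcases Nat.eq_zero_or_pos k with rfl | hk0
    · simp
    have h1 : q ∣ Nat.card G := (dvd_pow_self q hk0.ne').trans hk
    have h2 : q < 5 := by
      by_contra h2
      exact hc q hq (by omega) h1
    have h3 : q ∣ 2 * 3 := by
      have := hq.two_le
      interval_cases q
      · norm_num
      · norm_num
      · exact absurd hq (by norm_num)
    have h4 : k ≤ Nat.card G :=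
      (Nat.lt_pow_self hq.one_lt).le.trans (Nat.le_of_dvd Nat.card_pos hk)
    exact (pow_dvd_pow_of_dvd h3 k).trans (pow_dvd_pow _ h4)
  have : Fact p.Prime := ⟨hp⟩
  by_cases hU : RankOne p G
  · obtain ⟨a, ha⟩ := exists_prime_orderOf_dvd_card' p hd
    exact h.not_rank_one (by omega) hU ha
  · unfold RankOne at hU
    push Not at hU
    obtain ⟨R, hR, a, haR, b, hbR, ha, hb, hab⟩ := hU
    obtain ⟨S, hS, hRS⟩ := exists_isSyl_ge hR (le_top : R ≤ ⊤)
    have hS1 : S ≠ ⊥ := fun e =>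
      zpowers_ne_bot_of_orderOf ha (le_bot_iff.1 (e ▸ zpowers_le.2 (hRS haR)))
    obtain ⟨z, ⟨hzS, hzC⟩, hz⟩ := exists_orderOf_eq_of_ne_bot hS.pgrp.to_inf_left
      (inf_centralizer_ne_bot hS.pgrp hS.pgrp le_normalizer hS1)
    by_cases h1 : a ∈ zpowers z
    · exact h.not_rank_two h5 hS hz hzS hzC hb (hRS hbR) (zpowers_eq_of_mem hz ha h1 ▸ hab)
    · exact h.not_rank_two h5 hS hz hzS hzC (by rw [← ha, pow_orderOf_eq_one]) (hRS haR) h1

end MC

omit [Finite G] hp in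
theorem two_subgroup (h : ∀ a b : G, Group.IsSolvable (closure ({a, b} : Set G)))
    (H : Subgroup G) (a b : H) : Group.IsSolvable (closure ({a, b} : Set H)) := by
  have := h a b
  have e : (closure ({a, b} : Set H)).map H.subtype = closure ({(a : G), (b : G)} : Set G) := by
    rw [MonoidHom.map_closure, Set.image_pair]; rfl
  rw [← e] at this
  exact Group.isSolvable_of_surjective
    (f := (equivMapOfInjective (closure ({a, b} : Set H)) _ H.subtype_injective).symm.toMonoidHom)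
    (equivMapOfInjective (closure ({a, b} : Set H)) _ H.subtype_injective).symm.surjective

omit [Finite G] hp in
theorem two_map {K : Type*} [Group K] (f : G →* K) {a b : G}
    (h : Group.IsSolvable (closure ({a, b} : Set G))) :
    Group.IsSolvable (closure ({f a, f b} : Set K)) := by
  have e : (closure ({a, b} : Set G)).map f = closure ({f a, f b} : Set K) := by
    rw [MonoidHom.map_closure, Set.image_pair]
  rw [← e]
  exact Group.isSolvable_of_surjective (f := f.subgroupMap _) (f.subgroupMap_surjective _)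

universe u

omit [Finite G] hp in
/-- **Thompson, Flavell**: a finite group in which any two elements generate a solvable subgroup
is solvable. -/
theorem isSolvable_of_two (G : Type u) [Group G] [Finite G]
    (h : ∀ a b : G, Group.IsSolvable (closure ({a, b} : Set G))) : Group.IsSolvable G := by
  induction hn : Nat.card G using Nat.strong_induction_on generalizing G with
  | _ n ih =>
  by_contra hs
  have hsub : ∀ H : Subgroup G, H ≠ ⊤ → Group.IsSolvable H := fun H hH =>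
    ih _ (hn ▸ lt_of_le_of_ne (card_le_card_group H) fun e => hH (eq_top_of_card_eq H e)) H
      (two_subgroup h H) rfl
  have hnt : Nontrivial G := by
    by_contra h1
    rw [not_nontrivial_iff_subsingleton] at h1
    exact hs inferInstance
  refine MC.false (G := G) ⟨⟨fun N hN => ?_⟩, hs, hsub, fun a b e => hs ?_⟩
  · by_contra hc
    push Not at hc
    have h1 := hsub N hc.2
    have h2 : Group.IsSolvable (G ⧸ N) := by
      refine ih _ ?_ (G ⧸ N) (fun a b => ?_) rfl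
      · rw [← hn, card_eq_card_quotient_mul_card_subgroup N]
        exact lt_mul_of_one_lt_right Nat.card_pos ((one_lt_card_iff_ne_bot N).2 hc.1)
      · obtain ⟨a, rfl⟩ := QuotientGroup.mk'_surjective N a
        obtain ⟨b, rfl⟩ := QuotientGroup.mk'_surjective N b
        exact two_map _ (h a b)
    exact hs (Group.isSolvable_of_ker_le_range N.subtype (QuotientGroup.mk' N) (by simp))
  · have := h a b
    rw [e] at this
    exact Group.isSolvable_of_surjective (f := (⊤ : Subgroup G).subtype)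
      fun x => ⟨⟨x, trivial⟩, rfl⟩

end Cfsg.Agent.TwoGen
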